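import Mathlib
import Cfsg.Agent.PLocal.AmbSyl
import Cfsg.Agent.Solv.Frobenius
import Cfsg.Agent.Solv.NilpAmb
import Cfsg.Agent.Grp.Fitting
import Cfsg.Agent.S0205
import Cfsg.Agent.S4249

/-! Normal partitions of finite groups: `K x` is the component containing `x ≠ 1`. -/

set_option autoImplicit false
set_option linter.unusedSectionVars false

namespace Cfsg.Agent.Part

open Subgroup Cfsg Cfsg.Agent.PLocal Cfsg.Agent.PLocal.Amb

variable {G : Type*} [Group G]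

/-- a conjugation invariant nontrivial partition -/
structure NP (K : G → Subgroup G) : Prop where
  self : ∀ x, x ∈ K x
  eq : ∀ {x y}, x ≠ 1 → y ≠ 1 → y ∈ K x → K y = K x
  conj : ∀ g x, K (g * x * g⁻¹) = cj(g, K x)
  ne_top : ∀ {x}, x ≠ 1 → K x ≠ ⊤

/-- no proper Hughes subgroup -/
def NoHughes (G : Type*) [Group G] : Prop :=
  ∀ p : ℕ, p.Prime → Subgroup.closure {g : G | g ^ p ≠ 1} = ⊤

/-- not a Frobenius group -/
def NoFrob (G : Type*) [Group G] : Prop := ∀ H : Subgroup G, ¬ IsFrobeniusComplement H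

theorem conj_ne_one' {g x : G} (h : x ≠ 1) : g * x * g⁻¹ ≠ 1 := fun e => h (by
  calc x = g⁻¹ * (g * x * g⁻¹) * g := by group
    _ = 1 := by rw [e]; group)

theorem exists_np (S : Set (Subgroup G)) (hS2 : ∃ H ∈ S, ∃ K ∈ S, H ≠ K)
    (hS1 : ∀ H ∈ S, H ≠ ⊥) (hpart : ∀ g : G, g ≠ 1 → ∃! H : Subgroup G, H ∈ S ∧ g ∈ H) :
    Nontrivial G ∧ ∃ K : G → Subgroup G, NP K := by
  classical
  let H : G → Subgroup G := fun x => if h : x ≠ 1 then (hpart x h).choose else ⊤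
  have h1 : ∀ x, x ≠ 1 → H x ∈ S ∧ x ∈ H x := fun x hx => by
    simp only [H, dif_pos hx]; exact (hpart x hx).choose_spec.1
  have h2 : ∀ x, x ≠ 1 → ∀ L ∈ S, x ∈ L → L = H x := fun x hx L hL hxL => by
    simp only [H, dif_pos hx]; exact (hpart x hx).choose_spec.2 L ⟨hL, hxL⟩
  have h3 : ∀ x, x ∈ H x := fun x => by
    by_cases hx : x = 1
    · rw [hx]; exact one_mem _
    · exact (h1 x hx).2
  have hmem : ∀ x y : G, y ∈ (⨅ g : G, cj(g⁻¹, H (g * x * g⁻¹))) ↔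
      ∀ g : G, g * y * g⁻¹ ∈ H (g * x * g⁻¹) := fun x y => by
    simp only [mem_iInf, mem_cj, inv_inv]
  obtain ⟨A, hA, B, hB, hAB⟩ := hS2
  constructor
  · obtain ⟨⟨a, _⟩, ha⟩ := ne_bot_iff_exists_ne_one.1 (hS1 A hA)
    exact ⟨⟨a, 1, fun e => ha (Subtype.ext e)⟩⟩
  refine ⟨fun x => ⨅ g : G, cj(g⁻¹, H (g * x * g⁻¹)), fun x => (hmem x x).2 fun g => h3 _,
    fun {x y} hx hy h => ?_, fun g x => ?_, fun {x} hx e => ?_⟩
  · refine iInf_congr fun g => ?_
    rw [h2 _ (conj_ne_one' hy) _ (h1 _ (conj_ne_one' hx)).1 ((hmem x y).1 h g)]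
  · ext y
    rw [mem_cj, hmem, hmem]
    constructor
    · intro h k
      have := h (k * g⁻¹)
      rwa [show k * g⁻¹ * (g * x * g⁻¹) * (k * g⁻¹)⁻¹ = k * x * k⁻¹ by group,
        show k * g⁻¹ * y * (k * g⁻¹)⁻¹ = k * (g⁻¹ * y * g) * k⁻¹ by group] at this
    · intro h k
      have := h (k * g)
      rwa [show k * g * x * (k * g)⁻¹ = k * (g * x * g⁻¹) * k⁻¹ by group,
        show k * g * (g⁻¹ * y * g) * (k * g)⁻¹ = k * y * k⁻¹ by group] at this
  · have e1 : H x = ⊤ := by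
      rw [eq_top_iff]
      intro y _
      simpa using (hmem x y).1 (e ▸ mem_top y) 1
    have key : ∀ L ∈ S, L = ⊤ := fun L hL => by
      obtain ⟨⟨a, haL⟩, ha⟩ := ne_bot_iff_exists_ne_one.1 (hS1 L hL)
      have ha' : a ≠ 1 := fun e => ha (Subtype.ext e)
      rw [h2 a ha' L hL haL, ← h2 a ha' _ (h1 x hx).1 (e1 ▸ mem_top a), e1]
    exact hAB ((key A hA).trans (key B hB).symm)

theorem pow_mul_mem {L : Subgroup G} {l c : G} (hl : l ∈ L) (hc : c ∈ 𝐍[L]) (n : ℕ) :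
    (l * c) ^ n * (c ^ n)⁻¹ ∈ L := by
  induction n with
  | zero => simp
  | succ n ih =>
    have : (l * c) ^ (n + 1) * (c ^ (n + 1))⁻¹ = l * (c * ((l * c) ^ n * (c ^ n)⁻¹) * c⁻¹) := by
      rw [pow_succ', pow_succ' c]; group
    rw [this]
    exact L.mul_mem hl (conj_mem_of_mem_normalizer hc ih)

theorem mul_pow_mem_iff {L : Subgroup G} {l c : G} (hl : l ∈ L) (hc : c ∈ 𝐍[L]) {n : ℕ} :
    (l * c) ^ n ∈ L ↔ c ^ n ∈ L := by
  have := pow_mul_mem hl hc n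
  constructor
  · intro h
    simpa using L.mul_mem (L.inv_mem this) h
  · intro h
    simpa using L.mul_mem this h

theorem pow_mem_of_mem_sup {L : Subgroup G} {y w : G} (hy : y ∈ 𝐍[L]) {n : ℕ} (h : y ^ n ∈ L)
    (hw : w ∈ L ⊔ zpowers y) : w ^ n ∈ L := by
  obtain ⟨l, hl, _, ⟨k, rfl⟩, rfl⟩ := (mem_sup_of_le_normalizer_left (zpowers_le.2 hy)).1 hw
  rw [mul_pow_mem_iff hl (zpow_mem hy k)]
  have : (y ^ k) ^ n = (y ^ n) ^ k := by rw [← zpow_natCast, ← zpow_mul, mul_comm, zpow_mul, zpow_natCast]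
  rw [this]
  exact zpow_mem h k

theorem mem_norm_of_normal (L : Subgroup G) [L.Normal] (g : G) : g ∈ 𝐍[L] := by
  rw [normalizer_eq_top]; trivial

section

variable {K : G → Subgroup G}

theorem NP.symm (h : NP K) {x y : G} (hx : x ≠ 1) (hy : y ≠ 1) (hm : y ∈ K x) : x ∈ K y := by
  rw [h.eq hx hy hm]; exact h.self x

/-- an element outside a component has no nontrivial power in it -/
theorem NP.pow_eq_one_of_mem (h : NP K) {x w : G} (hx : x ≠ 1) (hw : w ∉ K x) {n : ℕ}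
    (hn : w ^ n ∈ K x) : w ^ n = 1 := by
  by_contra h1
  have hw1 : w ≠ 1 := by rintro rfl; exact hw (one_mem _)
  apply hw
  rw [← h.eq hx h1 hn, h.eq hw1 h1 (pow_mem (h.self w) n)]
  exact h.self w

/-- distinct components meet trivially -/
theorem NP.eq_one (h : NP K) {x y z : G} (hx : x ≠ 1) (hy : y ∉ K x) (h1 : z ∈ K x)
    (h2 : z ∈ K y) : z = 1 := by
  by_contra hz
  have hy1 : y ≠ 1 := by rintro rfl; exact hy (one_mem _)
  apply hy
  rw [← h.eq hx hz h1, h.eq hy1 hz h2]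
  exact h.self y

theorem NP.pow_eq_one (h : NP K) {x y : G} (hx : x ≠ 1) (hy : y ∉ K x) (hc : Commute x y) {m : ℕ}
    (hm : x ^ m = 1) : y ^ m = 1 := by
  have hy1 : y ≠ 1 := by rintro rfl; exact hy (one_mem _)
  have h1 : x * y ∉ K y := fun hm => hy (h.symm hy1 hx ((mul_mem_cancel_right (h.self y)).1 hm))
  have h2 : (x * y) ^ m = y ^ m := by rw [hc.mul_pow, hm, one_mul]
  rw [← h2]
  exact h.pow_eq_one_of_mem hy1 h1 (h2 ▸ pow_mem (h.self y) m)

theorem NP.orderOf_eq (h : NP K) {x y : G} (hx : x ≠ 1) (hy : y ∉ K x) (hc : Commute x y) :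
    orderOf y = orderOf x := by
  have hy1 : y ≠ 1 := by rintro rfl; exact hy (one_mem _)
  exact Nat.dvd_antisymm (orderOf_dvd_of_pow_eq_one (h.pow_eq_one hx hy hc (pow_orderOf_eq_one x)))
    (orderOf_dvd_of_pow_eq_one (h.pow_eq_one hy1 (fun hm => hy (h.symm hy1 hx hm)) hc.symm
      (pow_orderOf_eq_one y)))

theorem NP.norm (h : NP K) {x g : G} (hx : x ≠ 1) (hg : g * x * g⁻¹ ∈ K x) : g ∈ 𝐍[K x] :=
  cj_eq_iff.1 (by rw [← h.conj, h.eq hx (conj_ne_one' hx) hg])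

theorem NP.norm_of_comm (h : NP K) {x g : G} (hx : x ≠ 1) (hg : Commute x g) : g ∈ 𝐍[K x] :=
  h.norm hx (by rw [← hg.eq, mul_inv_cancel_right]; exact h.self x)

variable [Finite G]

theorem NP.prime (h : NP K) {x y : G} (hx : x ≠ 1) (hy : y ∉ K x) (hc : Commute x y) :
    (orderOf x).Prime := by
  have h1 : orderOf x ≠ 1 := fun e => hx (orderOf_eq_one_iff.1 e)
  obtain ⟨p, hp, hd⟩ := Nat.exists_prime_and_dvd h1
  by_cases e : x ^ p = 1
  · rw [Nat.dvd_antisymm (orderOf_dvd_of_pow_eq_one e) hd]; exact hp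
  exfalso
  have h2 := h.orderOf_eq e (by rwa [h.eq hx e (pow_mem (h.self x) p)]) (hc.pow_left p)
  rw [h.orderOf_eq hx hy hc, orderOf_pow_of_dvd hp.ne_zero hd] at h2
  exact absurd h2 (Nat.div_lt_self (orderOf_pos x) hp.one_lt).ne'

end

variable [Finite G]

/-- Hughes–Thompson and Kegel: if all elements of `M` outside `L` have order `p` then `L` is nilpotent -/
theorem nilp_of_hughes {L M : Subgroup G} (hLM : L < M) {p : ℕ} (hp : p.Prime)
    (h : ∀ w ∈ M, w ∉ L → w ^ p = 1) : Group.IsNilpotent L := by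
  haveI : Fact p.Prime := ⟨hp⟩
  have e := subgroupOfEquivOfLe hLM.le
  suffices Group.IsNilpotent (L.subgroupOf M) from
    Group.nilpotent_of_surjective e.toMonoidHom e.surjective
  by_cases hM : IsPGroup p M
  · haveI := hM.isNilpotent
    infer_instance
  have hle : closure {g : M | g ^ p ≠ 1} ≤ L.subgroupOf M := by
    rw [closure_le]
    intro g hg
    by_contra hm
    exact hg (Subtype.ext (h g g.2 hm))
  have hne : L.subgroupOf M ≠ ⊤ := fun e => hLM.not_ge (subgroupOf_eq_top.1 e)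
  obtain ⟨h1, h2⟩ := S4249.result p hp hM fun e => hne (eq_top_iff.2 (e.ge.trans hle))
  have h3 : (L.subgroupOf M).index = p := by
    rcases (Nat.dvd_prime hp).1 (h2 ▸ index_dvd_of_le hle) with e | e
    · exact absurd (index_eq_one.1 e) hne
    · exact e
  have h4 : closure {g : M | g ^ p ≠ 1} = L.subgroupOf M := by
    refine le_antisymm hle (relIndex_eq_one.1 ?_)
    have := relIndex_mul_index hle
    rw [h2, h3] at this
    exact (Nat.mul_eq_right hp.ne_zero).1 this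
  rwa [h4] at h1

/-- a normal subgroup containing the centralizers of its nonidentity elements is a Frobenius kernel -/
theorem frob_of_cc {N : Subgroup G} [N.Normal] (h1 : N ≠ ⊥) (h2 : N ≠ ⊤)
    (h : ∀ x ∈ N, x ≠ 1 → ∀ c, Commute x c → c ∈ N) : ∃ H : Subgroup G, IsFrobeniusComplement H := by
  have hc : (Nat.card N).Coprime N.index := by
    refine Nat.coprime_of_dvd fun p hp d1 d2 => ?_
    haveI : Fact p.Prime := ⟨hp⟩
    obtain ⟨T, hT⟩ := exists_isSyl p (⊤ : Subgroup G)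
    have h3 := hT.inf_of_le (N := N) le_top fun g _ => mem_norm_of_normal N g
    have h4 : T ⊓ N ≠ ⊥ := fun e => h3.eq_bot_iff.1 e d1
    obtain ⟨⟨z, hz⟩, hz1⟩ := ne_bot_iff_exists_ne_one.1 (Amb.inf_centralizer_ne_bot hT.pgrp h3.pgrp
      (le_normalizer_inf le_normalizer fun g _ => mem_norm_of_normal N g) h4)
    have h5 : T ≤ N := fun c hc =>
      h z hz.1.2 (fun e => hz1 (Subtype.ext e)) c (show Commute c z from hz.2 c hc).symm
    refine hT.not_dvd_relIndex ?_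
    rw [relIndex_top_right]
    exact d2.trans (index_dvd_of_le h5)
  obtain ⟨H, hH⟩ := exists_right_complement'_of_coprime hc
  refine ⟨H, Solv.Frob.isFrobeniusComplement_of_fpf hH h1 ?_ fun a ha ha1 => ?_⟩
  · rintro rfl
    exact h2 (isComplement'_bot_right.1 hH)
  · rw [eq_bot_iff]
    rintro x ⟨hx, hc⟩
    by_contra hx1
    exact ha1 (disjoint_def.1 hH.disjoint
      (h x hx hx1 a (mem_centralizer_singleton_iff.1 hc)) ha)

theorem exists_pow_mem {L N : Subgroup G} (hn : N ≤ 𝐍[L]) {p : ℕ} (hp : p.Prime)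
    (hd : p ∣ L.relIndex N) : ∃ y ∈ N, y ∉ L ∧ y ^ p ∈ L := by
  haveI : Fact p.Prime := ⟨hp⟩
  haveI := normal_subgroupOf' hn
  obtain ⟨q, hq⟩ := exists_prime_orderOf_dvd_card' (G := N ⧸ L.subgroupOf N) p hd
  obtain ⟨y, rfl⟩ := QuotientGroup.mk_surjective q
  refine ⟨y, y.2, fun hm => ?_, ?_⟩
  · rw [(QuotientGroup.eq_one_iff (N := L.subgroupOf N) y).2 hm, orderOf_one] at hq
    exact hp.one_lt.ne hq
  · have := pow_orderOf_eq_one (y : N ⧸ L.subgroupOf N)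
    rw [hq, ← QuotientGroup.mk_pow] at this
    exact (QuotientGroup.eq_one_iff (N := L.subgroupOf N) (y ^ p)).1 this

/-- the components of a partition of a group that is not a Frobenius group are nilpotent -/
theorem NP.nilp {K : G → Subgroup G} (h : NP K) (hF : NoFrob G) {x : G} (hx : x ≠ 1) :
    Group.IsNilpotent (K x) := by
  have h1 : ¬ 𝐍[K x] ≤ K x := fun hle => hF (K x) (Solv.Frob.isFrobeniusComplement_iff.2
    ⟨fun e => hx (mem_bot.1 (e ▸ h.self x)), h.ne_top hx, fun g y hy hy1 hg => hle (by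
      rw [← h.eq hx hy1 hy] at hg ⊢; exact h.norm hy1 hg)⟩)
  obtain ⟨p, hp, hd⟩ := Nat.exists_prime_and_dvd fun e => h1 (relIndex_eq_one.1 e)
  obtain ⟨y, hy, hy1, hy2⟩ := exists_pow_mem le_rfl hp hd
  refine nilp_of_hughes (M := K x ⊔ zpowers y)
    (lt_of_le_of_ne le_sup_left fun e => hy1 (e ▸ mem_sup_right (mem_zpowers y))) hp
    fun w hw hw' => h.pow_eq_one_of_mem hx hw' (pow_mem_of_mem_sup hy hy2 hw)

/-- `L / H` is a nontrivial normal `s`-subgroup of `G / H` -/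
def PExt (s : ℕ) (H L : Subgroup G) : Prop := L.Normal ∧ H < L ∧ ∀ w ∈ L, ∃ k : ℕ, w ^ s ^ k ∈ H

/-- if the involutions of `G / H ≠ 1` are central then `O_s(G / H) ≠ 1` for some prime `s` -/
theorem exists_pExt {H : Subgroup G} [H.Normal] (h1 : H ≠ ⊤)
    (h : ∀ t, t ∉ H → t ^ 2 ∈ H → ∀ g, g * t * g⁻¹ * t⁻¹ ∈ H) : ∃ s L, s.Prime ∧ PExt s H L := by
  by_cases h2 : 2 ∣ H.index
  · obtain ⟨t, -, ht, ht2⟩ := exists_pow_mem (L := H) (N := ⊤) (fun g _ => mem_norm_of_normal H g)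
      Nat.prime_two (by rwa [relIndex_top_right])
    refine ⟨2, H ⊔ zpowers t, Nat.prime_two, ?_,
      lt_of_le_of_ne le_sup_left fun e => ht (e ▸ mem_sup_right (mem_zpowers t)),
      fun w hw => ⟨1, pow_mem_of_mem_sup (mem_norm_of_normal H t) (by simpa using ht2) hw⟩⟩
    refine normalizer_eq_top_iff.1 (eq_top_iff.2 fun g _ => mem_normalizer_of_cj_le ?_)
    rw [cj_sup, cj_of_normal]
    refine sup_le le_sup_left (cj_le_iff.2 (zpowers_le.2 (mem_cj.2 ?_)))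
    have : g⁻¹⁻¹ * t * g⁻¹ = (g * t * g⁻¹ * t⁻¹) * t := by group
    rw [this]
    exact mul_mem_sup (h t ht ht2 g) (mem_zpowers t)
  haveI : Group.IsSolvable (G ⧸ H) :=
    S0205.result (Nat.odd_iff.2 (Nat.two_dvd_ne_zero.1 h2))
  haveI : Nontrivial (G ⧸ H) := QuotientGroup.nontrivial_iff.2 h1
  obtain ⟨s, hs, hne⟩ := Grp.exists_pCore_ne_bot (G ⧸ H)
  refine ⟨s, (pCore s (G ⧸ H)).comap (QuotientGroup.mk' H), hs, inferInstance,
    lt_of_le_of_ne (fun x hx => ?_) fun e => hne ?_, fun w hw => ?_⟩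
  · rw [mem_comap, QuotientGroup.mk'_apply, (QuotientGroup.eq_one_iff x).2 hx]; exact one_mem _
  · rw [eq_bot_iff]
    intro q hq
    obtain ⟨x, rfl⟩ := QuotientGroup.mk_surjective q
    exact (QuotientGroup.eq_one_iff x).2 (e ▸ hq)
  · obtain ⟨k, hk⟩ := isPGroup_iff.1 (isPGroup_pCore' s (G ⧸ H)) _ hw
    exact ⟨k, (QuotientGroup.eq_one_iff _).1 (by rw [QuotientGroup.mk_pow]; exact hk)⟩

/-- two elements inverting `H` differ by an element of `C(H)` -/
theorem mul_inv_mem_cent {H : Subgroup G} [hn : H.Normal] {t : G} (h : ∀ x ∈ H, t * x * t⁻¹ = x⁻¹)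
    (g : G) : g * t * g⁻¹ * t⁻¹ ∈ 𝐂[H] := by
  intro x hx
  have h1 := h _ (hn.conj_mem' _ (H.inv_mem hx) g)
  have h2 := h _ (H.inv_mem hx)
  have h3 : t⁻¹ * x * t = x⁻¹ := by
    calc t⁻¹ * x * t = t⁻¹ * (x⁻¹)⁻¹ * t := by rw [inv_inv]
      _ = t⁻¹ * (t * x⁻¹ * t⁻¹) * t := by rw [h2]
      _ = _ := by group
  calc x * (g * t * g⁻¹ * t⁻¹) = g * (g⁻¹ * x⁻¹ * g)⁻¹ * t * g⁻¹ * t⁻¹ := by group
    _ = g * (t * (g⁻¹ * x⁻¹ * g) * t⁻¹) * t * g⁻¹ * t⁻¹ := by rw [h1]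
    _ = g * t * g⁻¹ * x⁻¹ * t⁻¹ := by group
    _ = g * t * g⁻¹ * (t⁻¹ * x * t) * t⁻¹ := by rw [h3]
    _ = _ := by group

theorem exists_pow_orderOf_eq {w : G} {r : ℕ} (hd : r ∣ orderOf w) :
    orderOf (w ^ (orderOf w / r)) = r :=
  orderOf_pow_orderOf_div (orderOf_pos w).ne' hd

/-- a `p`-element normalizing a `p`-group `R ≠ 1` centralizes a nonidentity element of `R` -/
theorem exists_commute {p : ℕ} [Fact p.Prime] {R : Subgroup G} (hR : IsPGroup p R) (h1 : R ≠ ⊥)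
    {u : G} (hu : ∃ k : ℕ, u ^ p ^ k = 1) (hn : u ∈ 𝐍[R]) : ∃ v ∈ R, v ≠ 1 ∧ Commute u v := by
  obtain ⟨⟨z, hz⟩, hz1⟩ := ne_bot_iff_exists_ne_one.1
    (Amb.inf_centralizer_ne_bot (isPGroup_zpowers hu) hR (zpowers_le.2 hn) h1)
  exact ⟨z, hz.1, fun e => hz1 (Subtype.ext e), hz.2 u (mem_zpowers u)⟩

end Cfsg.Agent.Part
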