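import Mathlib
import Cfsg.Agent.Part.NP

/-! Partitions: the Fitting subgroup does not lie in a component. -/

set_option autoImplicit false
set_option linter.unusedSectionVars false

namespace Cfsg.Agent.Part

open Subgroup Cfsg Cfsg.Agent.PLocal Cfsg.Agent.PLocal.Amb

variable {G : Type*} [Group G] [Finite G] {K : G → Subgroup G}

theorem coprime_of_pow_eq_one {w : G} {r s : ℕ} (hr : r.Prime) (hs : s.Prime) (hne : r ≠ s) {k : ℕ}
    (h : w ^ r ^ k = 1) (j : ℕ) : (orderOf w).Coprime (s ^ j) :=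
  (((Nat.coprime_primes hr hs).2 hne).pow k j).coprime_dvd_left (orderOf_dvd_of_pow_eq_one h)

theorem dvd_orderOf_of_pow_mem {L : Subgroup G} {w : G} {r : ℕ} (hr : r.Prime) (hw : w ∉ L)
    (h : w ^ r ∈ L) : r ∣ orderOf w := by
  by_contra hd
  exact hw (mem_of_pow_mem_of_coprime h ((hr.coprime_iff_not_dvd.2 hd).symm))

theorem lt_sup_zpowers {L : Subgroup G} {y : G} (hy : y ∉ L) : L < L ⊔ zpowers y :=
  lt_of_le_of_ne le_sup_left fun e => hy (e ▸ mem_sup_right (mem_zpowers y))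

theorem NP.not_fitting_le (h : NP K) (hH : NoHughes G) (hF : NoFrob G) {x₀ : G} (hx : x₀ ≠ 1)
    (hxF : x₀ ∈ fittingSubgroup G) : ¬ fittingSubgroup G ≤ K x₀ := by
  intro hle
  haveI hFn := Grp.fitting_normal G
  haveI hn : (K x₀).Normal := normalizer_eq_top_iff.1
    (eq_top_iff.2 fun g _ => h.norm hx (hle (hFn.conj_mem _ hxF g)))
  set H := K x₀ with hHdef
  have hHF : H ≤ fittingSubgroup G := Grp.le_fitting hn (h.nilp hF hx)
  have hout : ∀ {w : G}, w ∉ H → ∀ {n : ℕ}, w ^ n ∈ H → w ^ n = 1 := fun hw _ hn =>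
    h.pow_eq_one_of_mem hx hw hn
  have hH1 : H ≠ ⊥ := fun e => hx (mem_bot.1 (e ▸ h.self x₀))
  obtain ⟨a, ha, ha1, y, hay, hy⟩ : ∃ a ∈ H, a ≠ 1 ∧ ∃ y, Commute a y ∧ y ∉ H := by
    by_contra h0
    push Not at h0
    obtain ⟨L, hL⟩ := frob_of_cc hH1 (h.ne_top hx) h0
    exact hF L hL
  have hKa : K a = H := h.eq hx ha1 ha
  have hr : (orderOf a).Prime := h.prime ha1 (hKa ▸ hy) hay
  have hyr : orderOf y = orderOf a := h.orderOf_eq ha1 (hKa ▸ hy) hay
  obtain ⟨r, hra⟩ : ∃ r, orderOf a = r := ⟨_, rfl⟩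
  rw [hra] at hr hyr
  haveI : Fact r.Prime := ⟨hr⟩
  have har : a ^ r = 1 := hra ▸ pow_orderOf_eq_one a
  have hRH : pCore r G ≤ H := (Grp.pCore_le_fitting r).trans hle
  have hR1 : pCore r G ≠ ⊥ := fun e => ha1 (mem_bot.1 (e ▸ Grp.le_pCore_of_le_fitting
    (isPGroup_zpowers ⟨1, by rwa [pow_one]⟩) (zpowers_le.2 (hHF ha)) (mem_zpowers a)))
  -- elements outside `H` of order divisible by `r` have order `r`
  have hA : ∀ w, w ∉ H → r ∣ orderOf w → w ^ r = 1 := by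
    intro w hw hd
    have ho := exists_pow_orderOf_eq hd
    set u := w ^ (orderOf w / r) with hu
    have hu1 : u ≠ 1 := fun e => hr.one_lt.ne (by rw [← ho, e, orderOf_one])
    have hw1 : w ≠ 1 := by rintro rfl; exact hw (one_mem _)
    obtain ⟨v, hv, hv1, hc⟩ := exists_commute (isPGroup_pCore' r G) hR1 (u := u)
      ⟨1, by rw [pow_one, ← ho, pow_orderOf_eq_one]⟩ (mem_norm_of_normal _ u)
    have hKu : K u = K w := h.eq hw1 hu1 (pow_mem (h.self w) _)
    have h1 : v * w ∉ K u := fun hm => by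
      rw [hKu, mul_mem_cancel_right (h.self w)] at hm
      have := h.symm hw1 hv1 hm
      rw [h.eq hx hv1 (hRH hv)] at this
      exact hw this
    have h2 := h.pow_eq_one hu1 h1 (hc.mul_right ((Commute.refl w).pow_left _))
      (ho ▸ pow_orderOf_eq_one u)
    exact hout hw ((mul_pow_mem_iff (hRH hv) (mem_norm_of_normal H w)).1 (h2 ▸ one_mem H))
  -- an element of prime order `s ≠ r` outside `H`
  obtain ⟨z, hz, s, hs, hsr, hzs⟩ : ∃ z, z ∉ H ∧ ∃ s : ℕ, s.Prime ∧ s ≠ r ∧ z ^ s = 1 := by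
    obtain ⟨w, hw, hw'⟩ : ∃ w, w ∉ H ∧ w ^ r ≠ 1 := by
      by_contra h0
      push Not at h0
      refine h.ne_top hx (eq_top_iff.2 ((hH r hr).ge.trans ((closure_le _).2 fun g hg => ?_)))
      by_contra hm
      exact hg (h0 g hm)
    have hw1 : orderOf w ≠ 1 := fun e => hw (orderOf_eq_one_iff.1 e ▸ one_mem H)
    obtain ⟨s, hs, hd⟩ := Nat.exists_prime_and_dvd hw1
    have ho := exists_pow_orderOf_eq hd
    refine ⟨w ^ (orderOf w / s), fun hm => hs.one_lt.ne ?_, s, hs, ?_, ?_⟩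
    · rw [← ho, hout hw hm, orderOf_one]
    · rintro rfl
      exact hw' (hA w hw hd)
    · exact orderOf_dvd_iff_pow_eq_one.1 ho.dvd
  have hnil : ∀ {L : Subgroup G}, L.Normal → H < L → ∀ {u : G} {q : ℕ}, q.Prime → u ∉ L →
      (∀ w ∈ L ⊔ zpowers u, w ∉ L → w ^ q = 1) → False := fun hL hHL u q hq hu hw =>
    hHL.not_ge ((Grp.le_fitting hL (nilp_of_hughes (lt_sup_zpowers hu) hq hw)).trans hle)
  -- `O_r(G / H) = 1`
  have hOr : ∀ L, ¬ PExt r H L := by
    rintro L ⟨hL, hHL, hp⟩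
    have hzL : z ∉ L := fun hm => by
      obtain ⟨k, hk⟩ := hp z hm
      exact hz (mem_of_pow_mem_of_coprime hk
        (coprime_of_pow_eq_one hs hr hsr (k := 1) (by rwa [pow_one]) k))
    refine hnil hL hHL hs hzL fun w hw hw' => ?_
    have h1 : w ^ s ∈ L := pow_mem_of_mem_sup (mem_norm_of_normal L z) (hzs ▸ one_mem L) hw
    have hwH : w ∉ H := fun hm => hw' (hHL.le hm)
    obtain ⟨k, hk⟩ := hp _ h1
    rw [← pow_mul] at hk
    have h2 : ¬ r ∣ orderOf w := fun hd => hw' (mem_of_pow_mem_of_coprime h1 (by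
      simpa using coprime_of_pow_eq_one hr hs hsr.symm (k := 1) (by rw [pow_one]; exact hA w hwH hd) 1))
    exact orderOf_dvd_iff_pow_eq_one.1
      (((hr.coprime_iff_not_dvd.2 h2).symm.pow_right k).dvd_of_dvd_mul_right
        (orderOf_dvd_of_pow_eq_one (hout hwH hk)))
  have hyr' : y ^ r = 1 := hyr ▸ pow_orderOf_eq_one y
  -- `O_s(G / H) = 1` for `s ≠ r`
  have hOs : ∀ q : ℕ, q.Prime → ∀ L, ¬ PExt q H L := by
    rintro q hq L ⟨hL, hHL, hp⟩
    by_cases hqr : q = r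
    · exact hOr L ⟨hL, hHL, hqr ▸ hp⟩
    have hyL : y ∉ L := fun hm => by
      obtain ⟨k, hk⟩ := hp y hm
      exact hy (mem_of_pow_mem_of_coprime hk
        (coprime_of_pow_eq_one hr hq (Ne.symm hqr) (k := 1) (by rwa [pow_one]) k))
    refine hnil hL hHL hr hyL fun w hw hw' => hA w (fun hm => hw' (hHL.le hm))
      (dvd_orderOf_of_pow_mem hr hw' ?_)
    exact pow_mem_of_mem_sup (mem_norm_of_normal L y) (hyr' ▸ one_mem L) hw
  have hC : 𝐂[H] ≤ H := by
    by_contra h0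
    refine hOr (H ⊔ 𝐂[H]) ⟨inferInstance, lt_of_le_of_ne le_sup_left
      fun e => h0 (le_sup_right.trans e.ge), fun w hw => ⟨1, ?_⟩⟩
    obtain ⟨l, hl, c, hc, rfl⟩ :=
      (mem_sup_of_le_normalizer_left (centralizer_le_normalizer' H)).1 hw
    rw [pow_one, mul_pow_mem_iff hl (mem_norm_of_normal H c)]
    by_cases hcH : c ∈ H
    · exact pow_mem hcH r
    · rw [h.pow_eq_one ha1 (hKa ▸ hcH) (hc a ha) har]; exact one_mem H
  obtain ⟨q, L, hq, hL⟩ := exists_pExt (h.ne_top hx) fun t ht ht2 g => hC (mul_inv_mem_cent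
    (fun v hv => by
      have h1 : v * t ∉ H := by rwa [mul_mem_cancel_left hv]
      have h2 := hout h1 ((mul_pow_mem_iff hv (mem_norm_of_normal H t)).2 ht2)
      have h3 := hout ht ht2
      rw [pow_two] at h2 h3
      rw [eq_inv_iff_mul_eq_one, inv_eq_of_mul_eq_one_right h3]
      calc t * v * t * v = t * (v * t * (v * t)) * t⁻¹ := by group
        _ = 1 := by rw [h2]; group) g)
  exact hOs q hq L hL

end Cfsg.Agent.Part
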