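import Mathlib
import Cfsg.Agent.Part.CaseA
import Cfsg.Agent.PLocal.BenderPair
import Cfsg.Agent.Char.InvSylow
import Cfsg.Agent.Inv.AutTwo
import Cfsg.Agent.Misc.Four
import Cfsg.Agent.Class.SmallGroupIso

/-! Partitions: if `F(G) ≠ 1` then `G ≅ S₄` (unless `G` is a Frobenius group or has a proper
Hughes subgroup). -/

set_option autoImplicit false
set_option linter.unusedSectionVars false

namespace Cfsg.Agent.Part

open Subgroup Cfsg Cfsg.Agent.PLocal Cfsg.Agent.PLocal.Amb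

variable {G : Type*} [Group G] [Finite G] {K : G → Subgroup G}

omit [Finite G] in
theorem mul_pow_mul {Z : Subgroup G} (hZ : ∀ a ∈ Z, ∀ b ∈ Z, a * b = b * a) {w : G} (hw : w ∈ 𝐍[Z])
    {a b : G} (ha : a ∈ Z) (hb : b ∈ Z) (n : ℕ) :
    (a * b * w) ^ n * (w ^ n)⁻¹ = ((a * w) ^ n * (w ^ n)⁻¹) * ((b * w) ^ n * (w ^ n)⁻¹) := by
  have e : ∀ (x : G) (n : ℕ), (x * w) ^ (n + 1) * (w ^ (n + 1))⁻¹ =
      x * (w * ((x * w) ^ n * (w ^ n)⁻¹) * w⁻¹) := fun x n => by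
    rw [pow_succ', pow_succ' w]; group
  induction n with
  | zero => simp
  | succ n ih =>
    rw [e, e, e, ih]
    have := hZ b hb _ (conj_mem_of_mem_normalizer hw (pow_mul_mem ha hw n))
    set u := (a * w) ^ n * (w ^ n)⁻¹
    set v := (b * w) ^ n * (w ^ n)⁻¹
    calc a * b * (w * (u * v) * w⁻¹) = a * (b * (w * u * w⁻¹)) * (w * v * w⁻¹) := by group
      _ = _ := by rw [this]; group

/-- the situation `F(G) = O_p(G)` not contained in a component -/
structure CaseB (K : G → Subgroup G) (p : ℕ) (F : Subgroup G) : Prop where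
  np : NP K
  nilp : ∀ x, x ≠ 1 → Group.IsNilpotent (K x)
  max : ∀ L : Subgroup G, L.Normal → Group.IsNilpotent L → L ≤ F
  pgrp : IsPGroup p F
  ne_bot : F ≠ ⊥
  not_le : ∀ f ∈ F, f ≠ 1 → ¬ F ≤ K f

theorem NP.caseB (h : NP K) (hH : NoHughes G) (hF : NoFrob G) (h1 : fittingSubgroup G ≠ ⊥) :
    ∃ p : ℕ, p.Prime ∧ CaseB K p (fittingSubgroup G) := by
  have hnl : ∀ f ∈ fittingSubgroup G, f ≠ 1 → ¬ fittingSubgroup G ≤ K f := fun f hf hf1 =>
    h.not_fitting_le hH hF hf1 hf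
  obtain ⟨⟨z, hz⟩, hz1⟩ := ne_bot_iff_exists_ne_one.1
    (inf_centralizer_ne_bot_of_isNilpotent (Grp.fitting_isNilpotent G) h1)
  have hz1' : z ≠ 1 := fun e => hz1 (Subtype.ext e)
  obtain ⟨f, hf, hf'⟩ := SetLike.not_le_iff_exists.1 (hnl z hz.1 hz1')
  have hc : ∀ g ∈ fittingSubgroup G, Commute z g := fun g hg => (show Commute g z from hz.2 g hg).symm
  have hp := h.prime hz1' hf' (hc f hf)
  haveI : Fact (orderOf z).Prime := ⟨hp⟩
  refine ⟨_, hp, h, fun x hx => h.nilp hF hx, fun L => Grp.le_fitting,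
    isPGroup_of_forall_coprime fun g hg hco => ?_, h1, hnl⟩
  have key : ∀ w ∈ fittingSubgroup G, w ∉ K z → w ^ orderOf z = 1 := fun w hw hw' =>
    h.pow_eq_one hz1' hw' (hc w hw) (pow_orderOf_eq_one z)
  refine orderOf_eq_one_iff.1 (hco.eq_one_of_dvd (orderOf_dvd_of_pow_eq_one ?_))
  by_cases hgK : g ∈ K z
  · have h2 := key (g * f) (mul_mem hg hf) (by rwa [mul_mem_cancel_left hgK])
    have h3 : Commute g f := Solv.NA.commute_of_mem (Grp.fitting_isNilpotent G) hg hf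
      (by rw [h.orderOf_eq hz1' hf' (hc f hf)]; exact hco)
    rwa [h3.mul_pow, key f hf hf', mul_one] at h2
  · exact key g hg hgK

namespace CaseB

variable {p : ℕ} [hp : Fact p.Prime] {F : Subgroup G} [hFn : F.Normal] (h : CaseB K p F)
include h

theorem eq_one {c : G} (hc : (orderOf c).Coprime p) {k : ℕ} (hk : c ^ p ^ k ∈ F) : c = 1 :=
  eq_one_of_isPGroup_of_coprime h.pgrp (mem_of_pow_mem_of_coprime hk (hc.pow_right k)) hc

theorem Z_pow {z : G} (hz : z ∈ F ⊓ 𝐂[F]) : z ^ p = 1 := by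
  by_cases hz1 : z = 1
  · rw [hz1, one_pow]
  obtain ⟨f, hf, hf'⟩ := SetLike.not_le_iff_exists.1 (h.not_le z hz.1 hz1)
  have h1 := h.np.prime hz1 hf' (show Commute f z from hz.2 f hf).symm
  obtain ⟨k, hk⟩ := isPGroup_iff.1 h.pgrp z hz.1
  have h2 := (Nat.prime_dvd_prime_iff_eq h1 hp.out).1
    (h1.dvd_of_dvd_pow (orderOf_dvd_of_pow_eq_one hk))
  exact orderOf_dvd_iff_pow_eq_one.1 h2.dvd

theorem cent_pow {z c : G} (hz : z ∈ F ⊓ 𝐂[F]) (hz1 : z ≠ 1) (hc : Commute z c) : c ^ p ∈ F := by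
  by_cases hcK : c ∈ K z
  · obtain ⟨f, hf, hf'⟩ := SetLike.not_le_iff_exists.1 (h.not_le z hz.1 hz1)
    have h1 := h.np.pow_eq_one hz1 (y := f * c) (by rwa [mul_mem_cancel_right hcK])
      ((show Commute f z from hz.2 f hf).symm.mul_right hc) (h.Z_pow hz)
    exact (mul_pow_mem_iff hf (mem_norm_of_normal F c)).1 (h1 ▸ one_mem F)
  · rw [h.np.pow_eq_one hz1 hcK hc (h.Z_pow hz)]; exact one_mem F

theorem exists_Z {u : G} (hu : ∃ k : ℕ, u ^ p ^ k = 1) :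
    ∃ z ∈ F ⊓ 𝐂[F], z ≠ 1 ∧ Commute u z :=
  exists_commute (h.pgrp.to_le inf_le_left)
    (inf_centralizer_ne_bot_of_isNilpotent h.pgrp.isNilpotent h.ne_bot) hu (mem_norm_of_normal _ u)

/-- nonidentity `p`-elements commute with no `p'`-element -/
theorem sep {u c : G} (hu : ∃ k : ℕ, u ^ p ^ k = 1) (hu1 : u ≠ 1) (hc : Commute u c)
    (hco : (orderOf c).Coprime p) : c = 1 := by
  obtain ⟨z, hz, hz1, hzc⟩ := h.exists_Z hu
  obtain ⟨k, hk⟩ := hu
  by_cases h1 : c ∈ K u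
  swap
  · exact h.eq_one hco (k := k) (h.np.pow_eq_one hu1 h1 hc hk ▸ one_mem F)
  by_cases h2 : z * c ∈ K u
  swap
  · refine h.eq_one hco (k := k) ((mul_pow_mem_iff hz.1 (mem_norm_of_normal F c)).1 ?_)
    rw [h.np.pow_eq_one hu1 h2 (hzc.mul_right hc) hk]; exact one_mem F
  rw [mul_mem_cancel_right h1] at h2
  have h3 : Commute z c := Solv.NA.commute_of_mem (h.nilp u hu1) h2 h1
    (hco.symm.coprime_dvd_left (orderOf_dvd_of_pow_eq_one (h.Z_pow hz)))
  exact h.eq_one hco (k := 1) (by rw [pow_one]; exact h.cent_pow hz hz1 h3)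

theorem pelem_of_commute {u c : G} (hu : ∃ k : ℕ, u ^ p ^ k = 1) (hu1 : u ≠ 1) (hc : Commute u c) :
    ∃ k : ℕ, c ^ p ^ k = 1 := by
  obtain ⟨k, hk⟩ := exists_pow_coprime (p := p) c
  exact ⟨k, h.sep hu hu1 (hc.pow_right _) hk⟩

theorem pelem_of_dvd {w : G} (hd : p ∣ orderOf w) : ∃ k : ℕ, w ^ p ^ k = 1 := by
  have ho := exists_pow_orderOf_eq hd
  refine h.pelem_of_commute (u := w ^ (orderOf w / p))
    ⟨1, by rw [pow_one]; exact orderOf_dvd_iff_pow_eq_one.1 ho.dvd⟩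
    (fun e => hp.out.one_lt.ne (by rw [← ho, e, orderOf_one])) ((Commute.refl w).pow_left _)

theorem cent_le : 𝐂[F ⊓ 𝐂[F]] ≤ F := by
  obtain ⟨z, hz, hz1, -⟩ := h.exists_Z (u := 1) ⟨0, by simp⟩
  refine h.max _ inferInstance (IsPGroup.isNilpotent (p := p) (isPGroup_iff.2 fun c hc => ?_))
  exact h.pelem_of_commute ⟨1, by rw [pow_one]; exact h.Z_pow hz⟩ hz1 (hc z hz)

theorem not_pExt {L : Subgroup G} : ¬ PExt p F L := by
  rintro ⟨hL, hFL, hp⟩
  refine hFL.not_ge (h.max _ hL (IsPGroup.isNilpotent (p := p) (isPGroup_iff.2 fun c hc => ?_)))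
  obtain ⟨k, hk⟩ := hp c hc
  obtain ⟨j, hj⟩ := isPGroup_iff.1 h.pgrp _ hk
  exact ⟨k + j, by rw [pow_add, pow_mul, hj]⟩

theorem dvd_index (hH : NoHughes G) (hF : NoFrob G) : p ∣ F.index := by
  by_contra hd
  by_cases hT : F = ⊤
  · obtain ⟨z, hz, hz1, -⟩ := h.exists_Z (u := 1) ⟨0, by simp⟩
    refine h.np.ne_top hz1 (eq_top_iff.2 ((hH p hp.out).ge.trans ((closure_le _).2 fun g hg => ?_)))
    by_contra hm
    exact hg (h.np.pow_eq_one hz1 hm (show Commute g z from hz.2 g (hT ▸ mem_top g)).symm (h.Z_pow hz))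
  obtain ⟨L, hL⟩ := frob_of_cc h.ne_bot hT fun f hf hf1 c hc => by
    obtain ⟨k, hk⟩ := h.pelem_of_commute (isPGroup_iff.1 h.pgrp f hf) hf1 hc
    exact mem_of_pow_mem_of_coprime (pow_index_mem F c)
      (((hp.out.coprime_iff_not_dvd.2 hd).pow_left k).coprime_dvd_left (orderOf_dvd_of_pow_eq_one hk))
  exact hF L hL

/-- a `p`-element outside `F` of order not `p` -/
theorem exists_of_pow_ne_one {w : G} (hw : w ∉ F) (h1 : w ^ p ∈ F) (h2 : w ^ p ≠ 1) :
    ∃ z ∈ F ⊓ 𝐂[F], z ≠ 1 ∧ w ∈ K z ∧ (∃ g : G, g * z * g⁻¹ ∉ K z) ∧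
      ∀ f ∈ F, f ∉ K z → (f * w) ^ p = 1 := by
  obtain ⟨j, hj⟩ := isPGroup_iff.1 h.pgrp _ h1
  obtain ⟨z, hz, hz1, hc⟩ := h.exists_Z (u := w) ⟨1 + j, by rw [pow_add, pow_one, pow_mul, hj]⟩
  have hwK : w ∈ K z := by
    by_contra hm
    exact h2 (h.np.pow_eq_one hz1 hm hc.symm (h.Z_pow hz))
  refine ⟨z, hz, hz1, hwK, ?_, fun f hf hf' => h.np.pow_eq_one hz1
    (by rwa [mul_mem_cancel_right hwK]) ((show Commute f z from hz.2 f hf).symm.mul_right hc.symm)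
    (h.Z_pow hz)⟩
  by_contra h0
  push Not at h0
  exact hw (h.max _ (normalizer_eq_top_iff.1 (eq_top_iff.2 fun g _ => h.np.norm hz1 (h0 g)))
    (h.nilp z hz1) hwK)

theorem pow_eq_one_of_odd (hp2 : p ≠ 2) {w : G} (hw : w ∉ F) (h1 : w ^ p ∈ F) : w ^ p = 1 := by
  by_contra h2
  obtain ⟨z, hz, hz1, -, ⟨g, hg⟩, hf⟩ := h.exists_of_pow_ne_one hw h1 h2
  have hv : g * z * g⁻¹ ∈ F ⊓ 𝐂[F] := (inferInstance : (F ⊓ 𝐂[F]).Normal).conj_mem z hz g
  set v := g * z * g⁻¹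
  have hv2 : v * v ∉ K z := fun hm => hg (mem_of_pow_mem_of_coprime (n := 2) (by rwa [pow_two])
    (((Nat.coprime_primes hp.out Nat.prime_two).2 hp2).coprime_dvd_left
      (orderOf_dvd_of_pow_eq_one (h.Z_pow hv))))
  have := mul_pow_mul (Z := F ⊓ 𝐂[F]) (fun a ha b hb => hb.2 a ha.1) (mem_norm_of_normal _ w) hv hv p
  rw [hf _ hv.1 hg, hf _ (mul_mem hv.1 hv.1) hv2, one_mul] at this
  exact h2 (by simpa using this)

theorem two (hH : NoHughes G) (hF : NoFrob G) : p = 2 := by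
  by_contra hp2
  have hd := h.dvd_index hH hF
  obtain ⟨y, -, hy, hy2⟩ := exists_pow_mem (L := F) (N := ⊤) (fun g _ => mem_norm_of_normal F g)
    hp.out (by rwa [relIndex_top_right])
  have hco : p.Coprime 2 := (Nat.coprime_primes hp.out Nat.prime_two).2 hp2
  obtain ⟨s, L, hs, hL⟩ := exists_pExt (H := F) (fun e => hy (e ▸ mem_top y)) fun t ht ht2 g => by
    have h1 : ¬ p ∣ orderOf t := fun hd => by
      obtain ⟨k, hk⟩ := h.pelem_of_dvd hd
      exact ht (mem_of_pow_mem_of_coprime ht2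
        ((hco.pow_left k).coprime_dvd_left (orderOf_dvd_of_pow_eq_one hk)))
    have h2 : (orderOf t).Coprime p := (hp.out.coprime_iff_not_dvd.2 h1).symm
    have h3 : t ^ 2 = 1 := eq_one_of_isPGroup_of_coprime h.pgrp ht2
      (h2.coprime_dvd_left (orderOf_pow_dvd 2))
    refine h.cent_le (centralizer_anti inf_le_left (mul_inv_mem_cent (fun x hx =>
      Char.conj_eq_inv_of_fixedPointFree (by rwa [← pow_two]) (mem_norm_of_normal F t)
        (fun x hx hc => ?_) hx) g))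
    by_contra hx1
    exact ht (h.sep (isPGroup_iff.1 h.pgrp x hx) hx1 (show Commute t x from hc).symm h2 ▸ one_mem F)
  have hsp : s ≠ p := by rintro rfl; exact h.not_pExt hL
  obtain ⟨hLn, hFL, hL⟩ := hL
  have key : ∀ w ∈ L, (∃ k : ℕ, w ^ p ^ k = 1) → w ∈ F := fun w hw ⟨j, hj⟩ => by
    obtain ⟨k, hk⟩ := hL w hw
    exact mem_of_pow_mem_of_coprime hk (coprime_of_pow_eq_one hp.out hs hsp.symm hj k)
  have hyL : y ∉ L := fun hm => hy (key y hm (h.pelem_of_dvd (dvd_orderOf_of_pow_mem hp.out hy hy2)))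
  refine hFL.not_ge (h.max L hLn (nilp_of_hughes (lt_sup_zpowers hyL) hp.out fun w hw hw' => ?_))
  have h1 : w ^ p ∈ L := pow_mem_of_mem_sup (mem_norm_of_normal L y) (hFL.le hy2) hw
  obtain ⟨k, hk⟩ := h.pelem_of_dvd (dvd_orderOf_of_pow_mem hp.out hw' h1)
  refine h.pow_eq_one_of_odd hp2 (fun hm => hw' (hFL.le hm)) (key _ h1 ⟨k, ?_⟩)
  rw [← pow_mul, mul_comm, pow_mul, hk, one_pow]

end CaseB

theorem CaseB.sym4 {F : Subgroup G} [hFn : F.Normal] (h : CaseB K 2 F) (hH : NoHughes G)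
    (hF : NoFrob G) : Nonempty (G ≃* Equiv.Perm (Fin 4)) := by
  have hd := h.dvd_index hH hF
  obtain ⟨w, hw, hw2, hw3⟩ : ∃ w, w ∉ F ∧ w ^ 2 ∈ F ∧ w ^ 2 ≠ 1 := by
    by_contra h0
    push Not at h0
    obtain ⟨y, -, hy, hy2⟩ := exists_pow_mem (L := F) (N := ⊤) (fun g _ => mem_norm_of_normal F g)
      Nat.prime_two (by rwa [relIndex_top_right])
    refine hy (h.cent_le fun z (hz : z ∈ F ⊓ 𝐂[F]) => ?_)
    have h1 := h0 y hy hy2
    have h2 := h0 (z * y) (by rwa [mul_mem_cancel_left (mem_inf.1 hz).1])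
      ((mul_pow_mem_iff hz.1 (mem_norm_of_normal F y)).2 hy2)
    have h3 := h.Z_pow hz
    rw [pow_two] at h1 h2 h3
    calc z * y = (z * y)⁻¹ := (inv_eq_of_mul_eq_one_right h2).symm
      _ = y * z := by rw [mul_inv_rev, inv_eq_of_mul_eq_one_right h1, inv_eq_of_mul_eq_one_right h3]
  obtain ⟨z, hz, hz1, -, ⟨g, hg⟩, hf⟩ := h.exists_of_pow_ne_one hw hw2 hw3
  have I2 : ∀ a ∈ F, ∀ b ∈ F, a ∉ K z → b ∉ K z → a * b ∈ K z := by
    intro a ha b hb ha' hb'
    by_contra hab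
    have e : ∀ f ∈ F, f ∉ K z → w * f * w⁻¹ = f * (w * w)⁻¹ := fun f hf1 hf2 => by
      have h1 := hf f hf1 hf2
      have h2 := h.np.pow_eq_one hz1 hf2 (show Commute f z from hz.2 f hf1).symm (h.Z_pow hz)
      rw [pow_two] at h1 h2
      calc w * f * w⁻¹ = f⁻¹ * (f * w * (f * w)) * (w * w)⁻¹ := by group
        _ = _ := by rw [h1, inv_eq_of_mul_eq_one_right h2, mul_one]
    have h1 := e _ (mul_mem ha hb) hab
    rw [show w * (a * b) * w⁻¹ = w * a * w⁻¹ * (w * b * w⁻¹) by group, e a ha ha', e b hb hb'] at h1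
    apply hw3
    rw [pow_two]
    exact inv_eq_one.1 (mul_eq_left.1 (mul_right_cancel (h1.trans (mul_assoc _ _ _))))
  have hv : g * z * g⁻¹ ∈ F ⊓ 𝐂[F] := (inferInstance : (F ⊓ 𝐂[F]).Normal).conj_mem z hz g
  have I2' : ∀ a ∈ F, ∀ b ∈ F, a ∉ K (g * z * g⁻¹) → b ∉ K (g * z * g⁻¹) →
      a * b ∈ K (g * z * g⁻¹) := by
    intro a ha b hb ha' hb'
    rw [h.np.conj, mem_cj] at ha' hb' ⊢
    have := I2 _ (hFn.conj_mem' a ha g) _ (hFn.conj_mem' b hb g) ha' hb'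
    convert this using 1; group
  set v := g * z * g⁻¹
  have hzz : z * z = 1 := by rw [← pow_two]; exact h.Z_pow hz
  have hvv : v * v = 1 := by rw [← pow_two]; exact h.Z_pow hv
  have hv1 : v ≠ 1 := by intro e; exact hg (e ▸ one_mem _)
  have hzv : z ≠ v := by intro e; exact hg (e ▸ h.np.self z)
  have hcomm : z * v = v * z := hv.2 z hz.1
  have h1 : ∀ a ∈ F, a ∈ K z → a = 1 ∨ a = z := fun a ha ha' => by
    by_cases ha1 : a = 1
    · exact Or.inl ha1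
    have := h.np.eq_one hz1 hg (mul_mem ha' (h.np.self z)) (I2' a ha z hz.1
      (fun hm => ha1 (h.np.eq_one hz1 hg ha' hm)) fun hm => hz1 (h.np.eq_one hz1 hg (h.np.self z) hm))
    right
    rw [eq_inv_of_mul_eq_one_left this, inv_eq_of_mul_eq_one_right hzz]
  have h2 : F = closure {z, v} := by
    refine le_antisymm (fun a ha => (Misc.mem_closure_pair_iff hzz hvv hcomm).2 ?_) ?_
    · by_cases ha' : a ∈ K z
      · rcases h1 a ha ha' with e | e <;> simp [e]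
      · have e : a = a * v * v := by rw [mul_assoc, hvv, mul_one]
        rcases h1 _ (mul_mem ha hv.1) (I2 a ha v hv.1 ha' hg) with e' | e'
        · rw [e', one_mul] at e; simp [e]
        · rw [e'] at e; simp [e]
    · rw [closure_le]
      rintro x (rfl | rfl)
      exacts [hz.1, hv.1]
  have h4 : IsKleinFour F := h2 ▸ Misc.isKleinFour_closure_pair hzz hvv hcomm hz1 hv1 hzv
  have h5 : F.index ∣ 6 := by
    have := Inv.relIndex_centralizer_kleinFour_dvd h4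
    rw [normalizer_eq_top, relIndex_top_right] at this
    exact (index_dvd_of_le ((centralizer_anti inf_le_left).trans h.cent_le)).trans this
  have h6 : F.index ≠ 2 := fun e => h.not_pExt (L := ⊤) ⟨inferInstance,
    lt_top_iff_ne_top.2 fun e => hw (e ▸ mem_top w), fun x _ => ⟨1, by
      have := pow_index_mem F x
      rwa [e] at this⟩⟩
  have h7 : F.index = 6 := by
    have := Nat.le_of_dvd (by norm_num) h5
    interval_cases F.index <;> omega
  refine Class.SmallIso.sym4_of_orders ?_ fun x hx => ?_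
  · rw [← card_mul_index F, h7, h4.card_four]
  · obtain ⟨k, hk⟩ := h.pelem_of_dvd (w := x) (by rw [hx]; norm_num)
    have := orderOf_dvd_of_pow_eq_one hk
    rw [hx] at this
    exact absurd (Nat.prime_three.dvd_of_dvd_pow ((by norm_num : 3 ∣ 6).trans this)) (by norm_num)

theorem NP.sym4 (h : NP K) (hH : NoHughes G) (hF : NoFrob G) (h1 : fittingSubgroup G ≠ ⊥) :
    Nonempty (G ≃* Equiv.Perm (Fin 4)) := by
  obtain ⟨p, hp, hB⟩ := h.caseB hH hF h1
  haveI : Fact p.Prime := ⟨hp⟩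
  obtain rfl := hB.two hH hF
  exact hB.sym4 hH hF

end Cfsg.Agent.Part
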