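import Mathlib
import Cfsg.Agent.GW.Cust
import Cfsg.Agent.GW.BTools
import Cfsg.Agent.GW.L2Model
import Cfsg.Agent.GW.A7Facts
import Cfsg.Agent.Class.PGL2Maximal
import Cfsg.Agent.Inv.CCInv

/-! Groups with dihedral Sylow 2-subgroups and `F(G) = 1` in which the non-involutions of the
centralizer of a 2-central involution commute: `PSL₂(q)` and `PGL₂(q)`. -/

set_option autoImplicit false
set_option linter.unusedSectionVars false

namespace Cfsg.Agent.Part

open Subgroup Cfsg Cfsg.Agent.PLocal Cfsg.Agent.PLocal.Amb Cfsg.Agent.GW Cfsg.Agent.Class.Dickson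
open scoped commutatorElement MatrixGroups

variable {G : Type*} [Group G] [Finite G]

theorem not_solvable_of_fitting [Nontrivial G] (hF : fittingSubgroup G = ⊥) : ¬ Group.IsSolvable G :=
  fun _ => Grp.fitting_ne_bot G hF

theorem eq_bot_of_odd (hF : fittingSubgroup G = ⊥) (N : Subgroup G) [N.Normal]
    (h : Odd (Nat.card N)) : N = ⊥ := by
  by_contra h0
  haveI := S0205.result h
  exact Grp.fitting_inf_ne_bot N h0 (by rw [hF, bot_inf_eq])

theorem core_top_eq_bot (hF : fittingSubgroup G = ⊥) : ppcOf 2 (⊤ : Subgroup G) = ⊥ :=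
  haveI : (ppcOf 2 (⊤ : Subgroup G)).Normal :=
    normalizer_eq_top_iff.1 (eq_top_iff.2 (le_normalizer_ppcOf 2 ⊤))
  eq_bot_of_odd hF _ (Nat.coprime_two_right.1 (coprime_ppcOf 2 _))

theorem exists_central_inv {S V : Subgroup G} (hS : IsPGroup 2 S) (hV : V ≤ S) (hn : S ≤ 𝐍[V])
    (h1 : V ≠ ⊥) : ∃ t ∈ V, orderOf t = 2 ∧ ∀ s ∈ S, Commute t s := by
  obtain ⟨⟨z, hz⟩, hz1⟩ := ne_bot_iff_exists_ne_one.1
    (Amb.inf_centralizer_ne_bot hS (hS.to_le hV) hn h1)
  obtain ⟨k, hk⟩ := isPGroup_iff.1 hS z (hV hz.1)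
  obtain ⟨j, -, hj⟩ := (Nat.dvd_prime_pow Nat.prime_two).1 (orderOf_dvd_of_pow_eq_one hk)
  have h2 : 2 ∣ orderOf z := by
    rw [hj]
    refine dvd_pow_self 2 ?_
    rintro rfl
    exact hz1 (Subtype.ext (orderOf_eq_one_iff.1 (by simpa using hj)))
  exact ⟨z ^ (orderOf z / 2), pow_mem hz.1 _, orderOf_pow_orderOf_div (orderOf_pos z).ne' h2,
    fun s hs => (show Commute s z from hz.2 s hs).symm.pow_left _⟩

theorem sylow_ne_bot [Nontrivial G] (hF : fittingSubgroup G = ⊥) (S : Sylow 2 G) :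
    (S : Subgroup G) ≠ ⊥ := fun e => by
  obtain ⟨t, ht⟩ := Inv.CCInv.exists_involution_of_not_solvable (not_solvable_of_fitting hF)
  refine (isSyl_top S).eq_bot_iff.1 e ?_
  rw [card_top, ← ht]
  exact orderOf_dvd_natCard t

theorem psl_or_pgl [Nontrivial G] (hF : fittingSubgroup G = ⊥) (S : Sylow 2 G)
    (hS : Cust.CD (S : Subgroup G)) (hgen : (S : Subgroup G) ≤ closure {t : G | t * t = 1})
    (h : ∀ t ∈ S, orderOf t = 2 → (∀ s ∈ S, Commute t s) → ∀ a c, Commute t a → Commute t c →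
      a ^ 2 = 1 ∨ c ^ 2 = 1 ∨ Commute a c) :
    (∃ (F : Type) (_ : Field F) (_ : Fintype F), 4 ≤ Fintype.card F ∧
        Nonempty (G ≃* Matrix.ProjectiveSpecialLinearGroup (Fin 2) F)) ∨
    (∃ (F : Type) (_ : Field F) (_ : Fintype F), 5 ≤ Fintype.card F ∧ Odd (Fintype.card F) ∧
        Nonempty (G ≃* (GL (Fin 2) F ⧸ Subgroup.center (GL (Fin 2) F)))) := by
  have hN := Cust.dsub_of_sylow S hS ⊤
  have hns : ¬ Group.IsSolvable (⊤ : Subgroup G) := fun _ => not_solvable_of_fitting hF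
    (Group.isSolvable_of_surjective (f := (⊤ : Subgroup G).subtype) fun x => ⟨⟨x, trivial⟩, rfl⟩)
  have hO := core_top_eq_bot hF
  obtain ⟨t₀, ht₀S, ht₀, ht₀c⟩ :=
    exists_central_inv S.isPGroup' le_rfl le_normalizer (sylow_ne_bot hF S)
  rcases hN.trichotomy with h1 | h1 | ⟨L, q, h1⟩ | h1
  · exact (hns (BT.solvable_of_npc h1)).elim
  · exact (hns (BT.solvable_of_s4t h1)).elim
  swap
  · exfalso
    obtain ⟨f, hf, e⟩ := h1.exists_a7M_t0 (mem_top t₀) ht₀
    obtain ⟨a, ha, ea⟩ := hf.cent_le ht₀ e (σ := Equiv.swap 4 5 * Equiv.swap 5 6)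
      (Equiv.Perm.mem_alternatingGroup.2 (by decide)) (by decide)
    obtain ⟨c, hc, ec⟩ := hf.cent_le ht₀ e
      (σ := Equiv.swap 0 2 * Equiv.swap 2 1 * Equiv.swap 1 3 * Equiv.swap 4 5)
      (Equiv.Perm.mem_alternatingGroup.2 (by decide)) (by decide)
    rcases h t₀ ht₀S ht₀ ht₀c a c (show Commute (a : G) t₀ from BT.mem_c.1 ha.2).symm
      (show Commute (c : G) t₀ from BT.mem_c.1 hc.2).symm with e1 | e1 | e1
    · have : f a ^ 2 = 1 := by rw [← map_pow, show a ^ 2 = 1 from Subtype.ext e1, map_one]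
      rw [ea] at this
      exact absurd this (by decide)
    · have : f c ^ 2 = 1 := by rw [← map_pow, show c ^ 2 = 1 from Subtype.ext e1, map_one]
      rw [ec] at this
      exact absurd this (by decide)
    · have : f a * f c = f c * f a := by
        rw [← map_mul, ← map_mul, show a * c = c * a from Subtype.ext e1]
      rw [ea, ec] at this
      exact absurd this (by decide)
  obtain ⟨F, _, _, Φ, -, M⟩ := h1.exists_mdl
  have hinj : ∀ {x y : G}, Φ x = Φ y → x = y := fun e => by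
    have := (M.eq_iff (mem_top _) (mem_top _)).1 e
    rw [hO, mem_bot] at this
    exact mul_inv_eq_one.1 this
  haveI hLn : L.Normal := normalizer_eq_top_iff.1 (eq_top_iff.2 h1.norm)
  let θ : G →* RingAut F := (piG.comp M.hom).comp topEquiv.symm.toMonoidHom
  have hθ : ∀ x, θ x = piG (Φ x) := fun x => rfl
  have hSθ : (S : Subgroup G) ≤ θ.ker := hgen.trans ((closure_le _).2 fun t ht => by
    obtain ⟨g, e⟩ := M.exists_io_of_sq hN (mem_top t) ht
    show θ t = 1
    rw [hθ, e, piG_io])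
  have hL : L ≠ ⊥ := by
    obtain ⟨A, hA, -⟩ := M.exists_trace hN (mem_top t₀) ht₀
    obtain ⟨c, m, hc, ho, hm, -⟩ := exists_tor_gen M.h2 hA
    obtain ⟨y, hy, e⟩ := M.surj c (hc.ge (mem_zpowers c)).2
    rintro rfl
    rw [mem_bot.1 hy, M.one, eq_comm, io_eq_one] at e
    rw [e, orderOf_one] at ho
    have := M.h4
    omega
  have hSL : (S : Subgroup G) ⊓ L ≠ ⊥ := fun e => hL (eq_bot_of_odd hF L (Nat.odd_iff.2
    (Nat.two_dvd_ne_zero.1 (((isSyl_top S).inf_of_le le_top h1.norm).eq_bot_iff.1 e))))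
  obtain ⟨t, htS, ht, htc⟩ := exists_central_inv S.isPGroup' inf_le_left
    (le_normalizer_inf le_normalizer (le_top.trans h1.norm)) hSL
  have htt : t * t = 1 := BT.mul_self_of_orderOf ht
  have hCθ : centralizer {t} ≤ θ.ker := by
    have hS' : IsSyl 2 (S : Subgroup G) (centralizer {t}) :=
      isSyl_of_le S fun s hs => BT.mem_c.2 (htc s hs).symm
    rw [← hS'.pRes_sup]
    refine sup_le (pRes_le_iff.2 fun a ha hco => ?_) hSθ
    obtain ⟨A, hA, e⟩ := M.exists_trace hN (mem_top t) ht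
    have hat : a * t = t * a := BT.mem_c.1 ha
    refine piG_eq_one_of_nilp (a := Φ a) M.h2 hA
      ((Nat.coprime_two_right.1 hco).of_dvd_nat (M.orderOf_dvd (mem_top a)))
      (by rw [← e, ← M.mul (mem_top _) (mem_top _), ← M.mul (mem_top _) (mem_top _), hat])
      fun c hc hc' k hk => ⟨1, ?_⟩
    obtain ⟨y, -, ey⟩ := M.surj c hc'
    have hyt : t * y = y * t := hinj (by
      rw [M.mul (mem_top _) (mem_top _), M.mul (mem_top _) (mem_top _), e, ey, ← map_mul, ← map_mul,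
        comm_of_mem_tor hc])
    have hcomm : a * y = y * a → c ^ (1 - k) ^ 1 = 1 := fun e1 => by
      rw [← ey, ← M.conj (mem_top _) (mem_top _), e1, mul_inv_cancel_right, ey, io_inj] at hk
      rw [pow_one, zpow_sub, ← hk, zpow_one, mul_inv_cancel]
    rcases h t htS.1 ht htc a y hat.symm hyt with e1 | e1 | e1
    · refine hcomm ?_
      rw [orderOf_eq_one_iff.1 (hco.eq_one_of_dvd (orderOf_dvd_of_pow_eq_one e1)), one_mul, mul_one]
    · have e2 : c ^ (2 : ℤ) = 1 := by
        rw [← io_eq_one, zpow_ofNat, map_pow, ← ey, ← M.pow (mem_top _), e1, M.one]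
      obtain ⟨j, rfl | rfl⟩ := Int.even_or_odd' k
      · rw [zpow_mul, e2, one_zpow, map_one, mul_inv_eq_one, mul_eq_left, io_eq_one] at hk
        rw [hk, one_zpow]
      · rw [pow_one, show 1 - (2 * j + 1) = 2 * (-j) by ring, zpow_mul, e2, one_zpow]
    · exact hcomm e1
  have hall : ∀ x, θ x = 1 := fun x => by
    obtain ⟨g, hg, e⟩ := M.exists_io htS.2
    obtain ⟨g', hg', e'⟩ := M.exists_io (hLn.conj_mem t htS.2 x)
    have k1 : ∀ {u : G} {v : PGL(2, F)}, u * u = 1 → u ≠ 1 → Φ u = io v → v ≠ 1 ∧ v * v = 1 :=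
      fun hu hu1 e => ⟨fun e1 => M.ne_one (mem_top _) hu hu1 (by rw [e, e1, map_one]), by
        rw [← io_eq_one, map_mul, ← e, ← M.mul (mem_top _) (mem_top _), hu, M.one]⟩
    have ht1 := BT.ne_one_of_orderOf ht
    obtain ⟨a1, a2⟩ := k1 htt ht1 e
    obtain ⟨b1, b2⟩ := k1 (by rw [conj_mul, htt, mul_one, mul_inv_cancel])
      (fun e => ht1 (by simpa using e)) e'
    obtain ⟨k, hk, ek⟩ := exists_conj_involution M.h2 hg' hg b1 a1 b2 a2
    obtain ⟨y, -, ey⟩ := M.surj k hk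
    have e2 : y * (x * t * x⁻¹) * y⁻¹ = t := hinj (by
      rw [M.conj (mem_top _) (mem_top _), ey, e', e, ← ek, map_mul, map_mul, map_inv])
    have e3 : θ (y * x) = 1 := hCθ (BT.mem_c.2 (by
      calc y * x * t = y * (x * t * x⁻¹) * y⁻¹ * (y * x) := by group
        _ = _ := by rw [e2]))
    rwa [map_mul, hθ y, ey, piG_io, one_mul] at e3
  have hiso : Nonempty (G ≃* M.img ⊤) := by
    have e1 : (M.img ⊤).map io = M.hom.range := by
      rw [Mdl.img, subgroupOf_self, ← MonoidHom.range_eq_map]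
      refine map_comap_eq_self ?_
      rintro _ ⟨x, rfl⟩
      obtain ⟨g, e⟩ := exists_io_of_piG (hall x)
      exact ⟨g, e.symm⟩
    exact ⟨(topEquiv.symm.trans (MonoidHom.ofInjective (f := M.hom)
      fun x y e => Subtype.ext (hinj e))).trans ((MulEquiv.subgroupCongr e1.symm).trans
        (equivMapOfInjective _ io io_injective).symm)⟩
  obtain ⟨e⟩ := hiso
  have hle : pslSub F ≤ M.img ⊤ := fun g hg => by
    obtain ⟨y, -, ey⟩ := M.surj g hg
    exact (M.mem_img le_rfl).2 ⟨y, trivial, ey⟩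
  have hd := index_dvd_of_le hle
  rw [index_pslSub M.h2] at hd
  have h4 := M.h4
  rcases (Nat.dvd_prime Nat.prime_two).1 hd with e1 | e1
  · right
    have hodd : Odd (Fintype.card F) := by
      obtain ⟨p, hp⟩ := CharP.exists F
      obtain ⟨n, hpp, hn⟩ := FiniteField.card F p
      rw [hn]
      refine (hpp.odd_of_ne_two ?_).pow
      rintro rfl
      exact M.h2 (CharP.cast_eq_zero F 2)
    refine ⟨F, inferInstance, inferInstance, ?_, hodd, ⟨e.trans
      ((MulEquiv.subgroupCongr (index_eq_one.1 e1)).trans topEquiv)⟩⟩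
    obtain ⟨k, hk⟩ := hodd
    omega
  · left
    have e2 : pslSub F = M.img ⊤ := by
      refine le_antisymm hle (relIndex_eq_one.1 ?_)
      have := relIndex_mul_index hle
      rw [index_pslSub M.h2, e1] at this
      omega
    exact ⟨F, inferInstance, inferInstance, h4,
      ⟨e.trans ((MulEquiv.subgroupCongr e2.symm).trans (pslSubEquiv F).symm)⟩⟩

end Cfsg.Agent.Part
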