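import Mathlib
import Cfsg.Agent.Part.CaseB
import Cfsg.Agent.Part.DihCase
import Cfsg.Agent.Bender.Cor
import Cfsg.Agent.Grp.UniqueOrderP
import Cfsg.Agent.Solv.Coprime
import Cfsg.Agent.S0215

/-! Partitions with nilpotent components of a group with `F(G) = 1` (Suzuki). -/

set_option autoImplicit false
set_option linter.unusedSectionVars false

namespace Cfsg.Agent.Part

open Subgroup Cfsg Cfsg.Agent.PLocal Cfsg.Agent.PLocal.Amb Cfsg.Agent.Inv.CCInv

variable {G : Type*} [Group G] [Finite G] {K : G → Subgroup G}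

theorem orderOf_two_of_mul_self {t : G} (h : t * t = 1) (h1 : t ≠ 1) : orderOf t = 2 :=
  orderOf_eq_prime (by rwa [pow_two]) h1

/-- a component containing a Sylow 2-subgroup is a Sylow 2-subgroup -/
theorem NP.cc_of_sylow_le (h : NP K) (hnil : ∀ x, x ≠ 1 → Group.IsNilpotent (K x))
    (hF : fittingSubgroup G = ⊥) (S : Sylow 2 G) {t : G} (ht : t ∈ S) (ht1 : t ≠ 1)
    (hle : (S : Subgroup G) ≤ K t) : ∃ s : G, orderOf s = 2 ∧ IsCC (centralizer {s}) := by
  have hS := isSyl_of_le S (hle.trans le_normalizer)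
  have h2 : ∀ u ∈ 𝐍[K t], (∃ k : ℕ, u ^ 2 ^ k = 1) → u ∈ K t := fun u hu hk => by
    obtain ⟨n, hn, e⟩ := hS.exists_cj_le (isPGroup_zpowers hk) (zpowers_le.2 hu)
    have := inv_conj_mem_of_mem_normalizer hn (hle (e (conj_mem_cj n (mem_zpowers u))))
    convert this using 1; group
  obtain ⟨s, hs, hs2, hsc⟩ := exists_central_inv S.isPGroup' le_rfl le_normalizer
    fun e => ht1 (mem_bot.1 (e ▸ ht))
  have hSE : IsStronglyEmbedded 𝐍[K t] := by
    refine ⟨fun e => ht1 (mem_bot.1 (hF ▸ Grp.le_fitting (normalizer_eq_top_iff.1 e) (hnil t ht1)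
      (h.self t))), even_iff_two_dvd.2 (hs2 ▸ orderOf_dvd_natCard _ (hS.le hs)), fun g hg => ?_⟩
    by_contra hodd
    obtain ⟨⟨u, hu0⟩, hu⟩ := exists_prime_orderOf_dvd_card' 2
      (even_iff_two_dvd.1 (Nat.not_odd_iff_even.1 hodd))
    rw [orderOf_mk] at hu
    obtain ⟨hu1, hu2⟩ := mem_inf.1 hu0
    obtain ⟨v, hv, rfl⟩ := hu2
    have hu' : orderOf (g * v * g⁻¹) = 2 := hu
    have hv2 : orderOf v = 2 := by rwa [orderOf_conj'] at hu'
    have hv1 : v ≠ 1 := by rintro rfl; simp at hv2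
    have e1 := h2 v hv ⟨1, orderOf_dvd_iff_pow_eq_one.1 hv2.dvd⟩
    have e2 := h2 (g * v * g⁻¹) hu1 ⟨1, orderOf_dvd_iff_pow_eq_one.1 hu'.dvd⟩
    rw [← h.eq ht1 hv1 e1] at e2 hg
    exact hg (h.norm hv1 e2)
  have hX : ppcOf 2 (K t) = ⊥ := by
    have h3 := Bender.le_oddCore_of_normalized hSE ((ppcOf_le 2 (K t)).trans le_normalizer)
      (Nat.coprime_two_right.1 (coprime_ppcOf 2 _))
      fun y hy x hx => conj_mem_of_mem_normalizer (GW.BT.normalizer_le_ppcOf 2 _ hy) hx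
    rw [eq_bot_of_odd hF (oddCore G) (Nat.coprime_two_right.1 (Grp.pPrimeCore_coprime 2 G))] at h3
    exact le_bot_iff.1 h3
  have hP : IsPGroup 2 (K t) := isPGroup_of_forall_coprime fun g hg hc => by
    haveI := hnil t ht1
    have := Grp.le_pPrimeCore_of_isNilpotent (p := 2) (K := zpowers (⟨g, hg⟩ : K t))
      (by rwa [Nat.card_zpowers, orderOf_mk]) (mem_zpowers _)
    exact mem_bot.1 (hX ▸ (⟨_, this, rfl⟩ : g ∈ ppcOf 2 (K t)))
  have hKS : K t = S := (isSyl_top S).eq hP hle le_top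
  have hc : ∀ y ∈ K t, y ≠ 1 → centralizer {y} ≤ K t := fun y hy hy1 c hc => by
    by_contra hm
    have hc' : Commute y c := (show Commute c y from mem_centralizer_singleton_iff.1 hc).symm
    obtain ⟨k, hk⟩ := isPGroup_iff.1 hP y hy
    have e := h.eq ht1 hy1 hy
    exact hm (h2 c (e ▸ h.norm_of_comm hy1 hc') ⟨k, h.pow_eq_one hy1 (e ▸ hm) hc' hk⟩)
  have hs1 : s ≠ 1 := by rintro rfl; simp at hs2
  refine ⟨s, hs2, fun x hx hx1 => (hc x (hc s (hle hs) hs1 hx) hx1).trans (hKS.le.trans ?_)⟩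
  exact fun y hy => mem_centralizer_singleton_iff.2 (hsc y hy).symm

theorem NP.sq_eq_one (h : NP K) {t c : G} (ht : orderOf t = 2) (hc : Commute t c) (hK : c ∉ K t) :
    c * c = 1 := by
  rw [← pow_two]
  exact h.pow_eq_one (by rintro rfl; simp at ht) hK hc (orderOf_dvd_iff_pow_eq_one.1 ht.dvd)

theorem NP.inverts (h : NP K) {t u a : G} (ht : orderOf t = 2) (hu : Commute t u) (hu' : u ∉ K t)
    (ha : Commute t a) (ha' : a ∈ K t) : u * a * u⁻¹ = a⁻¹ := by
  have h1 := h.sq_eq_one ht hu hu'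
  have h2 := h.sq_eq_one ht (hu.mul_right ha) (by rwa [mul_mem_cancel_right ha'])
  rw [eq_inv_iff_mul_eq_one, inv_eq_of_mul_eq_one_right h1, mul_assoc, h2]

theorem NP.comm_of_mem (h : NP K) {t u a b : G} (ht : orderOf t = 2) (hu : Commute t u) (hu' : u ∉ K t)
    (ha : Commute t a) (ha' : a ∈ K t) (hb : Commute t b) (hb' : b ∈ K t) : Commute a b :=
  Char.comm_of_inverted (Q := centralizer {t} ⊓ K t) (t := u)
    (fun _ hx => h.inverts ht hu hu'
      (show Commute _ t from mem_centralizer_singleton_iff.1 hx.1).symm hx.2)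
    ⟨mem_centralizer_singleton_iff.2 ha.symm, ha'⟩ ⟨mem_centralizer_singleton_iff.2 hb.symm, hb'⟩

/-- the case of a noncyclic `S ∩ K t` of index 2 in `S`: `t` is isolated -/
theorem NP.not_isolated (h : NP K) (hF : fittingSubgroup G = ⊥) (S : Sylow 2 G) {t u x : G}
    (htS : t ∈ S) (ht : orderOf t = 2) (htc : ∀ s ∈ S, Commute t s) (huS : u ∈ S) (hu : u ∉ K t)
    (I2 : ∀ a b, Commute t a → Commute t b → a ∉ K t → b ∉ K t → a * b ∈ K t)
    (hxS : x ∈ S) (hxK : x ∈ K t) (hxx : x * x = 1) (hx1 : x ≠ 1) (hxt : x ≠ t) : False := by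
  have ht1 : t ≠ 1 := by rintro rfl; simp at ht
  have htt : t * t = 1 := by rw [← pow_two]; exact orderOf_dvd_iff_pow_eq_one.1 ht.dvd
  have hcen : ∀ y ∈ S, y ∈ K t → y * y = 1 → ∀ s ∈ S, Commute s y := fun y hy hyK hyy s hs => by
    by_cases hsK : s ∈ K t
    · exact h.comm_of_mem ht (htc u huS) hu (htc s hs) hsK (htc y hy) hyK
    · have := h.inverts ht (htc s hs) hsK (htc y hy) hyK
      rw [inv_eq_of_mul_eq_one_right hyy, mul_inv_eq_iff_eq_mul] at this
      exact this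
  have h1 : ∀ g : G, g * t * g⁻¹ ∈ S → g * t * g⁻¹ ∈ K t := by
    intro g hg
    by_contra hv
    have key : ∀ y, Commute (g * t * g⁻¹) y → Commute t (g⁻¹ * y * g) := fun y hy => by
      have := hy.eq
      show t * (g⁻¹ * y * g) = g⁻¹ * y * g * t
      calc t * (g⁻¹ * y * g) = g⁻¹ * (g * t * g⁻¹ * y) * g := by group
        _ = _ := by rw [this]; group
    have key2 : ∀ y, g⁻¹ * y * g ∈ K t ↔ y ∈ K (g * t * g⁻¹) := fun y => by rw [h.conj, mem_cj]
    have h2 := I2 _ _ (key t (htc _ hg).symm) (key x (hcen x hxS hxK hxx _ hg))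
      (fun hm => ht1 (h.eq_one ht1 hv (h.self t) ((key2 t).1 hm)))
      (fun hm => hx1 (h.eq_one ht1 hv hxK ((key2 x).1 hm)))
    rw [show g⁻¹ * t * g * (g⁻¹ * x * g) = g⁻¹ * (t * x) * g by group, key2] at h2
    have h3 := h.eq_one ht1 hv (mul_mem (h.self t) hxK) h2
    exact hxt (by rw [eq_inv_of_mul_eq_one_right h3, inv_eq_of_mul_eq_one_right htt])
  have h2 : 𝐍[(S : Subgroup G)] ≤ S := by
    refine ((isSyl_top S).eq (isPGroup_of_forall_coprime fun d hd hco => ?_) le_normalizer le_top).le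
    have hdK : d ∈ 𝐍[K t] := h.norm ht1 (h1 d (conj_mem_of_mem_normalizer hd htS))
    obtain ⟨k, hk⟩ := IsPGroup.iff_card.1 S.isPGroup'
    obtain ⟨c, hc, hc'⟩ := Solv.coprime_fixed_coset (zpowers d) S (zpowers_le.2 hd)
      (by rw [Nat.card_zpowers, hk]; exact hco.pow_right k) (Or.inl inferInstance)
      (S ⊓ K t) inf_le_left (le_normalizer_inf (zpowers_le.2 hd) (zpowers_le.2 hdK)) u huS
      fun a ha => by
        have e1 := conj_mem_of_mem_normalizer (zpowers_le.2 hd ha) huS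
        refine mem_inf.2 ⟨mul_mem ((S : Subgroup G).inv_mem huS) e1, I2 _ _ (htc u huS).inv_right (htc _ e1)
          (fun hm => hu ((K t).inv_mem_iff.1 hm)) fun hm => hu ?_⟩
        have := inv_conj_mem_of_mem_normalizer (zpowers_le.2 hdK ha) hm
        convert this using 1; group
    have hcK : c ∉ K t := fun hm => hu (inv_mem_iff.1 ((mul_mem_cancel_right hm).1 hc'.2))
    have hc1 : c ≠ 1 := by rintro rfl; exact hcK (one_mem _)
    have hc2 := orderOf_two_of_mul_self (h.sq_eq_one ht (htc c hc.1) hcK) hc1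
    have hcd : Commute c d := (show Commute d c from hc.2 d (mem_zpowers d)).symm
    refine eq_one_of_isPGroup_of_coprime S.isPGroup' (mem_of_pow_mem_of_coprime (n := 2) ?_ hco) hco
    by_cases hdc : d ∈ K c
    · have e := h.sq_eq_one hc2 ((htc c hc.1).symm.mul_right hcd) (by
        rw [mul_mem_cancel_right hdc]; exact fun hm => hcK (h.symm hc1 ht1 hm))
      have : d ^ 2 = (t * (d * t * d⁻¹))⁻¹ * (t * d * (t * d)) := by rw [pow_two]; group
      rw [this, e, mul_one]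
      exact inv_mem (mul_mem htS (conj_mem_of_mem_normalizer hd htS))
    · rw [pow_two, h.sq_eq_one hc2 hcd hdc]; exact one_mem _
  obtain ⟨N, hN, hodd, hN'⟩ := S0215.result S t ht htS fun g hg => by
    obtain ⟨n, hn, e⟩ := S.conj_eq_normalizer_conj_of_mem_centralizer t g⁻¹
      (fun s hs => (htc s hs).symm) (fun s hs => by
        rw [inv_inv]
        exact hcen _ hg (h1 g hg) (by rw [conj_mul, htt, mul_one, mul_inv_cancel]) s hs)
    rw [inv_inv] at e
    rw [e, mul_assoc, (htc n (h2 hn)).eq, inv_mul_cancel_left]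
  rw [eq_bot_of_odd hF N hodd] at hN'
  refine ht1 (mem_bot.1 (hF ▸ Grp.center_le_fitting (mem_center_iff.2 fun g => ?_)))
  have := mem_bot.1 (hN' g)
  calc g * t = (t * g * t⁻¹ * g⁻¹) * (g * t) := by rw [this, one_mul]
    _ = t * g := by group

theorem NP.caseC [Nontrivial G] (h : NP K) (hnil : ∀ x, x ≠ 1 → Group.IsNilpotent (K x))
    (hF : fittingSubgroup G = ⊥) :
    (∃ (F : Type) (_ : Field F) (_ : Fintype F), 4 ≤ Fintype.card F ∧
        Nonempty (G ≃* Matrix.ProjectiveSpecialLinearGroup (Fin 2) F)) ∨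
    (∃ (F : Type) (_ : Field F) (_ : Fintype F), 5 ≤ Fintype.card F ∧ Odd (Fintype.card F) ∧
        Nonempty (G ≃* (GL (Fin 2) F ⧸ Subgroup.center (GL (Fin 2) F)))) ∨
    Lie.IsoSuzuki G := by
  obtain ⟨S⟩ : Nonempty (Sylow 2 G) := inferInstance
  by_cases hcc : ∃ s : G, orderOf s = 2 ∧ IsCC (centralizer {s})
  · obtain ⟨s, hs, hc⟩ := hcc
    obtain ⟨-, -, ⟨F, _, _, n, hn, hq, e⟩ | h1⟩ := hc.zass hF hs
    · refine Or.inl ⟨F, inferInstance, inferInstance, ?_, e⟩
      rw [hq]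
      exact Nat.pow_le_pow_right (n := 2) (by norm_num) hn
    · exact Or.inr (Or.inr h1)
  have hβ : ∀ t ∈ S, orderOf t = 2 → ∃ u ∈ S, u ∉ K t := fun t ht ht2 => by
    by_contra h0
    push Not at h0
    exact hcc (h.cc_of_sylow_le hnil hF S ht (by rintro rfl; simp at ht2) h0)
  obtain ⟨t, htS, ht, htc, I2⟩ : ∃ t ∈ S, orderOf t = 2 ∧ (∀ s ∈ S, Commute t s) ∧
      ∀ a b, Commute t a → Commute t b → a ∉ K t → b ∉ K t → a * b ∈ K t := by
    by_contra h0
    push Not at h0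
    have h1 : ∀ t ∈ S, orderOf t = 2 → (∀ s ∈ S, Commute t s) → ∀ c, Commute t c → c * c = 1 := by
      intro t htS ht htc c hc
      by_cases hcK : c ∈ K t
      swap
      · exact h.sq_eq_one ht hc hcK
      obtain ⟨a, b, ha, hb, ha', hb', hab⟩ := h0 t htS ht htc
      have e := h.inverts ht (ha.mul_right hb) hab hc hcK
      rw [show a * b * c * (a * b)⁻¹ = a * (b * c * b⁻¹) * a⁻¹ by group, h.inverts ht hb hb' hc hcK,
        h.inverts ht ha ha' hc.inv_right (inv_mem hcK), inv_inv] at e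
      exact mul_eq_one_iff_eq_inv.2 e
    obtain ⟨t, htS, ht, htc⟩ :=
      exists_central_inv S.isPGroup' le_rfl le_normalizer (sylow_ne_bot hF S)
    have h2 : ∀ a ∈ S, ∀ b ∈ S, Commute a b :=
      Misc.comm_of_sq fun a ha => by rw [pow_two]; exact h1 t htS ht htc a (htc a ha)
    have h3 : ∀ s ∈ S, s ≠ 1 → centralizer {s} = (S : Subgroup G) := fun s hs hs1 =>
      (isSyl_top S).eq (isPGroup_iff.2 fun c hc => ⟨1, by
        rw [pow_one, pow_two]
        exact h1 s hs (orderOf_two_of_mul_self (h1 t htS ht htc s (htc s hs)) hs1) (h2 s hs) c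
          (show Commute c s from mem_centralizer_singleton_iff.1 hc).symm⟩)
        (fun c hc => mem_centralizer_singleton_iff.2 (h2 c hc s hs)) le_top
    refine hcc ⟨t, ht, fun x hx hx1 => ?_⟩
    have e := h3 t htS (by rintro rfl; simp at ht)
    rw [e] at hx ⊢
    exact (h3 x hx hx1).le
  obtain ⟨u, huS, hu⟩ := hβ t htS ht
  have huu := h.sq_eq_one ht (htc u huS) hu
  haveI : IsMulCommutative ↥((S : Subgroup G) ⊓ K t) := Misc.isMulCommutative_iff'.2
    fun a ha b hb => h.comm_of_mem ht (htc u huS) hu (htc a ha.1) ha.2 (htc b hb.1) hb.2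
  have hcyc : IsCyclic ↥((S : Subgroup G) ⊓ K t) := by
    refine Grp.isCyclic_of_prime_order_mem_zpowers fun x y hx hy => ?_
    have key : ∀ z : ↥((S : Subgroup G) ⊓ K t), (orderOf z).Prime → (z : G) = t := fun z hz => by
      by_contra hne
      obtain ⟨k, hk⟩ := isPGroup_iff.1 S.isPGroup' z z.2.1
      rw [← Subgroup.orderOf_coe] at hz
      have e := (Nat.prime_dvd_prime_iff_eq hz Nat.prime_two).1
        (hz.dvd_of_dvd_pow (orderOf_dvd_of_pow_eq_one hk))
      exact h.not_isolated hF S htS ht htc huS hu I2 z.2.1 z.2.2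
        (by rw [← pow_two]; exact orderOf_dvd_iff_pow_eq_one.1 e.dvd)
        (fun e1 => by rw [e1] at e; simp at e) hne
    rw [Subtype.ext ((key y (hy ▸ hx)).trans (key x hx).symm)]
    exact mem_zpowers x
  obtain ⟨⟨a, ha⟩, hgen⟩ := hcyc.exists_generator
  have hdec : ∀ s ∈ S, s ∉ K t → s * u ∈ K t := fun s hs hs' =>
    I2 s u (htc s hs) (htc u huS) hs' hu
  have hCD : GW.Cust.CD (S : Subgroup G) := by
    refine GW.Cust.cd_of_gen (a := ⟨a, ha.1⟩) (s := ⟨u, huS⟩) (Subtype.ext huu)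
      (Subtype.ext (h.inverts ht (htc u huS) hu (htc a ha.1) ha.2)) (eq_top_iff.2 fun s _ => ?_)
    have k1 : ∀ s : (S : Subgroup G), (s : G) ∈ K t →
        s ∈ closure ({⟨a, ha.1⟩, ⟨u, huS⟩} : Set (S : Subgroup G)) := fun s hs => by
      obtain ⟨k, hk⟩ := hgen ⟨s, s.2, hs⟩
      rw [show s = ⟨a, ha.1⟩ ^ k from Subtype.ext (congrArg Subtype.val hk).symm]
      exact zpow_mem (subset_closure (by simp)) k
    by_cases hs : (s : G) ∈ K t
    · exact k1 s hs
    · exact (mul_mem_cancel_right (subset_closure (by simp))).1 (k1 (s * ⟨u, huS⟩) (hdec s s.2 hs))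
  have hg : (S : Subgroup G) ≤ closure {t : G | t * t = 1} := fun s hs => by
    by_cases hs' : s ∈ K t
    · have k : ∀ v : G, v * v = 1 → v ∈ closure {t : G | t * t = 1} := fun v hv => subset_closure hv
      exact (mul_mem_cancel_right (k u huu)).1 (k _
        (h.sq_eq_one ht ((htc s hs).mul_right (htc u huS)) (by rwa [mul_mem_cancel_left hs'])))
    · exact subset_closure (h.sq_eq_one ht (htc s hs) hs')
  refine (psl_or_pgl hF S hCD hg fun v hvS hv hvc b c hb hc => ?_).imp id Or.inl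
  obtain ⟨w, hwS, hw⟩ := hβ v hvS hv
  by_cases hb' : b ∈ K v
  · by_cases hc' : c ∈ K v
    · exact Or.inr (Or.inr (h.comm_of_mem hv (hvc w hwS) hw hb hb' hc hc'))
    · exact Or.inr (Or.inl (by rw [pow_two]; exact h.sq_eq_one hv hc hc'))
  · exact Or.inl (by rw [pow_two]; exact h.sq_eq_one hv hb hb')

/-- the classification of finite groups with a normal partition -/
theorem NP.classification [Nontrivial G] (h : NP K) :
    Nonempty (G ≃* Equiv.Perm (Fin 4)) ∨
    (∃ p : ℕ, p.Prime ∧ Subgroup.closure {g : G | g ^ p ≠ 1} ≠ ⊤) ∨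
    (∃ H : Subgroup G, IsFrobeniusComplement H) ∨
    (∃ (F : Type) (_ : Field F) (_ : Fintype F), 4 ≤ Fintype.card F ∧
        Nonempty (G ≃* Matrix.ProjectiveSpecialLinearGroup (Fin 2) F)) ∨
    (∃ (F : Type) (_ : Field F) (_ : Fintype F), 5 ≤ Fintype.card F ∧ Odd (Fintype.card F) ∧
        Nonempty (G ≃* (GL (Fin 2) F ⧸ Subgroup.center (GL (Fin 2) F)))) ∨
    Lie.IsoSuzuki G := by
  by_cases hH : NoHughes G
  swap
  · refine Or.inr (Or.inl ?_)
    by_contra h0
    push Not at h0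
    exact hH h0
  by_cases hF : NoFrob G
  swap
  · refine Or.inr (Or.inr (Or.inl ?_))
    by_contra h0
    push Not at h0
    exact hF h0
  by_cases h1 : fittingSubgroup G = ⊥
  · exact Or.inr (Or.inr (Or.inr (h.caseC (fun x hx => h.nilp hF hx) h1)))
  · exact Or.inl (h.sym4 hH hF h1)

end Cfsg.Agent.Part
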