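import Mathlib
import Cfsg.Agent.FGS.ClassSize
import Cfsg.Agent.Grp.MinNormal
import Cfsg.Agent.S0205

/-! A group `E` acting on an abelian group `A` so that every non-identity element has the same
fixed points `Z`: if `A/Z` has elements of two prime orders `s ≠ t` then `s` and `t` do not both
divide `|E|`. -/

set_option autoImplicit false
set_option linter.unusedSectionVars false

namespace Cfsg.Agent.Part.Ito

open Subgroup

theorem exists_fix_aut {V : Type*} [CommGroup V] [Finite V] (τ : MulAut V) {l : ℕ} (hl : l.Prime)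
    (hτ : τ ^ l = 1) {v : V} (hv : v ≠ 1) (hk : ∃ k, v ^ l ^ k = 1) :
    ∃ w : V, w ≠ 1 ∧ (∃ k, w ^ l ^ k = 1) ∧ τ w = w := by
  classical
  haveI := Fact.mk hl
  let P : Subgroup V := CommGroup.primaryComponent V l
  have hP : ∀ x, x ∈ P ↔ ∃ k, x ^ l ^ k = 1 := fun x => by
    constructor
    · intro h
      obtain ⟨k, hk⟩ := CommGroup.primaryComponent.isPGroup (G := V) (p := l) ⟨x, h⟩
      exact ⟨k, congrArg Subtype.val hk⟩
    · rintro ⟨k, hk⟩
      exact ⟨k, hk⟩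
  have hinv : ∀ x, (MulAut.toPerm V τ) x ∈ P ↔ x ∈ P := fun x => by
    rw [hP, hP]
    refine exists_congr fun k => ?_
    change (τ x) ^ _ = 1 ↔ _
    rw [← map_pow, map_eq_one_iff _ τ.injective]
  let σ : Equiv.Perm P := (MulAut.toPerm V τ).subtypePerm hinv
  have hσ : σ ^ l ^ 1 = 1 := by
    rw [pow_one, Equiv.Perm.subtypePerm_pow]
    ext x
    simp only [← map_pow, hτ, map_one]
    rfl
  haveI := Fintype.ofFinite P
  have hd : l ∣ Fintype.card P := by
    obtain ⟨n, hn⟩ := IsPGroup.iff_card.1 (CommGroup.primaryComponent.isPGroup (G := V) (p := l))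
    rw [← Nat.card_eq_fintype_card]
    rcases n with _ | n
    · exfalso
      have : P = ⊥ := Subgroup.card_eq_one.1 hn
      exact hv (mem_bot.1 (this ▸ (hP v).2 hk))
    · exact hn ▸ dvd_pow_self l n.succ_ne_zero
  obtain ⟨b, hb, hb1⟩ := Equiv.Perm.exists_fixed_point_of_prime' hd hσ (a := 1)
    (Subtype.ext (map_one τ))
  exact ⟨b, fun e => hb1 (Subtype.ext e), (hP b).1 b.2, congrArg Subtype.val hb⟩

variable {E A : Type*} [Group E] [Finite E] [CommGroup A] [Finite A]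

/-- all non-identity elements have fixed points exactly `Z` -/
structure FixZ (φ : E →* MulAut A) (Z : Subgroup A) : Prop where
  fix : ∀ e, e ≠ 1 → ∀ a, φ e a = a → a ∈ Z
  triv : ∀ e, ∀ a ∈ Z, φ e a = a

variable {φ : E →* MulAut A} {Z : Subgroup A}

theorem FixZ.pow_apply (h : FixZ φ Z) {e : E} {x : A} (hx : φ e x * x⁻¹ ∈ Z) (i : ℕ) :
    φ (e ^ i) x = (φ e x * x⁻¹) ^ i * x := by
  induction i with
  | zero => simp
  | succ i ih =>
    rw [pow_succ', map_mul, MulAut.mul_apply, ih, map_mul, map_pow, h.triv e _ hx, pow_succ]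
    simp [mul_assoc]

theorem FixZ.mem_of_coprime (h : FixZ φ Z) {e : E} (he : e ≠ 1) {n m : ℕ} (hn : e ^ n = 1) {x : A}
    (hm : x ^ m = 1) (hc : n.Coprime m) (hx : φ e x * x⁻¹ ∈ Z) : x ∈ Z := by
  apply h.fix e he
  have h1 := h.pow_apply hx n
  rw [hn, map_one, MulAut.one_apply] at h1
  have h2 : (φ e x * x⁻¹) ^ n = 1 := by
    have := congrArg (· * x⁻¹) h1
    simpa using this.symm
  have h3 : (φ e x * x⁻¹) ^ m = 1 := by
    rw [mul_pow, ← map_pow, inv_pow, hm, map_one, inv_one, mul_one]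
  have h4 : φ e x * x⁻¹ = 1 := by
    have := pow_gcd_eq_one.2 ⟨h2, h3⟩
    rwa [hc, pow_one] at this
  exact mul_inv_eq_one.1 h4

theorem FixZ.exists_mod (h : FixZ φ Z) {f : E} {l : ℕ} (hl : l.Prime) (hf : f ^ l = 1)
    (hA : ∃ a, a ∉ Z ∧ ∃ k, a ^ l ^ k = 1) :
    ∃ x, x ∉ Z ∧ (∃ k, x ^ l ^ k = 1) ∧ φ f x * x⁻¹ ∈ Z := by
  obtain ⟨a, ha, k, hk⟩ := hA
  have hmap : Z.map (φ f : A →* A) = Z := by
    ext z
    constructor
    · rintro ⟨y, hy, rfl⟩
      change φ f y ∈ Z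
      rwa [h.triv f y hy]
    · intro hz
      exact ⟨z, hz, h.triv f z hz⟩
  let τ : MulAut (A ⧸ Z) := QuotientGroup.congr Z Z (φ f) hmap
  have hτ : ∀ (i : ℕ) (x : A), (τ ^ i) (x : A ⧸ Z) = ((φ (f ^ i) x : A) : A ⧸ Z) := by
    intro i
    induction i with
    | zero => intro x; simp
    | succ i ih =>
      intro x
      rw [pow_succ', pow_succ', MulAut.mul_apply, ih, map_mul, MulAut.mul_apply]
      rfl
  have hτl : τ ^ l = 1 := by
    ext x
    obtain ⟨x, rfl⟩ := QuotientGroup.mk_surjective x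
    rw [hτ, hf, map_one]; rfl
  obtain ⟨w, hw1, ⟨j, hj⟩, hw⟩ := exists_fix_aut τ hl hτl (v := (a : A ⧸ Z))
    (fun e => ha ((QuotientGroup.eq_one_iff a).1 e))
    ⟨k, by rw [← QuotientGroup.mk_pow, hk]; rfl⟩
  obtain ⟨i, -, hi⟩ := (Nat.dvd_prime_pow hl).1 (orderOf_dvd_of_pow_eq_one hj)
  obtain ⟨x, rfl, n, hn⟩ := FGS.exists_lift_primePow (QuotientGroup.mk' Z)
    (QuotientGroup.mk'_surjective Z) hl w ⟨i, hi⟩
  refine ⟨x, fun hx => hw1 ((QuotientGroup.eq_one_iff x).2 hx), ⟨n, hn ▸ pow_orderOf_eq_one x⟩, ?_⟩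
  have h1 := hτ 1 x
  rw [pow_one, pow_one] at h1
  have h2 : ((φ f x : A) : A ⧸ Z) = (x : A ⧸ Z) := h1.symm.trans hw
  rw [← QuotientGroup.eq_one_iff, QuotientGroup.mk_mul, QuotientGroup.mk_inv, h2, mul_inv_cancel]

theorem FixZ.not_commute (h : FixZ φ Z) {e f : E} {l n : ℕ} (hl : l.Prime) (hf : f ^ l = 1)
    (hf1 : f ≠ 1) (hA : ∃ a, a ∉ Z ∧ ∃ k, a ^ l ^ k = 1) (he : e ≠ 1) (hn : e ^ n = 1)
    (hc : n.Coprime l) : ¬ Commute e f := by
  intro hef
  obtain ⟨x, hx, ⟨k, hk⟩, hfx⟩ := h.exists_mod hl hf hA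
  apply hx
  refine h.mem_of_coprime he hn hk (hc.pow_right k) (h.fix f hf1 _ ?_)
  have e1 : φ f x = (φ f x * x⁻¹) * x := by simp
  have e2 : φ f (φ e x) = φ e (φ f x) := by
    rw [← MulAut.mul_apply, ← map_mul, ← hef.eq, map_mul, MulAut.mul_apply]
  rw [map_mul, map_inv, e2, e1, map_mul, h.triv e _ hfx, mul_inv, mul_mul_mul_comm, mul_inv_cancel,
    one_mul]

theorem FixZ.norm_mem (h : FixZ φ Z) {y : E} (hy : y ≠ 1) {l : ℕ} (hl : y ^ l = 1) (a : A) :
    ∏ i ∈ Finset.range l, φ (y ^ i) a ∈ Z := by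
  apply h.fix y hy
  rw [map_prod]
  have e : ∀ i, φ y (φ (y ^ i) a) = φ (y ^ (i + 1)) a := fun i => by
    rw [pow_succ', map_mul, MulAut.mul_apply]
  simp only [e]
  have h1 := Finset.prod_range_succ (fun i => φ (y ^ i) a) l
  have h2 := Finset.prod_range_succ' (fun i => φ (y ^ i) a) l
  rw [h1, hl, pow_zero] at h2
  exact (mul_right_cancel h2).symm

theorem FixZ.trace_mem (h : FixZ φ Z) {M : Subgroup E} [Fintype M] (hM : M ≠ ⊥) (a : A) :
    ∏ m : M, φ m a ∈ Z := by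
  obtain ⟨y, hy⟩ := ne_bot_iff_exists_ne_one.1 hM
  apply h.fix y (fun e => hy (Subtype.ext e))
  rw [map_prod]
  refine Fintype.prod_equiv (Equiv.mulLeft y) _ _ fun m => ?_
  rw [← MulAut.mul_apply, ← map_mul]; rfl

theorem FixZ.pow_card_mem (h : FixZ φ Z) {M : Subgroup E} (hM : M ≠ ⊥) {f : E} (hfM : f ∉ M)
    (hn : f ∈ normalizer (M : Set E)) {l : ℕ} (hl : l.Prime) (hp : ∀ m ∈ M, (f * m) ^ l = 1)
    (a : A) : a ^ Nat.card M ∈ Z := by
  classical
  haveI := Fintype.ofFinite M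
  let π := QuotientGroup.mk' Z
  have hπ : ∀ x, π x = 1 ↔ x ∈ Z := fun x => QuotientGroup.eq_one_iff x
  have hne : ∀ m ∈ M, f * m ≠ 1 := fun m hm e => hfM (by
    rw [eq_inv_of_mul_eq_one_left e]; exact inv_mem hm)
  have hmem : ∀ (j : ℕ), ∀ m ∈ M, (f ^ j)⁻¹ * (f * m) ^ j ∈ M := by
    intro j m hm
    induction j with
    | zero => simp
    | succ j ih =>
      have := (mem_normalizer_iff''.1 hn _).1 ih
      have e : (f ^ (j + 1))⁻¹ * (f * m) ^ (j + 1) = f⁻¹ * ((f ^ j)⁻¹ * (f * m) ^ j) * f * m := by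
        rw [pow_succ (f * m), pow_succ' f]; group
      rw [e]; exact mul_mem this hm
  have key : ∀ j ∈ Finset.range (l - 1), ∏ m : M, π (φ ((f * m) ^ (j + 1)) a) = 1 := by
    intro j hj
    have hj' : j + 1 < l := by have := Finset.mem_range.1 hj; omega
    let g : M → M := fun m => ⟨(f ^ (j + 1))⁻¹ * (f * m) ^ (j + 1), hmem _ m m.2⟩
    have hg : Function.Injective g := by
      intro m m' e
      have e1 : (f * m) ^ (j + 1) = (f * m') ^ (j + 1) :=
        mul_left_cancel (congrArg Subtype.val e)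
      have hc : (j + 1).Coprime l := (Nat.coprime_of_lt_prime j.succ_ne_zero hj' hl).symm
      obtain ⟨u, hu⟩ := Nat.exists_mul_mod_eq_one_of_coprime hc hl.one_lt
      have e2 : ∀ m ∈ M, ((f * m) ^ (j + 1)) ^ u = f * m := fun m hm => by
        rw [← pow_mul, ← Nat.div_add_mod ((j + 1) * u) l, hu.2, pow_add, pow_mul, hp m hm, one_pow,
          one_mul, pow_one]
      have e3 : f * m = f * m' := by rw [← e2 m m.2, e1, e2 m' m'.2]
      exact Subtype.ext (mul_left_cancel e3)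
    have hb : Function.Bijective g := Finite.injective_iff_bijective.1 hg
    have e : ∏ m : M, π (φ ((f * m) ^ (j + 1)) a) = ∏ m : M, π (φ (f ^ (j + 1)) (φ m a)) := by
      refine Fintype.prod_bijective g hb _ _ fun m => ?_
      rw [← MulAut.mul_apply, ← map_mul]
      simp [g]
    rw [e, ← map_prod, ← map_prod, h.triv _ _ (h.trace_mem hM a), hπ]
    exact h.trace_mem hM a
  have key2 : ∀ m : M, ∏ j ∈ Finset.range (l - 1), π (φ ((f * m) ^ (j + 1)) a) = (π a)⁻¹ := by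
    intro m
    have h1 := (hπ _).2 (h.norm_mem (hne m m.2) (hp m m.2) a)
    obtain ⟨l', rfl⟩ : ∃ l', l = l' + 1 := ⟨l - 1, by have := hl.pos; omega⟩
    rw [map_prod, Finset.prod_range_succ', pow_zero, map_one, MulAut.one_apply] at h1
    exact eq_inv_of_mul_eq_one_left h1
  have h1 : ∏ m : M, ∏ j ∈ Finset.range (l - 1), π (φ ((f * m) ^ (j + 1)) a) = 1 := by
    rw [Finset.prod_comm]; exact Finset.prod_eq_one key
  simp only [key2, Finset.prod_const, Finset.card_univ, inv_pow, inv_eq_one] at h1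
  rw [← hπ, map_pow, Nat.card_eq_fintype_card]; exact h1

theorem FixZ.not_two (h : FixZ φ Z) {s t : ℕ} (hs : s.Prime) (ht : t.Prime) (hst : s ≠ t)
    (hsE : s ∣ Nat.card E) (htE : t ∣ Nat.card E) (hsA : ∃ a, a ∉ Z ∧ ∃ k, a ^ s ^ k = 1)
    (htA : ∃ a, a ∉ Z ∧ ∃ k, a ^ t ^ k = 1) : False := by
  -- for every prime `q` one of `s`, `t` differs from `q`
  have oth : ∀ q : ℕ, ∃ l : ℕ, l.Prime ∧ l ≠ q ∧ (∃ f : E, orderOf f = l) ∧
      ∃ a, a ∉ Z ∧ ∃ k, a ^ l ^ k = 1 := by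
    intro q
    by_cases e : s = q
    · haveI := Fact.mk ht
      exact ⟨t, ht, fun e' => hst (e.trans e'.symm), exists_prime_orderOf_dvd_card' t htE, htA⟩
    · haveI := Fact.mk hs
      exact ⟨s, hs, e, exists_prime_orderOf_dvd_card' s hsE, hsA⟩
  have ne1 : ∀ {f : E} {l : ℕ}, l.Prime → orderOf f = l → f ≠ 1 := fun hl hf e => by
    rw [e, orderOf_one] at hf; exact hl.ne_one hf.symm
  have nexp : ∀ q : ℕ, q.Prime → ∀ j, ¬ ∀ a : A, a ^ q ^ j ∈ Z := by
    intro q hq j H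
    obtain ⟨l, hl, hlq, -, a, ha, k, hk⟩ := oth q
    apply ha
    have hc : (q ^ j).Coprime (orderOf a) :=
      Nat.Coprime.coprime_dvd_right (orderOf_dvd_of_pow_eq_one hk)
        (Nat.Coprime.pow _ _ ((Nat.coprime_primes hq hl).2 hlq.symm))
    obtain ⟨u, hu⟩ := exists_pow_eq_self_of_coprime hc
    rw [← hu]; exact pow_mem (H a) u
  by_cases h2 : 2 ∣ Nat.card E
  · obtain ⟨e, he⟩ := exists_prime_orderOf_dvd_card' 2 h2
    obtain ⟨l, hl, hl2, ⟨f, hf⟩, hA⟩ := oth 2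
    have he1 := ne1 Nat.prime_two he
    have he2 : e ^ 2 = 1 := he ▸ pow_orderOf_eq_one e
    refine h.not_commute hl (hf ▸ pow_orderOf_eq_one f) (ne1 hl hf) hA he1 he2
      ((Nat.coprime_primes Nat.prime_two hl).2 hl2.symm) ?_
    have inv : ∀ g : E, ∀ a, φ (g * e * g⁻¹) a * a ∈ Z := fun g a => by
      have := h.norm_mem (y := g * e * g⁻¹) (l := 2)
        (fun e' => he1 (by simpa using e')) (by rw [conj_pow, he2]; simp) a
      simpa [Finset.prod_range_succ, mul_comm] using this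
    by_contra hc
    have hk : e * (f * e * f⁻¹) ≠ 1 := fun e' => hc (by
      have e1 : f * e * f⁻¹ = e := by
        rw [← inv_eq_of_mul_eq_one_right e', inv_eq_of_mul_eq_one_right (by rw [← sq, he2])]
      exact (mul_inv_eq_iff_eq_mul.1 e1).symm)
    have triv : ∀ a, φ (e * (f * e * f⁻¹)) a * a⁻¹ ∈ Z := fun a => by
      have h1 := inv 1 (φ (f * e * f⁻¹) a)
      have h2 := inv f a
      rw [one_mul, inv_one, mul_one] at h1
      have := mul_mem h1 (inv_mem h2)
      rw [map_mul, MulAut.mul_apply]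
      convert this using 1
      rw [mul_inv, ← mul_assoc, mul_inv_cancel_right]
    set c := e * (f * e * f⁻¹)
    have trivp : ∀ i a, φ (c ^ i) a * a⁻¹ ∈ Z := fun i a => by
      rw [h.pow_apply (triv a), mul_inv_cancel_right]; exact pow_mem (triv a) i
    obtain ⟨q, hq, hd⟩ := Nat.exists_prime_and_dvd (n := orderOf c) (by rwa [Ne, orderOf_eq_one_iff])
    have ho : orderOf (c ^ (orderOf c / q)) = q := orderOf_pow_orderOf_div (orderOf_pos c).ne' hd
    obtain ⟨r, hr, hrq, -, a, ha, k, hk'⟩ := oth q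
    exact ha (h.mem_of_coprime (ne1 hq ho) (orderOf_dvd_iff_pow_eq_one.1 ho.dvd) hk'
      (Nat.Coprime.pow_right _ ((Nat.coprime_primes hq hr).2 hrq.symm)) (trivp _ a))
  · have hsolv : Group.IsSolvable E := S0205.result (Nat.odd_iff.2 (by omega))
    obtain ⟨l₀, hl₀, -, ⟨f₀, hf₀⟩, -⟩ := oth 0
    haveI : Nontrivial E := ⟨⟨f₀, 1, ne1 hl₀ hf₀⟩⟩
    obtain ⟨q, M, hq, hMn, hM1, hMc, hMq, hMp, -⟩ := Grp.exists_minNormal_elementaryAbelian E
    obtain ⟨⟨e, heM⟩, he⟩ := ne_bot_iff_exists_ne_one.1 hM1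
    have he1 : e ≠ 1 := fun e' => he (Subtype.ext e')
    haveI := Fact.mk hq
    have hoe : orderOf e = q := orderOf_eq_prime (hMq e heM) he1
    by_cases hcyc : M ≤ zpowers e
    · obtain ⟨l, hl, hlq, ⟨f, hf⟩, hA⟩ := oth q
      have hfl : f ^ l = 1 := hf ▸ pow_orderOf_eq_one f
      have hcop : q.Coprime l := (Nat.coprime_primes hq hl).2 hlq.symm
      have hfM : f ∉ M := fun hm => ne1 hl hf (by
        have := pow_gcd_eq_one.2 ⟨hMq f hm, hfl⟩
        rwa [hcop, pow_one] at this)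
      have hp : ∀ m ∈ M, (f * m) ^ l = 1 := by
        intro m hm
        by_contra hne
        have hin : (f * m) ^ l ∈ M := by
          rw [← QuotientGroup.eq_one_iff, QuotientGroup.mk_pow, QuotientGroup.mk_mul,
            (QuotientGroup.eq_one_iff m).2 hm, mul_one, ← QuotientGroup.mk_pow, hfl]; rfl
        have hq' : ((f * m) ^ q) ^ l = 1 := by rw [← pow_mul, mul_comm, pow_mul]; exact hMq _ hin
        have hq1 : (f * m) ^ q ≠ 1 := fun e' => hfM (by
          have h1 : (f : E ⧸ M) ^ q = 1 := by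
            have := congrArg (QuotientGroup.mk : E → E ⧸ M) e'
            rwa [QuotientGroup.mk_pow, QuotientGroup.mk_mul, (QuotientGroup.eq_one_iff m).2 hm,
              mul_one] at this
          have h2 : (f : E ⧸ M) ^ l = 1 := by rw [← QuotientGroup.mk_pow, hfl]; rfl
          have := pow_gcd_eq_one.2 ⟨h1, h2⟩
          rwa [hcop, pow_one, QuotientGroup.eq_one_iff] at this)
        exact h.not_commute hl hq' hq1 hA hne (hMq _ hin) hcop
          ((Commute.refl (f * m)).pow_pow l q)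
      have hcard : Nat.card M = q := by
        rw [le_antisymm hcyc (zpowers_le.2 heM), Nat.card_zpowers, hoe]
      refine nexp q hq 1 fun a => ?_
      have := h.pow_card_mem hM1 hfM (by rw [normalizer_eq_top]; trivial) hl hp a
      rwa [hcard, ← pow_one q] at this
    · obtain ⟨f, hfM, hf⟩ := SetLike.not_le_iff_exists.1 hcyc
      have hcomm : ∀ x ∈ M, ∀ y ∈ M, x * y = y * x := fun x hx y hy =>
        congrArg Subtype.val (hMc.is_comm.comm ⟨x, hx⟩ ⟨y, hy⟩)
      have hle : zpowers e ≤ M := zpowers_le.2 heM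
      refine nexp q hq 1 fun a => ?_
      have := h.pow_card_mem (M := zpowers e) (by rwa [Ne, zpowers_eq_bot]) hf
        (centralizer_le_normalizer _ (mem_centralizer_iff.2 fun y hy => hcomm y (hle hy) f hfM)) hq
        (fun m hm => hMq _ (mul_mem hfM (hle hm))) a
      rwa [Nat.card_zpowers, hoe, ← pow_one q] at this

end Cfsg.Agent.Part.Ito
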