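import Mathlib
import Cfsg.Agent.Part.ItoAct
import Cfsg.Agent.Part.NP
import Cfsg.Agent.FGS.PrimePart
import Cfsg.Agent.FGS.KazarinCor
import Cfsg.Agent.Solv.FrobeniusAction
import Cfsg.Agent.Transfer.PCompl

/-! Groups in which commuting noncentral `p`-regular elements have the same centralizer, of
constant order up to powers of `p`. -/

set_option autoImplicit false
set_option linter.unusedSectionVars false

namespace Cfsg.Agent.Part.Ito

open Subgroup Cfsg Cfsg.Agent.PLocal Cfsg.Agent.PLocal.Amb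

/-- centralizer of an element -/
scoped notation:max "ℭ[" x "]" => Subgroup.centralizer (Singleton.singleton x)

variable {G : Type*} [Group G]

theorem mem_c1 {x y : G} : y ∈ ℭ[x] ↔ Commute y x := mem_centralizer_singleton_iff

theorem self_mem_c1 (x : G) : x ∈ ℭ[x] := mem_c1.2 (Commute.refl x)

theorem center_le_c1 (x : G) : center G ≤ ℭ[x] := center_le_centralizer _

theorem comm_of_center {z : G} (hz : z ∈ center G) (g : G) : Commute g z := mem_center_iff.1 hz g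

theorem c1_eq_top_iff {x : G} : ℭ[x] = ⊤ ↔ x ∈ center G := by
  rw [eq_top_iff', mem_center_iff]; exact forall_congr' fun g => mem_c1

theorem index_c1_eq_one {x : G} : (ℭ[x]).index = 1 ↔ x ∈ center G := by
  rw [index_eq_one, c1_eq_top_iff]

theorem c1_center_mul {z : G} (hz : z ∈ center G) (x : G) : ℭ[z * x] = ℭ[x] := by
  ext g
  rw [mem_c1, mem_c1]
  constructor
  · intro h
    have := (comm_of_center (inv_mem hz) g).mul_right h
    rwa [inv_mul_cancel_left] at this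
  · exact fun h => (comm_of_center hz g).mul_right h

theorem c1_le_of_mem_zpowers {x y : G} (h : y ∈ zpowers x) : ℭ[x] ≤ ℭ[y] := fun g hg => by
  obtain ⟨n, rfl⟩ := h
  exact mem_c1.2 ((mem_c1.1 hg).zpow_right n)

theorem not_mem_center_conj {x : G} (hx : x ∉ center G) (g : G) : g * x * g⁻¹ ∉ center G :=
  fun h => hx (by
    have := (inferInstance : (center G).Normal).conj_mem _ h g⁻¹
    simpa [mul_assoc] using this)

theorem norm_c1_of_eq {x g : G} [Finite G] (h : ℭ[g * x * g⁻¹] = ℭ[x]) : g ∈ 𝐍[ℭ[x]] := by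
  rw [← cj_eq_iff, ← centralizer_singleton_conj, h]

theorem cop_of_pe {x : G} {r s : ℕ} (hr : r.Prime) (hs : s.Prime) (hne : r ≠ s)
    (h : ∃ k, x ^ r ^ k = 1) : (orderOf x).Coprime s := by
  obtain ⟨k, hk⟩ := h
  exact Nat.Coprime.coprime_dvd_left (orderOf_dvd_of_pow_eq_one hk)
    (Nat.Coprime.pow_left _ ((Nat.coprime_primes hr hs).2 hne))

theorem cop_of_pe' {x y : G} {r : ℕ} (h : ∃ k, x ^ r ^ k = 1) (hy : (orderOf y).Coprime r) :
    (orderOf x).Coprime (orderOf y) := by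
  obtain ⟨k, hk⟩ := h
  exact Nat.Coprime.coprime_dvd_left (orderOf_dvd_of_pow_eq_one hk) (hy.symm.pow_left _)

theorem pe_conj {x : G} {r : ℕ} (h : ∃ k, x ^ r ^ k = 1) (g : G) :
    ∃ k, (g * x * g⁻¹) ^ r ^ k = 1 := h.imp fun k hk => by rw [conj_pow, hk]; simp

theorem pe_mul {x y : G} {r : ℕ} (hx : ∃ k, x ^ r ^ k = 1) (hy : ∃ k, y ^ r ^ k = 1)
    (h : Commute x y) : ∃ k, (x * y) ^ r ^ k = 1 := by
  obtain ⟨i, hi⟩ := hx
  obtain ⟨j, hj⟩ := hy
  refine ⟨i + j, ?_⟩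
  rw [h.mul_pow, pow_add, pow_mul, hi, mul_comm (r ^ i), pow_mul, hj]; simp

theorem pe_inv {x : G} {r : ℕ} (hx : ∃ k, x ^ r ^ k = 1) : ∃ k, x⁻¹ ^ r ^ k = 1 :=
  hx.imp fun k hk => by rw [inv_pow, hk, inv_one]

theorem pe_map {H : Type*} [Group H] (f : G →* H) {x : G} {r : ℕ} (hx : ∃ k, x ^ r ^ k = 1) :
    ∃ k, (f x) ^ r ^ k = 1 := hx.imp fun k hk => by rw [← map_pow, hk, map_one]

theorem eq_one_of_pe {x : G} {r s : ℕ} (hr : r.Prime) (hs : s.Prime) (hne : r ≠ s)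
    (h : ∃ k, x ^ r ^ k = 1) (h' : ∃ k, x ^ s ^ k = 1) : x = 1 := by
  obtain ⟨k, hk⟩ := h'
  exact orderOf_eq_one_iff.1 (Nat.eq_one_of_dvd_coprimes ((cop_of_pe hr hs hne h).pow_right k)
    dvd_rfl (orderOf_dvd_of_pow_eq_one hk))

theorem cop_mul {x y : G} {p : ℕ} (hx : (orderOf x).Coprime p) (hy : (orderOf y).Coprime p)
    (h : Commute x y) : (orderOf (x * y)).Coprime p :=
  Nat.Coprime.coprime_dvd_left h.orderOf_mul_dvd_mul_orderOf (Nat.Coprime.mul_left hx hy)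

theorem cop_of_mem_zpowers {x y : G} {p : ℕ} (hx : (orderOf x).Coprime p) (h : y ∈ zpowers x) :
    (orderOf y).Coprime p := Nat.Coprime.coprime_dvd_left (orderOf_dvd_of_mem_zpowers h) hx

theorem comm_of_conj_center {w b : G} (hc : w * b * w⁻¹ * b⁻¹ ∈ center G)
    (h : (orderOf w).Coprime (orderOf b)) : Commute w b := by
  set z := w * b * w⁻¹ * b⁻¹ with hz
  have e1 : ∀ n : ℕ, w ^ n * b * (w ^ n)⁻¹ = z ^ n * b := by
    intro n
    induction n with
    | zero => simp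
    | succ n ih =>
      have c := (comm_of_center (pow_mem hc n) w).eq
      calc w ^ (n + 1) * b * (w ^ (n + 1))⁻¹ = w * (w ^ n * b * (w ^ n)⁻¹) * w⁻¹ := by group
        _ = (w * z ^ n) * b * w⁻¹ := by rw [ih]; group
        _ = z ^ n * (w * b * w⁻¹ * b⁻¹ * b) := by rw [c]; group
        _ = z ^ (n + 1) * b := by rw [← hz, pow_succ z, mul_assoc (z ^ n)]
  have h1 : z ^ orderOf w = 1 := by
    have := e1 (orderOf w)
    rw [pow_orderOf_eq_one] at this
    simpa using this.symm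
  have h2 : z ^ orderOf b = 1 := by
    have e : w * b * w⁻¹ = z * b := by rw [hz]; group
    have := congrArg (· ^ orderOf b) e
    simp only [conj_pow, pow_orderOf_eq_one, (comm_of_center hc b).symm.mul_pow] at this
    simpa using this.symm
  have h3 := pow_gcd_eq_one.2 ⟨h1, h2⟩
  rw [h, pow_one, hz] at h3
  change w * b = b * w
  calc w * b = (w * b * w⁻¹ * b⁻¹) * (b * w) := by group
    _ = b * w := by rw [h3, one_mul]

variable [Finite G]

theorem eq_of_le_of_index {H K : Subgroup G} (h : H ≤ K) (e : H.index = K.index) : H = K := by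
  apply le_antisymm h
  rw [← relIndex_eq_one]
  have := relIndex_mul_index h
  rw [e] at this
  exact Nat.eq_of_mul_eq_mul_right (Nat.pos_of_ne_zero K.index_ne_zero_of_finite)
    (this.trans (one_mul _).symm)

theorem exists_primary {H : Subgroup G} {x : G} (hx : x ∉ H) :
    ∃ r : ℕ, r.Prime ∧ ∃ y ∈ zpowers x, y ∉ H ∧ ∃ k, y ^ r ^ k = 1 := by
  by_contra hn
  push Not at hn
  exact hx (FGS.mem_of_forall_primePow_part fun r hr y hy hk => by
    by_contra h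
    obtain ⟨k, hk⟩ := hk
    exact hn r hr y hy h k hk)

theorem exists_pe_of_dvd {L N : Subgroup G} (hn : N ≤ 𝐍[L]) {r : ℕ} (hr : r.Prime)
    (hd : r ∣ L.relIndex N) : ∃ y ∈ N, y ∉ L ∧ ∃ k, y ^ r ^ k = 1 := by
  obtain ⟨y, hyN, hyL, hy⟩ := exists_pow_mem hn hr hd
  haveI := Fact.mk hr
  obtain ⟨u, v, hu, hv, hk, hc, e⟩ := Transfer.exists_pPart_mul (p := r) y
  refine ⟨u, zpowers_le.2 hyN hu, fun huL => hyL ?_, hk⟩
  have : v ∈ L := by
    refine FGS.mem_of_pow_mem_of_coprime hc ?_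
    obtain ⟨n, rfl⟩ := hv
    simp only
    rw [← zpow_natCast, ← zpow_mul, mul_comm, zpow_mul, zpow_natCast]
    exact zpow_mem hy n
  rw [e]; exact mul_mem huL this

theorem dvd_relIndex_of_pe {L N : Subgroup G} (hn : N ≤ 𝐍[L]) {r : ℕ} (hr : r.Prime) {y : G}
    (hyN : y ∈ N) (hyL : y ∉ L) (hk : ∃ k, y ^ r ^ k = 1) : r ∣ L.relIndex N := by
  haveI := normal_subgroupOf' hn
  by_contra hd
  obtain ⟨k, hk⟩ := hk
  have h1 : (⟨y, hyN⟩ : N) ^ L.relIndex N ∈ L.subgroupOf N := pow_index_mem _ _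
  apply hyL
  refine FGS.mem_of_pow_mem_of_coprime (m := L.relIndex N) ?_ h1
  exact Nat.Coprime.coprime_dvd_left (orderOf_dvd_of_pow_eq_one hk)
    (((Nat.Prime.coprime_iff_not_dvd hr).2 hd).pow_left _)

theorem le_norm_center (N : Subgroup G) : N ≤ 𝐍[center G] := fun g _ => mem_norm_of_normal _ g

theorem exists_pe_of_dvd_index {x : G} {r : ℕ} (hr : r.Prime) (hd : r ∣ (ℭ[x]).index) :
    ∃ y, y ∉ center G ∧ ∃ k, y ^ r ^ k = 1 := by
  obtain ⟨y, -, h⟩ := exists_pe_of_dvd (le_norm_center (⊤ : Subgroup G)) hr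
    (by rw [relIndex_top_right]; exact hd.trans (index_dvd_of_le (center_le_c1 x)))
  exact ⟨y, h⟩

theorem exists_pe_c1 {u y : G} {r a b : ℕ} (hr : r.Prime) (hy : y ∉ center G)
    (hk : ∃ k, y ^ r ^ k = 1) (h : (ℭ[u]).index * a = (ℭ[y]).index * b) (hb : ¬ r ∣ b)
    (ha : a ≠ 0) : ∃ x ∈ ℭ[u], x ∉ center G ∧ ∃ k, x ^ r ^ k = 1 := by
  refine exists_pe_of_dvd (le_norm_center _) hr ?_
  have h1 := dvd_relIndex_of_pe (le_norm_center _) hr (self_mem_c1 y) hy hk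
  have e1 := relIndex_mul_index (center_le_c1 u)
  have e2 := relIndex_mul_index (center_le_c1 y)
  have e3 : (center G).relIndex ℭ[u] * b = (center G).relIndex ℭ[y] * a := by
    refine Nat.eq_of_mul_eq_mul_right
      (Nat.pos_of_ne_zero (ℭ[y]).index_ne_zero_of_finite) ?_
    calc (center G).relIndex ℭ[u] * b * (ℭ[y]).index
        = (center G).relIndex ℭ[u] * ((ℭ[u]).index * a) := by rw [h]; ring
      _ = (center G).index * a := by rw [← e1]; ring
      _ = _ := by rw [← e2]; ring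
  exact ((Nat.Prime.dvd_mul hr).1 (e3 ▸ h1.mul_right a)).resolve_right hb

theorem not_dvd_index_of_sylow_le {s : ℕ} [Fact s.Prime] (S : Sylow s G) {H : Subgroup G}
    (h : (S : Subgroup G) ≤ H) : ¬ s ∣ H.index := fun hd =>
  S.not_dvd_index (hd.trans (index_dvd_of_le h))

/-- the hypotheses of the core theorem -/
structure Core (p : ℕ) (G : Type*) [Group G] : Prop where
  le : ∀ u v : G, (orderOf u).Coprime p → (orderOf v).Coprime p → u ∉ center G → Commute u v →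
    ℭ[u] ≤ ℭ[v]
  idx : ∃ c, ∀ u : G, (orderOf u).Coprime p → u ∉ center G → ∃ a, (ℭ[u]).index = c * p ^ a
  two : ∀ q : ℕ, ∃ r : ℕ, r.Prime ∧ r ≠ p ∧ r ≠ q ∧ ∃ y : G, y ∉ center G ∧ ∃ k, y ^ r ^ k = 1

variable {p : ℕ} [hp : Fact p.Prime]

theorem Core.eq (h : Core p G) {u v : G} (hu : (orderOf u).Coprime p) (hv : (orderOf v).Coprime p)
    (hu' : u ∉ center G) (hv' : v ∉ center G) (hc : Commute u v) : ℭ[u] = ℭ[v] :=
  le_antisymm (h.le u v hu hv hu' hc) (h.le v u hv hu hv' hc.symm)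

theorem Core.exists_pe (h : Core p G) {u : G} (hu : (orderOf u).Coprime p) (hu' : u ∉ center G)
    {r : ℕ} (hr : r.Prime) (hrp : r ≠ p) (hy : ∃ y : G, y ∉ center G ∧ ∃ k, y ^ r ^ k = 1) :
    ∃ x ∈ ℭ[u], x ∉ center G ∧ ∃ k, x ^ r ^ k = 1 := by
  obtain ⟨y, hy, hk⟩ := hy
  obtain ⟨c, hc⟩ := h.idx
  obtain ⟨a, ha⟩ := hc u hu hu'
  obtain ⟨b, hb⟩ := hc y (cop_of_pe hr hp.out hrp hk) hy
  refine exists_pe_c1 (a := p ^ b) (b := p ^ a) hr hy hk (by rw [ha, hb]; ring)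
    (fun hd => hrp ((Nat.prime_dvd_prime_iff_eq hr hp.out).1 (hr.dvd_of_dvd_pow hd)))
    (pow_ne_zero _ hp.out.ne_zero)

theorem Core.dvd_relIndex (h : Core p G) {w : G} (hw : (orderOf w).Coprime p) (hw' : w ∉ center G)
    {s : ℕ} (hs : s.Prime) (hsp : s ≠ p) (hd : s ∣ (ℭ[w]).index) :
    s ∣ (ℭ[w]).relIndex 𝐍[ℭ[w]] := by
  haveI := Fact.mk hs
  obtain ⟨x, hxw, hx, hk⟩ := h.exists_pe hw hw' hs hsp (exists_pe_of_dvd_index hs hd)
  obtain ⟨S, hS⟩ := FGS.exists_sylow_mem hk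
  have hlt : (S : Subgroup G) ⊓ ℭ[w] < S := inf_le_left.lt_of_ne fun e =>
    not_dvd_index_of_sylow_le S (e.ge.trans inf_le_right) hd
  obtain ⟨g, hg, hg'⟩ := SetLike.exists_of_lt (Amb.lt_inf_normalizer S.isPGroup' hlt)
  have hgS := (mem_inf.1 hg).1
  have h1 := (mem_inf.1 (conj_mem_of_mem_normalizer (mem_inf.1 hg).2 (mem_inf.2 ⟨hS, hxw⟩))).2
  have hxp := cop_of_pe hs hp.out hsp hk
  have e1 : ℭ[w] = ℭ[x] := h.eq hw hxp hw' hx (mem_c1.1 hxw).symm
  have e2 : ℭ[w] = ℭ[g * x * g⁻¹] := h.eq hw (cop_of_pe hs hp.out hsp (pe_conj hk g)) hw'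
    (not_mem_center_conj hx g) (mem_c1.1 h1).symm
  refine dvd_relIndex_of_pe le_rfl hs (y := g) ?_ (fun hc => hg' (mem_inf.2 ⟨hgS, hc⟩))
    (Amb.isPGroup_iff.1 S.isPGroup' g hgS)
  rw [e1]; exact norm_c1_of_eq (e2.symm.trans e1)

theorem Core.not_two (h : Core p G) {w : G} (hw : (orderOf w).Coprime p) (hw' : w ∉ center G)
    {s t : ℕ} (hs : s.Prime) (hsp : s ≠ p) (ht : t.Prime) (htp : t ≠ p)
    (hds : s ∣ (ℭ[w]).index) (hdt : t ∣ (ℭ[w]).index) : s = t := by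
  by_contra hst
  let A : Subgroup G :=
    { carrier := {a | a ∈ ℭ[w] ∧ (orderOf a).Coprime p}
      one_mem' := ⟨one_mem _, by simp⟩
      mul_mem' := fun {a b} ha hb => ⟨mul_mem ha.1 hb.1, cop_mul ha.2 hb.2
        (mem_c1.1 (h.le w b hw hb.2 hw' (mem_c1.1 hb.1).symm ha.1))⟩
      inv_mem' := fun {a} ha => ⟨inv_mem ha.1, by rw [orderOf_inv]; exact ha.2⟩ }
  have hA : ∀ {a}, a ∈ A ↔ a ∈ ℭ[w] ∧ (orderOf a).Coprime p := Iff.rfl
  have hCA : ∀ c ∈ ℭ[w], ∀ a ∈ A, Commute c a := fun c hc a ha =>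
    mem_c1.1 (h.le w a hw ha.2 hw' (mem_c1.1 ha.1).symm hc)
  have hN : 𝐍[ℭ[w]] ≤ 𝐍[A] := le_normalizer_iff_cj.2 fun g hg => cj_le_iff_forall.2 fun a ha =>
    ⟨conj_mem_of_mem_normalizer hg ha.1, by
      rw [← MulAut.conj_apply, MulEquiv.orderOf_eq]; exact ha.2⟩
  let φ := Solv.Frob.conjHom A _ hN
  have hker : φ.ker = (ℭ[w]).subgroupOf 𝐍[ℭ[w]] := by
    ext g
    rw [MonoidHom.mem_ker, mem_subgroupOf]
    constructor
    · intro e
      have := Solv.Frob.conjHom_apply hN g ⟨w, self_mem_c1 w, hw⟩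
      rw [show Solv.Frob.conjHom A _ hN g = 1 from e] at this
      exact mem_c1.2 (mul_inv_eq_iff_eq_mul.1 this.symm)
    · intro hg
      ext a
      rw [Solv.Frob.conjHom_apply, (hCA g hg a a.2).eq]; simp
  letI : CommGroup A := { mul_comm := fun a b => Subtype.ext (hCA a a.2.1 b b.2).eq }
  have hF : FixZ φ.range.subtype ((center G).subgroupOf A) := by
    constructor
    · rintro ⟨_, g, rfl⟩ he a ha
      by_contra hz
      apply he
      have e1 : ℭ[w] = ℭ[(a : G)] := h.eq hw a.2.2 hw' hz (mem_c1.1 a.2.1).symm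
      have e2 := Solv.Frob.conjHom_apply hN g a
      rw [show Solv.Frob.conjHom A _ hN g a = a from ha] at e2
      have : g ∈ φ.ker := by
        rw [hker, mem_subgroupOf]
        exact e1.ge (mem_c1.2 (mul_inv_eq_iff_eq_mul.1 e2.symm))
      exact Subtype.ext this
    · rintro ⟨_, g, rfl⟩ a ha
      apply Subtype.ext
      change ((φ g a : A) : G) = a
      rw [Solv.Frob.conjHom_apply, (comm_of_center (z := (a : G)) ha g).eq]; simp
  have hcard : Nat.card φ.range = (ℭ[w]).relIndex 𝐍[ℭ[w]] := by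
    rw [← index_ker, hker]; rfl
  have hex : ∀ r : ℕ, r.Prime → r ≠ p → r ∣ (ℭ[w]).index →
      ∃ a : A, a ∉ (center G).subgroupOf A ∧ ∃ k, a ^ r ^ k = 1 := fun r hr hrp hd => by
    obtain ⟨x, hxw, hx, k, hk⟩ := h.exists_pe hw hw' hr hrp (exists_pe_of_dvd_index hr hd)
    exact ⟨⟨x, hxw, cop_of_pe hr hp.out hrp ⟨k, hk⟩⟩, hx, k, Subtype.ext hk⟩
  exact hF.not_two hs ht hst (hcard ▸ h.dvd_relIndex hw hw' hs hsp hds)
    (hcard ▸ h.dvd_relIndex hw hw' ht htp hdt) (hex s hs hsp hds) (hex t ht htp hdt)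

theorem Core.not_dvd (h : Core p G) {u : G} (hu : (orderOf u).Coprime p) {s : ℕ} (hs : s.Prime)
    (hsp : s ≠ p) : ¬ s ∣ (ℭ[u]).index := by
  intro hd
  haveI := Fact.mk hs
  have hu' : u ∉ center G := fun hz => hs.one_lt.ne' (Nat.dvd_one.1 (index_c1_eq_one.2 hz ▸ hd))
  have hall : ∀ v : G, (orderOf v).Coprime p → v ∉ center G → s ∣ (ℭ[v]).index := by
    intro v hv hv'
    obtain ⟨c, hc⟩ := h.idx
    obtain ⟨a, ha⟩ := hc u hu hu'
    obtain ⟨b, hb⟩ := hc v hv hv'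
    rw [ha] at hd
    rw [hb]
    exact (((Nat.Prime.dvd_mul hs).1 hd).resolve_right fun hd =>
      hsp ((Nat.prime_dvd_prime_iff_eq hs hp.out).1 (hs.dvd_of_dvd_pow hd))).mul_right _
  obtain ⟨S⟩ : Nonempty (Sylow s G) := inferInstance
  let π := QuotientGroup.mk' (center G)
  have hπ : ∀ x, π x = 1 ↔ x ∈ center G := fun x => QuotientGroup.eq_one_iff x
  have hS1 : (S : Subgroup G).map π ≠ ⊥ := fun e =>
    not_dvd_index_of_sylow_le S (((Subgroup.map_eq_bot_iff _).1 e).trans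
      ((QuotientGroup.ker_mk' _).le.trans (center_le_c1 u))) hd
  have hSp : IsPGroup s ((S : Subgroup G).map π) := S.isPGroup'.map π
  obtain ⟨⟨_, hw⟩, hw1⟩ := ne_bot_iff_exists_ne_one.1
    (Amb.inf_centralizer_ne_bot hSp hSp le_normalizer hS1)
  obtain ⟨w, hwS, rfl⟩ := (mem_inf.1 hw).1
  have hw' : w ∉ center G := fun hz => hw1 (Subtype.ext ((hπ w).2 hz))
  have hwk := Amb.isPGroup_iff.1 S.isPGroup' w hwS
  have hwp := cop_of_pe hs hp.out hsp hwk
  have hSC : (S : Subgroup G).map π ≤ ℭ[π w] := fun x hx =>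
    mem_c1.2 (mem_centralizer_iff.1 (mem_inf.1 hw).2 x hx)
  -- the class of the image of `w` has `p`-power size
  obtain ⟨a, ha⟩ : ∃ a, (ℭ[π w]).index = p ^ a := by
    refine ⟨_, Nat.eq_prime_pow_of_unique_prime_dvd (ℭ[π w]).index_ne_zero_of_finite ?_⟩
    intro t ht hdt
    by_contra htp
    have h1 := hdt.trans (FGS.index_centralizer_map_dvd π (QuotientGroup.mk'_surjective _) w)
    have e := h.not_two hwp hw' hs hsp ht htp (hall w hwp hw') h1
    rw [← e] at hdt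
    exact S.not_dvd_index ((hdt.trans (index_dvd_of_le hSC)).trans
      (index_map_dvd _ (QuotientGroup.mk'_surjective _)))
  obtain ⟨g, hgS, hg⟩ := SetLike.not_le_iff_exists.1 fun hle =>
    not_dvd_index_of_sylow_le S hle (hall w hwp hw')
  have hg' : g ∉ center G := fun hz => hg (center_le_c1 w hz)
  have hgp := cop_of_pe hs hp.out hsp (Amb.isPGroup_iff.1 S.isPGroup' g hgS)
  have hz : w * g * w⁻¹ * g⁻¹ ∈ center G := by
    rw [← hπ]
    simp only [map_mul, map_inv]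
    rw [← (mem_c1.1 (hSC (mem_map_of_mem π hgS))).eq]; group
  have hwN : w ∈ 𝐍[ℭ[g]] := norm_c1_of_eq (by
    rw [← c1_center_mul hz g]; congr 2; group)
  obtain ⟨r, hr, hrp, hrs, hy⟩ := h.two s
  obtain ⟨b, hbg, hb, hbk⟩ := h.exists_pe hgp hg' hr hrp hy
  have hbp := cop_of_pe hr hp.out hrp hbk
  have e1 : ℭ[g] = ℭ[b] := h.eq hgp hbp hg' hb (mem_c1.1 hbg).symm
  have h1 : w * b * w⁻¹ ∈ ℭ[b] := e1 ▸ conj_mem_of_mem_normalizer hwN hbg
  have h2 : ∃ k, (w * b * w⁻¹ * b⁻¹) ^ r ^ k = 1 :=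
    pe_mul (pe_conj hbk w) (pe_inv hbk) (mem_c1.1 h1).inv_right
  let ρ := QuotientGroup.mk' (pCore p (G ⧸ center G))
  have h3 : Commute (ρ (π w)) (ρ (π b * π w * (π b)⁻¹)) := by
    have := FGS.commutator_conj_mem_pCore ha 1 (π b)
    rw [← QuotientGroup.eq_one_iff] at this
    change ρ _ = 1 at this
    simp only [one_mul, inv_one, mul_one] at this
    rw [map_mul, map_mul, map_mul, map_inv, map_inv] at this
    exact commutatorElement_eq_one_iff_commute.1 this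
  have h4 : ρ (π (w * b * w⁻¹ * b⁻¹)) = 1 := by
    refine eq_one_of_pe hr hs hrs (pe_map ρ (pe_map π h2)) ?_
    have e : ρ (π (w * b * w⁻¹ * b⁻¹)) = ρ (π w) * (ρ (π b * π w * (π b)⁻¹))⁻¹ := by
      simp only [map_mul, map_inv]; group
    rw [e]
    exact pe_mul (pe_map ρ (pe_map π hwk)) (pe_inv (pe_map ρ (pe_conj (pe_map π hwk) _)))
      h3.inv_right
  have h5 : π (w * b * w⁻¹ * b⁻¹) = 1 :=
    eq_one_of_pe hr hp.out hrp (pe_map π h2)
      (Amb.isPGroup_iff.1 (Grp.pCore_isPGroup p _) _ ((QuotientGroup.eq_one_iff _).1 h4))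
  have h6 := comm_of_conj_center ((hπ _).1 h5) (cop_of_pe' hwk (cop_of_pe hr hs hrs hbk))
  exact hg (mem_c1.2 (mem_c1.1 (e1.ge (mem_c1.2 h6))).symm)

theorem Core.index_eq_pow (h : Core p G) (u : G) (hu : (orderOf u).Coprime p) :
    ∃ k, (ℭ[u]).index = p ^ k :=
  ⟨_, Nat.eq_prime_pow_of_unique_prime_dvd (ℭ[u]).index_ne_zero_of_finite fun ht hd => by
    by_contra htp
    exact h.not_dvd hu ht htp hd⟩

end Cfsg.Agent.Part.Ito
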