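import Mathlib
import Cfsg.Agent.Part.ItoCore
import Cfsg.Agent.S4034

/-! Groups whose `p`-regular classes have at most two sizes. -/

set_option autoImplicit false
set_option linter.unusedSectionVars false

namespace Cfsg.Agent.Part.Ito

open Subgroup Cfsg Cfsg.Agent.PLocal Cfsg.Agent.PLocal.Amb

variable {G : Type*} [Group G] [Finite G]

theorem c1_mul {x y : G} (hc : Commute x y) (h : (orderOf x).Coprime (orderOf y)) :
    ℭ[x * y] = ℭ[x] ⊓ ℭ[y] := FGS.centralizer_mul_of_coprime hc h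

theorem mul_not_mem_center {x y : G} (hc : Commute x y) (h : (orderOf x).Coprime (orderOf y))
    (hx : x ∉ center G) : x * y ∉ center G := fun hz => hx (by
  rw [← c1_eq_top_iff, c1_mul hc h] at hz
  exact c1_eq_top_iff.1 (eq_top_iff.2 (hz.ge.trans inf_le_left)))

theorem ne_of_pe_of_cop {y : G} {r p : ℕ} (hy : y ∉ center G) (hk : ∃ k, y ^ r ^ k = 1)
    (hc : (orderOf y).Coprime p) : r ≠ p := by
  rintro rfl
  have := cop_of_pe' hk hc
  rw [Nat.coprime_self, orderOf_eq_one_iff] at this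
  exact hy (this ▸ one_mem _)

theorem le_of_primary {p : ℕ}
    (H : ∀ r s : ℕ, r.Prime → s.Prime → r ≠ p → s ≠ p → ∀ u v : G, (∃ k, u ^ r ^ k = 1) →
      (∃ k, v ^ s ^ k = 1) → u ∉ center G → Commute u v → ℭ[u] ≤ ℭ[v])
    (u v : G) (hu : (orderOf u).Coprime p) (hv : (orderOf v).Coprime p) (hu' : u ∉ center G)
    (hc : Commute u v) : ℭ[u] ≤ ℭ[v] := by
  obtain ⟨r, hr, y, hyu, hy, hk⟩ := exists_primary hu'
  have hrp := ne_of_pe_of_cop hy hk (cop_of_mem_zpowers hu hyu)
  intro c hc'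
  refine mem_c1.2 (mem_c1.1 (FGS.mem_of_forall_primePow_part fun s hs v' hv' hk' => ?_)).symm
  by_cases hz : v' ∈ center G
  · exact center_le_c1 c hz
  · refine mem_c1.2 (mem_c1.1 (H r s hr hs hrp (ne_of_pe_of_cop hz hk' (cop_of_mem_zpowers hv hv'))
      y v' hk hk' hy ?_ (c1_le_of_mem_zpowers hyu hc'))).symm
    have h1 : v' ∈ ℭ[u] := zpowers_le.2 (mem_c1.2 hc.symm) hv'
    exact (mem_c1.1 (c1_le_of_mem_zpowers hyu h1)).symm

/-- at least two primes other than `p` divide `|G : Z(G)|` -/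
def TwoP (p : ℕ) (G : Type*) [Group G] : Prop :=
  ∀ q : ℕ, ∃ r : ℕ, r.Prime ∧ r ≠ p ∧ r ≠ q ∧ ∃ y : G, y ∉ center G ∧ ∃ k, y ^ r ^ k = 1

theorem core_of_const {p m : ℕ} (hp : p.Prime)
    (h : ∀ u : G, (orderOf u).Coprime p → u ∉ center G → (ℭ[u]).index = m) (h2 : TwoP p G) :
    Core p G := by
  refine ⟨le_of_primary ?_, ⟨m, fun u hu hu' => ⟨0, by rw [h u hu hu', pow_zero, mul_one]⟩⟩, h2⟩
  have A : ∀ u v : G, (orderOf u).Coprime p → (orderOf v).Coprime p → u ∉ center G →
      Commute u v → (orderOf u).Coprime (orderOf v) → ℭ[u] ≤ ℭ[v] := by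
    intro u v hu hv hu' hc hcop
    have e := c1_mul hc hcop
    have e2 : ℭ[u * v] = ℭ[u] := eq_of_le_of_index (e.le.trans inf_le_left)
      ((h _ (cop_mul hu hv hc) (mul_not_mem_center hc hcop hu')).trans (h u hu hu').symm)
    exact e2.ge.trans (e.le.trans inf_le_right)
  intro r s hr hs hrp hsp u v hu hv hu' hc
  have hup := cop_of_pe hr hp hrp hu
  have hvp := cop_of_pe hs hp hsp hv
  by_cases hrs : s = r
  · subst hrs
    obtain ⟨t, ht, htp, hts, y, hy, hk⟩ := h2 s
    obtain ⟨w, hwu, hw, hwk⟩ := exists_pe_c1 (u := u) (a := 1) (b := 1) ht hy hk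
      (by rw [h u hup hu', h y (cop_of_pe ht hp htp hk) hy]) (by rw [Nat.dvd_one]; exact ht.ne_one)
      one_ne_zero
    have hwp := cop_of_pe ht hp htp hwk
    have h1 := A u w hup hwp hu' (mem_c1.1 hwu).symm (cop_of_pe' hu (cop_of_pe ht hs hts hwk))
    exact h1.trans (A w v hwp hvp hw (mem_c1.1 (h1 (mem_c1.2 hc.symm))).symm
      (cop_of_pe' hwk (cop_of_pe hs ht hts.symm hv)))
  · exact A u v hup hvp hu' hc (cop_of_pe' hu (cop_of_pe hs hr hrs hv))

theorem pow_or_of_const {p m : ℕ} (hp : p.Prime)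
    (h : ∀ u : G, (orderOf u).Coprime p → u ∉ center G → (ℭ[u]).index = m) :
    (∀ u : G, (orderOf u).Coprime p → ∃ k, (ℭ[u]).index = p ^ k) ∨
      ∃ q : ℕ, ∀ r : ℕ, r.Prime → r ≠ p → r ≠ q → ∀ y : G, (∃ k, y ^ r ^ k = 1) → y ∈ center G := by
  haveI := Fact.mk hp
  by_cases h2 : TwoP p G
  · exact Or.inl (core_of_const hp h h2).index_eq_pow
  · right
    unfold TwoP at h2
    push Not at h2
    obtain ⟨q, hq⟩ := h2
    refine ⟨q, fun r hr hrp hrq y ⟨k, hk⟩ => ?_⟩
    by_contra hy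
    exact hq r hr hrp hrq y hy k hk

theorem solvable_of_reg_pow {p : ℕ} (hp : p.Prime)
    (h : ∀ u : G, (orderOf u).Coprime p → ∃ k, (ℭ[u]).index = p ^ k) : Group.IsSolvable G :=
  FGS.isSolvable_of_closed (P := fun G _ _ => S4034.Hyp p G)
    (fun G _ _ N _ h => S4034.hyp_sub hp G N h) (fun G _ _ N _ h => S4034.hyp_quot hp G N h)
    (fun G _ _ _ h => S4034.hyp_simple hp G h) G h

theorem exists_pq_prod {p q : ℕ} [hp : Fact p.Prime] [hq : Fact q.Prime] (hqp : q ≠ p)
    (h : ∀ r : ℕ, r.Prime → r ≠ p → r ≠ q → ∀ y : G, (∃ k, y ^ r ^ k = 1) → y ∈ center G)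
    (P : Sylow p G) (Q : Sylow q G) : ∃ A : Subgroup G,
      A ≤ center G ∧ Nat.card ↥((P : Subgroup G) ⊔ (Q : Subgroup G)) = Nat.card P * Nat.card Q ∧
      ((P : Subgroup G) ⊔ (Q : Subgroup G)).Normal ∧
      ((P : Subgroup G) ⊔ (Q : Subgroup G)) ⊓ A = ⊥ ∧ ((P : Subgroup G) ⊔ (Q : Subgroup G)) ⊔ A = ⊤ := by
  have hcen : ∀ a : G, (orderOf a).Coprime (p * q) → a ∈ center G := fun a ha =>
    FGS.mem_of_forall_primePow_part fun r hr y hy hk => by
      by_contra hz
      have h1 := cop_of_mem_zpowers ha hy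
      exact hz (h r hr (ne_of_pe_of_cop hz hk (Nat.Coprime.coprime_mul_right_right h1))
        (ne_of_pe_of_cop hz hk (Nat.Coprime.coprime_mul_left_right h1)) y hk)
  let A : Subgroup G :=
    { carrier := {a | (orderOf a).Coprime (p * q)}
      one_mem' := by simp
      mul_mem' := fun {a b} ha hb => cop_mul ha hb (comm_of_center (hcen b hb) a)
      inv_mem' := fun {a} ha => by change (orderOf a⁻¹).Coprime _; rwa [orderOf_inv] }
  have hA : A ≤ center G := hcen
  haveI : A.Normal := ⟨fun a ha g => by rwa [(comm_of_center (hA ha) g).eq, mul_inv_cancel_right]⟩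
  have hidx : ∀ r : ℕ, r.Prime → r ∣ A.index → r = p ∨ r = q := by
    intro r hr hd
    obtain ⟨y, -, hy, hk⟩ := exists_pe_of_dvd (L := A) (N := ⊤)
      (fun g _ => mem_norm_of_normal _ g) hr (by rwa [relIndex_top_right])
    by_contra hn
    push Not at hn
    exact hy (Nat.Coprime.mul_right (cop_of_pe hr hp.out hn.1 hk) (cop_of_pe hr hq.out hn.2 hk))
  have hAp : (Nat.card A).Coprime p := Transfer.coprime_card_of_forall_orderOf fun x hx =>
    Nat.Coprime.coprime_mul_right_right hx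
  have hAq : (Nat.card A).Coprime q := Transfer.coprime_card_of_forall_orderOf fun x hx =>
    Nat.Coprime.coprime_mul_left_right hx
  have hcop : (Nat.card A).Coprime A.index := Nat.Coprime.symm (Nat.coprime_of_dvd fun r hr hd => by
    rcases hidx r hr hd with rfl | rfl
    · exact (Nat.Prime.coprime_iff_not_dvd hr).1 hAp.symm
    · exact (Nat.Prime.coprime_iff_not_dvd hr).1 hAq.symm)
  obtain ⟨H, hH⟩ := exists_right_complement'_of_coprime hcop
  haveI hHn : H.Normal := by
    rw [← normalizer_eq_top_iff, eq_top_iff, ← hH.sup_eq_top]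
    exact sup_le (hA.trans ((center_le_centralizer _).trans (centralizer_le_normalizer _)))
      le_normalizer
  have hle : ∀ {r : ℕ} [Fact r.Prime] (R : Sylow r G), (Nat.card A).Coprime r →
      (R : Subgroup G) ≤ H := fun {r} _ R hr => by
    apply Grp.le_normal_of_coprime_card_index
    rw [hH.index_eq_card]
    obtain ⟨n, hn⟩ := IsPGroup.iff_card.1 R.isPGroup'
    rw [hn]; exact hr.symm.pow_left _
  have hcH : Nat.card H = A.index := hH.symm.index_eq_card.symm
  have hPQ : (P : Subgroup G) ⊔ (Q : Subgroup G) = H := by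
    apply le_antisymm (sup_le (hle P hAp) (hle Q hAq))
    rw [← relIndex_eq_one]
    by_contra hne
    obtain ⟨r, hr, hd⟩ := Nat.exists_prime_and_dvd hne
    have h1 := hd.trans (relIndex_dvd_index_of_le (sup_le (hle P hAp) (hle Q hAq)))
    rcases hidx r hr (hcH ▸ hd.trans (relIndex_dvd_card _ _)) with rfl | rfl
    · exact not_dvd_index_of_sylow_le P le_sup_left h1
    · exact not_dvd_index_of_sylow_le Q le_sup_right h1
  refine ⟨A, hA, ?_, hPQ ▸ hHn, ?_, ?_⟩
  · apply Nat.dvd_antisymm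
    · rw [hPQ, Nat.dvd_iff_prime_pow_dvd_dvd]
      intro r k hr hd
      rcases k with _ | k
      · simp
      have h1 := hd.trans (card_subgroup_dvd_card H)
      have key : ∀ [Fact r.Prime] (R : Sylow r G), r ^ (k + 1) ∣ Nat.card R := fun R => by
        rw [← (R : Subgroup G).card_mul_index] at h1
        exact (((Nat.Prime.coprime_iff_not_dvd hr).2 R.not_dvd_index).pow_left _).dvd_of_dvd_mul_right h1
      rcases hidx r hr (hcH ▸ (dvd_pow_self r k.succ_ne_zero).trans hd) with rfl | rfl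
      · exact (key P).mul_right _
      · exact (key Q).mul_left _
    · refine Nat.Coprime.mul_dvd_of_dvd_of_dvd ?_ (card_dvd_of_le le_sup_left)
        (card_dvd_of_le le_sup_right)
      obtain ⟨n, hn⟩ := IsPGroup.iff_card.1 P.isPGroup'
      obtain ⟨m, hm⟩ := IsPGroup.iff_card.1 Q.isPGroup'
      rw [hn, hm]
      exact Nat.Coprime.pow _ _ ((Nat.coprime_primes hp.out hq.out).2 hqp.symm)
  · rw [hPQ, inf_comm]; exact hH.disjoint.eq_bot
  · rw [hPQ, sup_comm]; exact hH.sup_eq_top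

end Cfsg.Agent.Part.Ito
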