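import Mathlib
import Cfsg.Agent.Part.ItoTwo
import Cfsg.Agent.Part.CaseC
import Cfsg.Agent.Class.PSL2Small
import Cfsg.Agent.Chev.SzOdd
import Cfsg.Agent.Solv.FrobeniusKernel
import Cfsg.Agent.Cust.PiHom

/-! F-groups (no proper inclusions between centralizers of noncentral elements). -/

set_option autoImplicit false
set_option linter.unusedSectionVars false

namespace Cfsg.Agent.Part.Ito

open Subgroup Cfsg Cfsg.Agent.PLocal Cfsg.Agent.PLocal.Amb

variable {G : Type*} [Group G] [Finite G]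

/-- the groups of rank one with a partition -/
def L2Sz (G : Type*) [Group G] : Prop :=
  (∃ (F : Type) (_ : Field F) (_ : Fintype F), 4 ≤ Fintype.card F ∧
    Nonempty (G ≃* Matrix.ProjectiveSpecialLinearGroup (Fin 2) F)) ∨
  (∃ (F : Type) (_ : Field F) (_ : Fintype F), 5 ≤ Fintype.card F ∧ Odd (Fintype.card F) ∧
    Nonempty (G ≃* (GL (Fin 2) F ⧸ Subgroup.center (GL (Fin 2) F)))) ∨ Lie.IsoSuzuki G

theorem solvable_of_hughes {p : ℕ} (hp : p.Prime) (h : closure {g : G | g ^ p ≠ 1} ≠ ⊤) :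
    Group.IsSolvable G := by
  haveI := Fact.mk hp
  by_cases hG : IsPGroup p G
  · haveI := hG.isNilpotent; infer_instance
  obtain ⟨h1, h2⟩ := S4249.result p hp hG h
  haveI : (closure {g : G | g ^ p ≠ 1}).Normal := by
    refine ⟨fun n hn g => ?_⟩
    have : cj(g, closure {g : G | g ^ p ≠ 1}) ≤ closure {g : G | g ^ p ≠ 1} := by
      rw [cj_le_iff, closure_le]
      intro x hx
      refine mem_cj.2 (subset_closure ?_)
      intro e
      apply hx
      rw [inv_inv, conj_pow] at e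
      simpa using e
    exact this (conj_mem_cj g hn)
  haveI : IsCyclic (G ⧸ closure {g : G | g ^ p ≠ 1}) := isCyclic_of_prime_card h2
  haveI : Group.IsSolvable (G ⧸ closure {g : G | g ^ p ≠ 1}) :=
    Group.isSolvable_of_comm (fun a b => (IsCyclic.commutative (α := G ⧸ _)).is_comm.comm a b)
  exact FGS.isSolvable_of_normal_of_quotient (closure {g : G | g ^ p ≠ 1})

theorem solvable_of_frob {H : Subgroup G} (hH : IsFrobeniusComplement H)
    (hs : Group.IsSolvable H) : Group.IsSolvable G := by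
  have hc := Solv.Frob.isComplement'_fitting hH
  haveI := Grp.fitting_normal G
  haveI := Grp.fitting_isNilpotent G
  haveI : Group.IsSolvable (G ⧸ fittingSubgroup G) :=
    Group.isSolvable_of_surjective (f := (hc.symm.QuotientMulEquiv).symm.toMonoidHom)
      (MulEquiv.surjective _)
  exact FGS.isSolvable_of_normal_of_quotient (fittingSubgroup G)

theorem frob_inv_unique {H : Subgroup G} (hH : IsFrobeniusComplement H) {z : G} (hz : z ∈ H)
    (hz1 : z ≠ 1) (hz2 : z * z = 1) : (∀ h ∈ H, Commute z h) ∧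
      ∀ t ∈ H, t ≠ 1 → t * t = 1 → t = z := by
  have hc := Solv.Frob.isComplement'_fitting hH
  haveI := Grp.fitting_normal G
  have hf := Solv.Frob.fpf_of_isFrobeniusComplement hH hc.disjoint
  have inv : ∀ t ∈ H, t ≠ 1 → t * t = 1 → ∀ k ∈ fittingSubgroup G, t * k * t⁻¹ = k⁻¹ :=
    fun t ht ht1 ht2 k hk => Char.conj_eq_inv_of_fixedPointFree ht2 (mem_norm_of_normal _ t)
      (fun x hx hc => by
        have : x ∈ fittingSubgroup G ⊓ ℭ[t] := mem_inf.2 ⟨hx, mem_c1.2 hc.symm⟩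
        rwa [hf t ht ht1, mem_bot] at this) hk
  have hF : fittingSubgroup G ≠ ⊥ := fun e => by
    have := hc.sup_eq_top
    rw [e, bot_sup_eq] at this
    exact (Solv.Frob.isFrobeniusComplement_iff.1 hH).2.1 this
  have uniq : ∀ t ∈ H, t ≠ 1 → t * t = 1 → t = z := by
    intro t ht ht1 ht2
    by_contra hne
    apply hF
    rw [← hf (t⁻¹ * z) (mul_mem (inv_mem ht) hz) (fun e => hne (inv_mul_eq_one.1 e)), eq_comm,
      inf_eq_left]
    intro k hk
    have e1 := inv t ht ht1 ht2 k hk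
    have e2 := inv z hz hz1 hz2 k hk
    refine mem_c1.2 ?_
    change k * (t⁻¹ * z) = t⁻¹ * z * k
    calc k * (t⁻¹ * z) = t⁻¹ * (t * k * t⁻¹) * z := by group
      _ = t⁻¹ * (z * k * z⁻¹) * z := by rw [e1, e2]
      _ = _ := by group
  refine ⟨fun h hh => ?_, uniq⟩
  have := uniq (h * z * h⁻¹) (mul_mem (mul_mem hh hz) (inv_mem hh)) (conj_ne_one' hz1)
    (by rw [conj_mul, hz2]; simp)
  exact (mul_inv_eq_iff_eq_mul.1 this).symm

theorem np_solvable_or [Nontrivial G] {K : G → Subgroup G} (h : NP K)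
    (hab : ∀ x, x ≠ 1 → ∀ a ∈ K x, ∀ b ∈ K x, Commute a b) : Group.IsSolvable G ∨ L2Sz G := by
  rcases h.classification with ⟨⟨e⟩⟩ | ⟨p, hp, hH⟩ | ⟨H, hH⟩ | hL
  · left
    haveI : Group.IsSolvable (Equiv.Perm (Fin 4)) :=
      Char.isSolvable_of_card_dvd_pow_mul_pow (a := 3) (b := 1) Nat.prime_two Nat.prime_three _
        (by rw [Nat.card_perm, Nat.card_fin]; decide)
    exact Group.isSolvable_of_surjective (f := e.symm.toMonoidHom) e.symm.surjective
  · exact Or.inl (solvable_of_hughes hp hH)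
  · refine Or.inl (solvable_of_frob hH ?_)
    by_cases h2 : 2 ∣ Nat.card H
    · obtain ⟨z, hz⟩ := exists_prime_orderOf_dvd_card' 2 h2
      have hz1 : (z : G) ≠ 1 := fun e => by
        rw [show z = 1 from Subtype.ext e, orderOf_one] at hz; omega
      have hz2 : (z : G) * z = 1 := by
        have := pow_orderOf_eq_one z
        rw [hz, sq] at this
        exact congrArg Subtype.val this
      obtain ⟨h1, h3⟩ := frob_inv_unique hH z.2 hz1 hz2
      have hle : H ≤ K z := fun t ht => by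
        by_contra hn
        have ht2 : t ^ 2 = 1 := h.pow_eq_one hz1 hn (h1 t ht) (by rw [sq, hz2])
        have ht1 : t ≠ 1 := fun e => hn (e ▸ one_mem _)
        exact hn (h3 t ht ht1 (by rw [← sq, ht2]) ▸ h.self _)
      exact Group.isSolvable_of_comm fun a b => Subtype.ext (hab z hz1 a (hle a.2) b (hle b.2)).eq
    · exact S0205.result (Nat.odd_iff.2 (by omega))
  · exact Or.inr hL

open Class.Dickson MatrixGroups in
theorem mem_unip_of_comm {F : Type*} [Field F] [Finite F] {c : PGL(2, F)}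
    (h : Commute c (transl 1)) : c ∈ unip (inf F) := by
  have h1 : c • inf F = inf F := smul_eq_of_conj_commute (mem_unip_inf.2 ⟨1, rfl⟩)
    (by rw [Ne, transl_eq_one_iff]; exact one_ne_zero) (by rw [h.eq, mul_inv_cancel_right])
  rw [mem_unip]
  by_cases hc : c = 1
  · exact Or.inl hc
  refine Or.inr ⟨h1, fun y hy => ?_⟩
  rcases inf_or_pt y with e | ⟨s, rfl⟩
  · exact e
  · exfalso
    refine hc (eq_one_of_fix_three c (inf_ne_pt s) (inf_ne_pt (s + 1))
      (by rw [Ne, pt_inj]; simp) h1 hy ?_)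
    rw [← transl_smul_pt, ← mul_smul, h.eq, mul_smul, hy]

open Class.Dickson MatrixGroups in
theorem exists_pcent_of_inj {F : Type*} [Field F] [Finite F] (φ : G →* PGL(2, F))
    (hφ : Function.Injective φ) (h1 : transl 1 ∈ φ.range) :
    ∃ p : ℕ, p.Prime ∧ ∃ x : G, x ≠ 1 ∧ ∀ c ∈ ℭ[x], ∃ k, c ^ p ^ k = 1 := by
  obtain ⟨x, hx⟩ := h1
  haveI := Fintype.ofFinite F
  obtain ⟨p, hp⟩ := CharP.exists F
  obtain ⟨n, hpp, -⟩ := FiniteField.card F p
  refine ⟨p, hpp, x, fun e => ?_, fun c hc => ⟨1, hφ ?_⟩⟩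
  · rw [e, map_one, eq_comm, transl_eq_one_iff] at hx; exact one_ne_zero hx
  · rw [pow_one, map_pow, map_one]
    exact pow_eq_one_of_mem_unip p (mem_unip_of_comm (hx ▸ (mem_c1.1 hc).map φ))

open Class.Dickson MatrixGroups in
theorem L2Sz.exists_pcent (h : L2Sz G) :
    ∃ p : ℕ, p.Prime ∧ ∃ x : G, x ≠ 1 ∧ ∀ c ∈ ℭ[x], ∃ k, c ^ p ^ k = 1 := by
  rcases h with ⟨F, _, _, -, ⟨e⟩⟩ | ⟨F, _, _, -, -, ⟨e⟩⟩ | ⟨F, _, _, m, hm, hF, ⟨e⟩⟩
  · refine exists_pcent_of_inj ((pslTo F).comp e.toMonoidHom)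
      (pslTo_injective.comp e.injective) ?_
    obtain ⟨A, hA⟩ := mem_pslSub.1 (unip_le_pslSub (inf F) (mem_unip_inf.2 ⟨1, rfl⟩))
    exact ⟨e.symm A, by simp [hA, pslTo_mk, slTo_apply]⟩
  · exact exists_pcent_of_inj (F := F) e.toMonoidHom e.injective (e.surjective _)
  · have := Chev.SzField.of_fintype hm hF
    let e' := e.trans (Chev.Suz.lieEquiv F).symm
    have hq := Chev.Suz.uu_mem_Qp (m := m) (0 : F) 1
    have h1 : (Chev.Suz.uu (0 : F) 1 : Sz F m) ≠ 1 := by simp [Chev.Suz.uu_eq_one]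
    refine ⟨2, Nat.prime_two, e'.symm (Chev.Suz.uu 0 1), by simpa using h1, fun c hc =>
      ⟨2, e'.injective ?_⟩⟩
    have := (mem_c1.1 hc).map e'
    rw [MulEquiv.apply_symm_apply] at this
    rw [map_pow, map_one]
    exact (Chev.Suz.mem_Qp.1 (Chev.Suz.centralizer_le_Qp hq h1 (mem_c1.2 this))).2

/-- no proper inclusions between centralizers of noncentral elements -/
def FGrp (G : Type*) [Group G] : Prop :=
  ∀ x y : G, x ∉ center G → y ∉ center G → ℭ[x] ≤ ℭ[y] → ℭ[y] ≤ ℭ[x]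

theorem c1_eq_of_mk_eq {x y : G} (h : (x : G ⧸ center G) = y) : ℭ[x] = ℭ[y] := by
  have := QuotientGroup.eq.1 h
  rw [← c1_center_mul (z := y⁻¹ * x) (by simpa using inv_mem this) y]
  congr 2
  rw [← (comm_of_center (z := y⁻¹ * x) (by simpa using inv_mem this) y).eq]; group

theorem mem_cc_iff {x y : G} : y ∈ 𝐂[ℭ[x]] ↔ ℭ[x] ≤ ℭ[y] := by
  rw [mem_centralizer_iff]
  exact forall₂_congr fun c _ => mem_c1.symm

theorem FGrp.np (h : FGrp G) : ∃ K : G ⧸ center G → Subgroup (G ⧸ center G), NP K ∧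
    (∀ x y : G, (y : G ⧸ center G) ∈ K x ↔ ℭ[x] ≤ ℭ[y]) ∧
    ∀ x, ∀ a ∈ K x, ∀ b ∈ K x, Commute a b := by
  let π := QuotientGroup.mk' (center G)
  let K : G ⧸ center G → Subgroup (G ⧸ center G) := fun x => (𝐂[ℭ[x.out]]).map π
  have hK : ∀ x y : G, (y : G ⧸ center G) ∈ K x ↔ ℭ[x] ≤ ℭ[y] := by
    intro x y
    rw [← c1_eq_of_mk_eq (QuotientGroup.out_eq' (x : G ⧸ center G))]
    constructor
    · rintro ⟨y', hy', e⟩
      rw [← c1_eq_of_mk_eq e]; exact mem_cc_iff.1 hy'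
    · exact fun hy => ⟨y, mem_cc_iff.2 hy, rfl⟩
  have hne : ∀ {x : G}, (x : G ⧸ center G) ≠ 1 → x ∉ center G := fun hx hz =>
    hx ((QuotientGroup.eq_one_iff _).2 hz)
  refine ⟨K, ⟨fun x => ?_, fun {x y} hx hy hm => ?_, fun g x => ?_, fun {x} hx e => ?_⟩, hK, ?_⟩
  · obtain ⟨x, rfl⟩ := QuotientGroup.mk_surjective x
    exact (hK x x).2 le_rfl
  · obtain ⟨x, rfl⟩ := QuotientGroup.mk_surjective x
    obtain ⟨y, rfl⟩ := QuotientGroup.mk_surjective y
    have h1 := (hK x y).1 hm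
    ext w
    obtain ⟨w, rfl⟩ := QuotientGroup.mk_surjective w
    rw [hK, hK, le_antisymm h1 (h x y (hne hx) (hne hy) h1)]
  · obtain ⟨x, rfl⟩ := QuotientGroup.mk_surjective x
    obtain ⟨g, rfl⟩ := QuotientGroup.mk_surjective g
    ext w
    obtain ⟨w, rfl⟩ := QuotientGroup.mk_surjective w
    rw [mem_cj, ← QuotientGroup.mk_inv, ← QuotientGroup.mk_mul, ← QuotientGroup.mk_mul,
      ← QuotientGroup.mk_mul, ← QuotientGroup.mk_mul, hK, hK, centralizer_singleton_conj,
      cj_le_iff, ← centralizer_singleton_conj, inv_inv]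
  · obtain ⟨x, rfl⟩ := QuotientGroup.mk_surjective x
    refine hne hx (mem_center_iff.2 fun g => ?_)
    exact (mem_c1.1 ((hK x g).1 (e.ge trivial) (self_mem_c1 x))).symm
  · intro x a ha b hb
    obtain ⟨x, rfl⟩ := QuotientGroup.mk_surjective x
    obtain ⟨a, rfl⟩ := QuotientGroup.mk_surjective a
    obtain ⟨b, rfl⟩ := QuotientGroup.mk_surjective b
    have h1 : a ∈ ℭ[x] := mem_c1.2 (mem_c1.1 ((hK x a).1 ha (self_mem_c1 x))).symm
    exact (mem_c1.1 ((hK x b).1 hb h1)).map π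

theorem solvable_of_quot_center (h : Group.IsSolvable (G ⧸ center G)) : Group.IsSolvable G := by
  haveI : Group.IsSolvable (center G) :=
    Group.isSolvable_of_comm fun a b => Subtype.ext (comm_of_center b.2 a).eq
  exact FGS.isSolvable_of_normal_of_quotient (center G)

theorem FGrp.solvable_or (h : FGrp G) : Group.IsSolvable G ∨ L2Sz (G ⧸ center G) := by
  rcases subsingleton_or_nontrivial (G ⧸ center G) with hs | hs
  · exact Or.inl (solvable_of_quot_center inferInstance)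
  · obtain ⟨K, hK, -, hab⟩ := h.np
    exact (np_solvable_or hK fun x _ => hab x).imp_left solvable_of_quot_center

end Cfsg.Agent.Part.Ito
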