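import Mathlib
import Cfsg.Agent.PLocal.AmbSyl
import Cfsg.Agent.Grp.Fitting
import Cfsg.Agent.Char.InvSylow
import Cfsg.Agent.Small.Count
import Cfsg.Agent.Solv.CN
import Cfsg.Agent.Perm.ZassAbel
import Cfsg.Agent.Perm.ZassEven
import Cfsg.Agent.Perm.ZassPrime
import Cfsg.Agent.S0205
import Cfsg.Agent.S0986
import Cfsg.Agent.S3993
import Cfsg.Agent.S4249

/-! Groups in which every element has order `p` or order prime to `p`: the Sylow `p`-subgroups are TI;
recognition of `PSL₂(q)` from a TI Sylow subgroup with `q + 1` conjugates. -/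

set_option autoImplicit false
set_option linter.unusedSectionVars false

namespace Cfsg.Agent.Part

open Subgroup Cfsg Cfsg.Agent.PLocal.Amb MulAction

variable {G : Type*} [Group G] [Finite G] {p : ℕ} [hp : Fact p.Prime]

/-- every element has order `p` or order prime to `p` -/
def Sep (p : ℕ) (G : Type*) [Group G] : Prop := ∀ x : G, x ^ p = 1 ∨ (orderOf x).Coprime p

theorem Sep.subgroup (h : Sep p G) (H : Subgroup G) : Sep p H := fun x =>
  (h x).imp Subtype.ext fun e => by rwa [orderOf_coe] at e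

theorem Sep.eq_one (h : Sep p G) {x y : G} (hx : x ^ p = 1) (hx1 : x ≠ 1) (hy : (orderOf y).Coprime p)
    (hc : x * y = y * x) : y = 1 := by
  have hc' : Commute x y := hc
  rcases h (x * y) with e | e
  · rw [hc'.mul_pow, hx, one_mul] at e
    exact orderOf_eq_one_iff.1 (hy.eq_one_of_dvd (orderOf_dvd_of_pow_eq_one e))
  · have h1 := orderOf_eq_prime hx hx1
    rw [hc'.orderOf_mul_eq_mul_orderOf_of_coprime (h1 ▸ hy.symm), h1] at e
    exact absurd (Nat.Coprime.coprime_mul_right e) (by simpa using hp.out.one_lt.ne')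

theorem Sep.pow_eq_one (h : Sep p G) {P : Subgroup G} (hP : IsPGroup p P) {x : G} (hx : x ∈ P) :
    x ^ p = 1 :=
  (h x).elim id fun e => by rw [eq_one_of_isPGroup_of_coprime hP hx e, one_pow]

theorem Sep.cent_le (h : Sep p G) (hD : pCore p G ≠ ⊥) : 𝐂[pCore p G] ≤ pCore p G := by
  obtain ⟨⟨d, hd⟩, hd1⟩ := ne_bot_iff_exists_ne_one.1 hD
  exact Grp.le_pCore inferInstance (isPGroup_of_forall_coprime fun g hg hc =>
    h.eq_one (h.pow_eq_one (Grp.pCore_isPGroup p G) hd) (fun e => hd1 (Subtype.ext e)) hc (hg d hd))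

theorem Sep.mem_pCore (h : Sep p G) (hD : pCore p G ≠ ⊥) {x : G} (hx : x ^ p = 1) : x ∈ pCore p G := by
  set D := pCore p G with hDd
  have hDp : IsPGroup p D := Grp.pCore_isPGroup p G
  have hE : IsPGroup p ↥(D ⊔ zpowers x) :=
    hDp.to_sup_of_normal_left (isPGroup_zpowers ⟨1, by rwa [pow_one]⟩)
  have hxE : x ∈ D ⊔ zpowers x := mem_sup_right (mem_zpowers x)
  by_cases hp2 : p = 2
  · subst hp2
    refine h.cent_le hD fun y hy => ?_
    have h1 := h.pow_eq_one hE (mul_mem (mem_sup_left hy) hxE)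
    have h2 := h.pow_eq_one hDp hy
    rw [pow_two] at h1 h2 hx
    rw [← inv_eq_of_mul_eq_one_right h1, mul_inv_rev, inv_eq_of_mul_eq_one_right h2,
      inv_eq_of_mul_eq_one_right hx]
  by_cases hev : 2 ∣ Nat.card G
  · obtain ⟨t, ht⟩ := exists_prime_orderOf_dvd_card' 2 hev
    have hinv : ∀ s : G, orderOf s = 2 → ∀ Q : Subgroup G, IsPGroup p Q → s ∈ 𝐍[Q] →
        ∀ y ∈ Q, s * y * s⁻¹ = y⁻¹ := fun s hs Q hQ hn y hy =>
      Char.conj_eq_inv_of_fixedPointFree (by rw [← pow_two, ← hs, pow_orderOf_eq_one]) hn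
        (fun z hz hc => by_contra fun z1 => (by simp [hs] : orderOf s ≠ 1) (orderOf_eq_one_iff.2
          (h.eq_one (h.pow_eq_one hQ hz) z1 (hs ▸ (Nat.coprime_primes Nat.prime_two hp.out).2 (Ne.symm hp2))
            hc.symm))) hy
    have h1 : ∀ g : G, t * g * t⁻¹ * g⁻¹ ∈ D := fun g => h.cent_le hD fun y hy => by
      have h2 := hinv t ht D hDp (le_normalizer_of_normal (mem_top _))
      have h3 := hinv (g * t⁻¹ * g⁻¹) (by rw [orderOf_conj', orderOf_inv, ht]) D hDp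
        (le_normalizer_of_normal (mem_top _)) y hy
      rw [eq_comm, ← mul_inv_eq_iff_eq_mul]
      calc t * g * t⁻¹ * g⁻¹ * y * (t * g * t⁻¹ * g⁻¹)⁻¹
          = t * (g * t⁻¹ * g⁻¹ * y * (g * t⁻¹ * g⁻¹)⁻¹) * t⁻¹ := by group
        _ = y := by rw [h3, h2 _ (inv_mem hy), inv_inv]
    have h2 := hinv t ht _ hE (mem_normalizer_of_cj_le (cj_le_iff_forall.2 fun y hy => by
      rw [← inv_mul_cancel_right (t * y * t⁻¹) y]
      exact mul_mem (mem_sup_left (h1 y)) hy))
    exact h.cent_le hD fun y hy => Char.comm_of_inverted h2 (mem_sup_left hy) hxE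
  have := S0205.result (G := G) (Nat.odd_iff.2 (Nat.two_dvd_ne_zero.1 hev))
  by_contra hxD
  have hx1 : QuotientGroup.mk' D x ≠ 1 := fun e => hxD ((QuotientGroup.eq_one_iff x).1 e)
  have : Nontrivial (G ⧸ D) := ⟨_, _, hx1⟩
  obtain ⟨r, hr, hR⟩ := Grp.exists_pCore_ne_bot (G ⧸ D)
  have hrp : r ≠ p := fun e => hR (by rw [e]; exact Grp.pCore_quotient_pCore p G)
  have := Fact.mk hr
  set L := (pCore r (G ⧸ D)).comap (QuotientGroup.mk' D) with hL
  have hDL : D ≤ L := fun y hy => by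
    change QuotientGroup.mk' D y ∈ pCore r (G ⧸ D)
    rw [show QuotientGroup.mk' D y = 1 from (QuotientGroup.eq_one_iff y).2 hy]
    exact one_mem _
  have hxL : x ∉ L := fun e => hx1 (eq_one_of_isPGroup_of_coprime (Grp.pCore_isPGroup r _) e
    (((Nat.coprime_primes hp.out hr).2 hrp.symm).coprime_dvd_left
      (orderOf_dvd_of_pow_eq_one (by rw [← map_pow, hx, map_one]))))
  obtain ⟨y, hy, hy1, hyp⟩ : ∃ y ∈ L, y ≠ 1 ∧ (orderOf y).Coprime p := by
    by_contra! h1
    refine hR (eq_bot_iff.2 fun z hz => ?_)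
    obtain ⟨z, rfl⟩ := QuotientGroup.mk'_surjective D z
    exact (QuotientGroup.eq_one_iff z).2 (Grp.le_pCore inferInstance (isPGroup_of_forall_coprime
      fun g hg hc => by_contra fun g1 => h1 g hg g1 hc) hz)
  set M := L ⊔ zpowers x with hM
  have hK : closure {g : M | g ^ p ≠ 1} ≤ L.subgroupOf M := (closure_le _).2 fun g hg => by
    refine mem_of_pow_mem_of_coprime (K := L) (n := p) ?_ (by
      simpa using (h.subgroup M g).resolve_left hg)
    obtain ⟨l, hl, _, ⟨k, rfl⟩, e⟩ := mem_sup_of_normal_left.1 g.2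
    change (g : G) ^ p ∈ L
    rw [← e, ← QuotientGroup.eq_one_iff]
    change QuotientGroup.mk' L _ = 1
    rw [map_pow, map_mul, show QuotientGroup.mk' L l = 1 from (QuotientGroup.eq_one_iff l).2 hl,
      one_mul, map_zpow, ← zpow_natCast, ← zpow_mul, mul_comm, zpow_mul, zpow_natCast, ← map_pow, hx,
      map_one, one_zpow]
  have hLM : L.subgroupOf M ≠ ⊤ := fun e => hxL (subgroupOf_eq_top.1 e (mem_sup_right (mem_zpowers x)))
  obtain ⟨h1, h2⟩ := S4249.result (G := M) p hp.out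
    (fun e => hy1 (eq_one_of_isPGroup_of_coprime e (mem_sup_left hy) hyp))
    fun e => hLM (eq_top_iff.2 (e ▸ hK))
  have h3 : closure {g : M | g ^ p ≠ 1} = L.subgroupOf M := by
    have h4 := relIndex_mul_index hK
    rw [h2] at h4
    refine le_antisymm hK (relIndex_eq_one.1 ?_)
    exact ((Nat.dvd_prime hp.out).1 (Dvd.intro _ h4)).resolve_right fun e => hLM (index_eq_one.1 (by
      rw [e] at h4; exact (Nat.mul_eq_left hp.out.ne_zero).1 h4))
  rw [h3] at h1
  have h4 : Group.IsNilpotent L :=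
    Group.nilpotent_of_mulEquiv (subgroupOfEquivOfLe (le_sup_left : L ≤ M))
  obtain ⟨⟨d, hd⟩, hd1⟩ := ne_bot_iff_exists_ne_one.1 hD
  have hdp := h.pow_eq_one hDp hd
  refine hy1 (h.eq_one hdp (fun e => hd1 (Subtype.ext e)) hyp ?_)
  exact Solv.CN.commute_of_mem_of_isNilpotent h4 (hDL hd) hy
    (hyp.symm.coprime_dvd_left (orderOf_dvd_of_pow_eq_one hdp))

theorem Sep.ti (h : Sep p G) (P Q : Sylow p G) (hPQ : P ≠ Q) : (P : Subgroup G) ⊓ Q = ⊥ := by
  have : Nonempty {x : Sylow p G × Sylow p G // x.1 ≠ x.2} := ⟨⟨(P, Q), hPQ⟩⟩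
  obtain ⟨⟨⟨P', Q'⟩, hne⟩, hmax⟩ := Finite.exists_max
    (α := {x : Sylow p G × Sylow p G // x.1 ≠ x.2}) (β := ℕ)
    fun x => Nat.card ↥((x.1.1 : Subgroup G) ⊓ x.1.2)
  by_contra h1
  have h2 : (P' : Subgroup G) ⊓ Q' ≠ ⊥ := fun e => h1 (by
    have := hmax ⟨(P, Q), hPQ⟩
    simp only [e, card_bot] at this
    exact eq_bot_of_card_le _ this)
  obtain ⟨h3, -⟩ := S0986.result p P' Q' hne fun A B hAB => hmax ⟨(A, B), hAB⟩
  set N := 𝐍[(P' : Subgroup G) ⊓ Q']
  obtain ⟨S, T, hST⟩ := (Finite.one_lt_card_iff_nontrivial.1 h3).exists_pair_ne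
  have h4 : pCore p N ≠ ⊥ := fun e => h2 (by
    have h5 : ((P' : Subgroup G) ⊓ Q').subgroupOf N ≤ pCore p N :=
      Grp.le_pCore normal_in_normalizer (P'.isPGroup'.to_inf_left).comap_subtype
    rw [e, le_bot_iff, subgroupOf_eq_bot, disjoint_iff, inf_eq_left.2 le_normalizer] at h5
    exact h5)
  have h5 : ∀ S : Sylow p N, pCore p N = S := fun S =>
    (S.3 (Grp.pCore_isPGroup p N) fun x hx =>
      (h.subgroup N).mem_pCore h4 ((h.subgroup N).pow_eq_one S.isPGroup' hx))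
  exact hST (Sylow.ext ((h5 S).symm.trans (h5 T)))

/-- TI Sylow subgroups of order `q` with `q + 1` conjugates. -/
theorem psl_of_TI {q d : ℕ} (hq : 3 < q) (hd : d = Nat.gcd 2 (q - 1))
    (hG : Nat.card G * d = (q - 1) * q * (q + 1))
    (hP : ∀ P : Sylow p G, Nat.card (P : Subgroup G) = q) (hn : Nat.card (Sylow p G) = q + 1)
    (hTI : ∀ P Q : Sylow p G, P ≠ Q → (P : Subgroup G) ⊓ Q = ⊥)
    (hC : ∀ u g : G, u ≠ 1 → (∃ k, u ^ p ^ k = 1) → u * g = g * u → ∃ k, g ^ p ^ k = 1)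
    (hN : ∀ N : Subgroup G, N.Normal → Nat.card N = q + 1 → ∃ n ∈ N, n * n ≠ 1)
    {F : Type*} [Field F] [Finite F] (hF : Nat.card F = q) :
    Nonempty (G ≃* Matrix.ProjectiveSpecialLinearGroup (Fin 2) F) := by
  have hmem : ∀ (R : Sylow p G) (g : G), (∃ k, g ^ p ^ k = 1) → g • R = R → g ∈ (R : Subgroup G) :=
    fun R g hg e => (((isPGroup_zpowers hg).inf_normalizer_sylow R).le
      ⟨mem_zpowers g, Sylow.smul_eq_iff_mem_normalizer.1 e⟩).2
  have ha : ∀ (P : Sylow p G), ∀ u ∈ (P : Subgroup G), u • P = P := fun P u hu =>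
    Sylow.smul_eq_iff_mem_normalizer.mpr (Subgroup.le_normalizer hu)
  have h1 : ∀ (P : Sylow p G), ∀ u ∈ (P : Subgroup G), ∀ c, c ≠ P → u • c = c → u = 1 :=
    fun P u hu c hc e => mem_bot.1 (hTI c P hc ▸ ⟨hmem c u (isPGroup_iff.1 P.isPGroup' u hu) e, hu⟩)
  have h2 : ∀ (P : Sylow p G) c d, c ≠ P → d ≠ P → ∃ u ∈ (P : Subgroup G), u • c = d := by
    intro P c d hc hd
    let f : ↥(P : Subgroup G) → {x : Sylow p G // x ≠ P} := fun u =>
      ⟨u.1 • c, fun h => hc (smul_left_cancel u.1 (h.trans (ha _ _ u.2).symm))⟩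
    have hf : Function.Injective f := by
      intro u v h
      have h2 : u.1 • c = v.1 • c := congrArg Subtype.val h
      have := h1 P _ (mul_mem (inv_mem v.2) u.2) c hc (by rw [mul_smul, h2, inv_smul_smul])
      exact Subtype.ext (inv_mul_eq_one.mp this).symm
    obtain ⟨u, hu⟩ := (hf.bijective_of_nat_card_le
      (by rw [Perm.DoubleCount.card_ne, hn, hP]; omega)).2 ⟨d, hd⟩
    exact ⟨u, u.2, congrArg Subtype.val hu⟩
  obtain ⟨P⟩ : Nonempty (Sylow p G) := inferInstance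
  have h3 := Perm.ZassPSL.two_trans_of_regular (ha P) (h2 P)
  have h4 : ∀ (g : G) (x y z : Sylow p G), x ≠ y → y ≠ z → x ≠ z → g • x = x → g • y = y →
      g • z = z → g = 1 := by
    intro g x y z hxy hyz hxz hx hy hz
    obtain ⟨u, hu, huy⟩ := h2 x y z hxy.symm hxz.symm
    have h5 : g * u * g⁻¹ = u := by
      have := h1 x _ (mul_mem (inv_mem hu) ((mem_normalizer_iff.1
        (Sylow.smul_eq_iff_mem_normalizer.1 hx) u).1 hu)) y hxy.symm (by
        rw [mul_smul, mul_smul, mul_smul, inv_smul_eq_iff.mpr hy.symm, huy, hz, inv_smul_eq_iff, huy])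
      exact (inv_mul_eq_one.mp this).symm
    have h6 := hC u g (fun e => hyz (by rw [← huy, e, one_smul])) (isPGroup_iff.1 x.isPGroup' u hu)
      (mul_inv_eq_iff_eq_mul.1 h5).symm
    exact h1 x g (hmem x g h6 hx) y hxy.symm hy
  have hd0 : d = 1 ∨ d = 2 := (Nat.dvd_prime Nat.prime_two).1 (hd ▸ Nat.gcd_dvd_left _ _)
  have h5 : ∀ a b : Sylow p G, a ≠ b → Nat.card ↥(stabilizer G a ⊓ stabilizer G b) * d = q - 1 := by
    intro a b hab
    have h6 := Perm.ZassPSL.card_stabilizer_of_two h3 hab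
    have h7 := (stabilizer G a).card_mul_index
    rw [index_stabilizer_of_transitive, h6, hn, Nat.add_sub_cancel] at h7
    refine Nat.eq_of_mul_eq_mul_right (show 0 < q * (q + 1) by positivity) ?_
    rw [← mul_assoc (q - 1), ← hG, ← h7]
    ring
  have h6 : ∀ a b : Sylow p G, a ≠ b → ∃ g : G, g ≠ 1 ∧ g • a = a ∧ g • b = b := by
    intro a b hab
    obtain ⟨⟨g, hg⟩, hg1⟩ := ne_bot_iff_exists_ne_one.1 (show stabilizer G a ⊓ stabilizer G b ≠ ⊥ from
      fun e => by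
        have := h5 a b hab
        rw [e, card_bot] at this
        omega)
    exact ⟨g, fun e => hg1 (Subtype.ext e), hg.1, hg.2⟩
  have hnt : Nontrivial (Sylow p G) := Finite.one_lt_card_iff_nontrivial.1 (by omega)
  obtain ⟨Q, hQ⟩ := exists_ne P
  have hZ : IsZassenhausGroup G (Sylow p G) := by
    refine ⟨⟨fun {g₁ g₂} e => ?_⟩, h3, h4, ?_, fun N hNn hNt => ?_⟩
    · have := Fintype.ofFinite (Sylow p G)
      obtain ⟨x, y, z, hxy, hxz, hyz⟩ := (Fintype.two_lt_card_iff (α := Sylow p G)).1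
        (by rw [← Nat.card_eq_fintype_card]; omega)
      have h7 : ∀ x : Sylow p G, (g₂⁻¹ * g₁) • x = x := fun x => by rw [mul_smul, e, inv_smul_smul]
      exact (inv_mul_eq_one.1 (h4 _ x y z hxy hyz hxz (h7 x) (h7 y) (h7 z))).symm
    · obtain ⟨g, hg⟩ := h6 P Q hQ.symm
      exact ⟨g, hg.1, P, Q, hQ.symm, hg.2⟩
    by_contra! hr
    have h7 : ∀ n ∈ N, n • P = P → n = 1 := fun n hn e =>
      congrArg Subtype.val (mem_bot.1 ((hr P).le (show (⟨n, hn⟩ : N) ∈ stabilizer N P from e)) :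
        (⟨n, hn⟩ : N) = 1)
    obtain ⟨n, hnN, hn2⟩ := hN N hNn (by
      rw [← hn, ← index_stabilizer_of_transitive N P, hr, index_bot])
    have h8 : n • P ≠ P := fun e => hn2 (by rw [h7 n hnN e, mul_one])
    obtain ⟨k, hk1, hkP, hkn⟩ := h6 P (n • P) h8.symm
    have h9 : k * n * k⁻¹ = n := (inv_mul_eq_one.1 (h7 _ (mul_mem (inv_mem hnN) (hNn.conj_mem n hnN k)) (by
      rw [mul_smul, mul_smul, mul_smul, inv_smul_eq_iff.2 hkP.symm, hkn, inv_smul_smul]))).symm
    refine hk1 (h4 k P (n • P) (n • n • P) h8.symm (fun e => h8 (smul_left_cancel n e).symm)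
      (fun e => hn2 (h7 _ (mul_mem hnN hnN) (by rw [mul_smul, ← e]))) hkP hkn ?_)
    rw [← mul_smul, mul_inv_eq_iff_eq_mul.1 h9, mul_smul, hkn]
  have h7 := h5 P Q hQ.symm
  have key : ∃ (K : Type) (_ : Field K) (_ : Fintype K), Nat.card (Sylow p G) = Nat.card K + 1 ∧
      Nonempty (G ≃* Matrix.ProjectiveSpecialLinearGroup (Fin 2) K) := by
    rcases hd0 with rfl | rfl
    · refine Perm.ZassPSL.psl_of_sharp_odd hZ ?_ hQ.symm (by omega)
      have : ¬ 2 ∣ q - 1 := fun e => by simp [Nat.gcd_eq_left e] at hd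
      rw [hn, Nat.odd_iff]; omega
    · rcases Nat.even_or_odd (Nat.card ↥(stabilizer G P ⊓ stabilizer G Q)) with h8 | h8
      · exact Perm.ZassPSL.psl_of_even hZ hQ.symm h8 (by omega)
      · have := Perm.ZassPSL.simple_of_half_odd hZ hQ.symm h8 (by omega)
        exact Perm.ZassPSL.psl_of_simple hZ hQ.symm (by omega)
  obtain ⟨K, _, _, h8, h9⟩ := key
  exact Perm.ZassPSL.psl_transport (by omega) h9

end Cfsg.Agent.Part
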