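import Mathlib
import Cfsg.Agent.Part.ItoF
import Cfsg.Agent.S4035
import Cfsg.Agent.S4134

/-! Ito's theorem: a group with at most two noncentral class sizes is solvable. -/

set_option autoImplicit false
set_option linter.unusedSectionVars false

namespace Cfsg.Agent.Part.Ito

open Subgroup Cfsg Cfsg.Agent.PLocal Cfsg.Agent.PLocal.Amb

variable {G : Type*} [Group G] [Finite G]

theorem exists_sylow_le_c1 {r : ℕ} [Fact r.Prime] {H : Subgroup G} (h : ¬ r ∣ H.index) :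
    ∃ Q : Sylow r G, (Q : Subgroup G) ≤ H := by
  obtain ⟨Q, -, hQ⟩ := FGS.exists_sylow_le_of_not_dvd_index h IsPGroup.of_bot bot_le
  exact ⟨Q, hQ⟩

theorem comm_of_not_dvd {r : ℕ} (hr : r.Prime)
    (h : ∀ x : G, (orderOf x).Coprime r → ¬ r ∣ (ℭ[x]).index) {a b : G} (ha : ∃ k, a ^ r ^ k = 1)
    (hb : (orderOf b).Coprime r) : Commute a b := by
  haveI := Fact.mk hr
  obtain ⟨Q, hQ⟩ := exists_sylow_le_c1 (h b hb)
  haveI := (S4035.aux Q (S4035.sup_centralizer_eq_top h Q)).1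
  obtain ⟨P, hP⟩ := FGS.exists_sylow_mem ha
  haveI := Sylow.unique_of_normal Q inferInstance
  rw [Subsingleton.elim P Q] at hP
  exact mem_c1.1 (hQ hP)

theorem central_of_not_dvd {r t : ℕ} (hr : r.Prime) (ht : t.Prime) (htr : t ≠ r)
    (h : ∀ x : G, (orderOf x).Coprime r → ¬ r ∣ (ℭ[x]).index)
    (h' : ∀ x : G, (orderOf x).Coprime r → ¬ t ∣ (ℭ[x]).index) {v : G} (hv : ∃ k, v ^ t ^ k = 1) :
    v ∈ center G := by
  haveI := Fact.mk hr
  haveI := Fact.mk ht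
  obtain ⟨T, hT⟩ := FGS.exists_sylow_mem hv
  have : 𝐂[(T : Subgroup G)] = ⊤ := by
    apply FGS.eq_top_of_forall_exists_conj_mem
    intro g
    obtain ⟨a, b, -, -, hk, hb, rfl⟩ := Transfer.exists_pPart_mul (p := r) g
    obtain ⟨Q, hQ⟩ := exists_sylow_le_c1 (h' b hb)
    obtain ⟨x, rfl⟩ := MulAction.exists_smul_eq G Q T
    refine ⟨x, ?_⟩
    rw [coe_smul_sylow, centralizer_cj]
    refine conj_mem_cj x (mul_mem (mem_centralizer_iff.2 fun q hq => ?_)
      (mem_centralizer_iff.2 fun q hq => mem_c1.1 (hQ hq)))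
    exact (comm_of_not_dvd hr h hk
      (cop_of_pe ht hr htr (Amb.isPGroup_iff.1 Q.isPGroup' q hq))).symm
  exact mem_center_iff.2 fun g => (mem_centralizer_iff.1 (this.ge (mem_top g)) v hT).symm

theorem index_c1_sub (L : Subgroup G) (u : L) : (ℭ[u]).index = (ℭ[(u : G)]).relIndex L := by
  rw [FGS.centralizer_singleton_subgroupOf]; rfl

theorem mem_center_sub {L : Subgroup G} {u : L} : u ∈ center L ↔ L ≤ ℭ[(u : G)] := by
  rw [← index_c1_eq_one, index_c1_sub, relIndex_eq_one]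

theorem solvable_of_two_primes {q₁ q₂ : ℕ}
    (h : ∀ r : ℕ, r.Prime → r ∣ Nat.card G → r = q₁ ∨ r = q₂) : Group.IsSolvable G := by
  have key : ∀ q : ℕ, ∃ p : ℕ, p.Prime ∧ ∀ r : ℕ, r.Prime → r = q → r = p := fun q => by
    by_cases hq : q.Prime
    · exact ⟨q, hq, fun _ _ e => e⟩
    · exact ⟨2, Nat.prime_two, fun r hr e => absurd (e ▸ hr) hq⟩
  obtain ⟨p₁, hp₁, h₁⟩ := key q₁
  obtain ⟨p₂, hp₂, h₂⟩ := key q₂
  refine Char.isSolvable_of_card_dvd_pow_mul_pow (a := Nat.card G) (b := Nat.card G) hp₁ hp₂ G ?_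
  rw [Nat.dvd_iff_prime_pow_dvd_dvd]
  intro r k hr hd
  rcases k with _ | k
  · simp
  have hk : r ^ (k + 1) ∣ r ^ Nat.card G := pow_dvd_pow r
    ((Nat.lt_pow_self hr.one_lt).le.trans (Nat.le_of_dvd Nat.card_pos hd))
  rcases h r hr ((dvd_pow_self r k.succ_ne_zero).trans hd) with e | e
  · rw [← h₁ r hr e]; exact hk.mul_right _
  · rw [← h₂ r hr e]; exact hk.mul_left _

/-- at least three primes divide `|G : Z(G)|` -/
def ThreeP (G : Type*) [Group G] : Prop :=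
  ∀ p q : ℕ, ∃ r : ℕ, r.Prime ∧ r ≠ p ∧ r ≠ q ∧ ∃ y : G, y ∉ center G ∧ ∃ k, y ^ r ^ k = 1

theorem solvable_of_not_threeP (h : ¬ ThreeP G) : Group.IsSolvable G := by
  unfold ThreeP at h
  push Not at h
  obtain ⟨p, q, h⟩ := h
  refine solvable_of_quot_center (solvable_of_two_primes (q₁ := p) (q₂ := q) fun r hr hd => ?_)
  obtain ⟨y, -, hy, k, hk⟩ := exists_pe_of_dvd (le_norm_center (⊤ : Subgroup G)) hr
    (by rw [relIndex_top_right]; exact hd)
  by_contra hn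
  push Not at hn
  exact h r hr hn.1 hn.2 y hy k hk

/-- two class sizes `m` and `k * m` -/
structure TwoSz (G : Type*) [Group G] (m k : ℕ) : Prop where
  sz : ∀ x : G, x ∉ center G → (ℭ[x]).index = m ∨ (ℭ[x]).index = k * m
  one_lt : 1 < k
  pos : 0 < m

variable {m k : ℕ}

theorem TwoSz.not_dvd (h : TwoSz G m k) : ¬ k * m ∣ m := fun hd => by
  have := Nat.le_of_dvd h.pos hd
  have := h.one_lt
  have := h.pos
  nlinarith

theorem TwoSz.large (h : TwoSz G m k) {v w : G} (hv : (ℭ[v]).index = m) (hw : w ∉ center G)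
    (hle : ℭ[v] ≤ ℭ[w]) : ℭ[v] = ℭ[w] := by
  refine eq_of_le_of_index hle (hv.trans ((h.sz w hw).resolve_right fun e => h.not_dvd ?_).symm)
  exact e ▸ hv ▸ index_dvd_of_le hle

theorem TwoSz.small (h : TwoSz G m k) {u v : G} (hu : (ℭ[u]).index = k * m) (hu' : u ∉ center G)
    (hc : Commute u v) (hcop : (orderOf u).Coprime (orderOf v)) : ℭ[u] ≤ ℭ[v] := by
  have e := c1_mul hc hcop
  have h1 : ℭ[u * v] ≤ ℭ[u] := e.le.trans inf_le_left
  have h2 : (ℭ[u * v]).index = k * m :=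
    (h.sz _ (mul_not_mem_center hc hcop hu')).resolve_left fun e' =>
      h.not_dvd (hu ▸ e' ▸ index_dvd_of_le h1)
  exact (eq_of_le_of_index h1 (h2.trans hu.symm)).ge.trans (e.le.trans inf_le_right)

theorem TwoSz.relIndex_eq (h : TwoSz G m k) {H L : Subgroup G} (hle : H ≤ L) (hH : H.index = k * m)
    (hL : L.index = m) : H.relIndex L = k := by
  have := relIndex_mul_index hle
  rw [hH, hL] at this
  exact Nat.eq_of_mul_eq_mul_right h.pos this

theorem TwoSz.sub (h : TwoSz G m k) {y : G} (hy : (ℭ[y]).index = m) (hy' : y ∉ center G)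
    {z : ℭ[y]} (hcop : (orderOf y).Coprime (orderOf z)) :
    (ℭ[z]).index = 1 ∨ (ℭ[z]).index = k := by
  rw [← orderOf_coe] at hcop
  have hc : Commute y z := (mem_c1.1 z.2).symm
  have e := c1_mul hc hcop
  have h1 : ℭ[y * z] ≤ ℭ[y] := e.le.trans inf_le_left
  rw [index_c1_sub, ← inf_relIndex_left, ← e]
  rcases h.sz _ (mul_not_mem_center hc hcop hy') with h2 | h2
  · left; rw [eq_of_le_of_index h1 (h2.trans hy.symm), relIndex_self]
  · exact Or.inr (h.relIndex_eq h1 h2 hy)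

theorem TwoSz.exists_pe_large (h : TwoSz G m k) {u : G} (hu : (ℭ[u]).index = m) {t : ℕ}
    (ht : t.Prime) (hy : ∃ y : G, y ∉ center G ∧ ∃ j, y ^ t ^ j = 1) :
    ∃ x ∈ ℭ[u], x ∉ center G ∧ ∃ j, x ^ t ^ j = 1 := by
  obtain ⟨y, hy, hk⟩ := hy
  have h1 : ¬ t ∣ 1 := by rw [Nat.dvd_one]; exact ht.ne_one
  rcases h.sz y hy with e | e
  · exact exists_pe_c1 (a := 1) (b := 1) ht hy hk (by rw [hu, e]) h1 one_ne_zero
  · exact exists_pe_c1 (a := k) (b := 1) ht hy hk (by rw [hu, e]; ring) h1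
      (by have := h.one_lt; omega)

theorem TwoSz.exists_pow (h : TwoSz G m k) (h3 : ThreeP G) {x y : G} (hx : (ℭ[x]).index = k * m)
    (hy : (ℭ[y]).index = m) (hy' : y ∉ center G) (hle : ℭ[x] ≤ ℭ[y]) :
    ∃ p a : ℕ, p.Prime ∧ k = p ^ a := by
  obtain ⟨r, hr, y₁, hyy, hy₁, hk⟩ := exists_primary hy'
  have e₁ := h.large hy hy₁ (c1_le_of_mem_zpowers hyy)
  rw [e₁] at hy hle
  clear e₁ hyy hy' y
  haveI := Fact.mk hr
  let x' : ℭ[y₁] := ⟨x, hle (self_mem_c1 x)⟩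
  have hx' : (ℭ[x']).index = k := by rw [index_c1_sub]; exact h.relIndex_eq hle hx hy
  have hsub : ∀ u : ℭ[y₁], (orderOf u).Coprime r → u ∉ center ℭ[y₁] → (ℭ[u]).index = k :=
    fun u hu hu' => (h.sub hy hy₁ (Nat.Coprime.coprime_dvd_left (orderOf_dvd_of_pow_eq_one
      hk.choose_spec) (hu.symm.pow_left _))).resolve_left fun e => hu' (index_c1_eq_one.1 e)
  rcases pow_or_of_const hr hsub with h1 | ⟨q, hq⟩
  · by_cases hex : ∃ u : ℭ[y₁], (orderOf u).Coprime r ∧ u ∉ center ℭ[y₁]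
    · obtain ⟨u, hu, hu'⟩ := hex
      obtain ⟨a, ha⟩ := h1 u hu
      exact ⟨r, a, hr, (hsub u hu hu').symm.trans ha⟩
    · push Not at hex
      refine ⟨r, _, hr, hx' ▸ Nat.eq_prime_pow_of_unique_prime_dvd
        (ℭ[x']).index_ne_zero_of_finite fun {t} ht hd => ?_⟩
      by_contra htr
      haveI := Fact.mk ht
      obtain ⟨T⟩ : Nonempty (Sylow t ℭ[y₁]) := inferInstance
      exact not_dvd_index_of_sylow_le T (fun v hv => center_le_c1 _ (hex v
        (cop_of_pe ht hr htr (Amb.isPGroup_iff.1 T.isPGroup' v hv)))) hd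
  · obtain ⟨t, ht, htr, htq, hex⟩ := h3 r q
    haveI := Fact.mk ht
    obtain ⟨w, hwy, hw, j, hj⟩ := h.exists_pe_large hy ht hex
    have e := h.large hy hw (mem_center_sub.1 (hq t ht htr htq ⟨w, hwy⟩ ⟨j, Subtype.ext hj⟩))
    have hall : ∀ g : ℭ[y₁], (ℭ[g]).index = 1 ∨ (ℭ[g]).index = k := by
      intro g
      obtain ⟨a, b, -, -, hak, hb, rfl⟩ := Transfer.exists_pPart_mul (p := t) g
      rw [c1_center_mul (hq t ht htr htq a hak), index_c1_sub]
      have := h.sub (e ▸ hy) hw (z := ⟨b, e.le b.2⟩) (by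
        rw [← orderOf_coe]
        exact cop_of_pe' (y := (b : G)) ⟨j, hj⟩ (by rwa [orderOf_coe]))
      rw [index_c1_sub] at this
      dsimp only at this
      rwa [← e] at this
    obtain ⟨p, hp, a, ha, -⟩ := S4134.result k h.one_lt hall ⟨x', hx'⟩
    exact ⟨p, a, hp.out, ha⟩

theorem TwoSz.large_le {p a : ℕ} (hp : p.Prime) (h : TwoSz G m (p ^ a)) {r t : ℕ} (hr : r.Prime)
    (ht : t.Prime) (hrp : r ≠ p) (htp : t ≠ p) (htr : t ≠ r) {u v : G} (hu : (ℭ[u]).index = m)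
    (hu' : u ∉ center G) (huk : ∃ j, u ^ r ^ j = 1) (hvk : ∃ j, v ^ t ^ j = 1) (hv : v ∈ ℭ[u]) :
    ℭ[u] ≤ ℭ[v] := by
  have key : ∀ s : ℕ, s.Prime → s ≠ p → ∀ z : ℭ[u], (orderOf z).Coprime r → ¬ s ∣ (ℭ[z]).index := by
    intro s hs hsp z hz hd
    rcases h.sub hu hu' (z := z) (Nat.Coprime.coprime_dvd_left (orderOf_dvd_of_pow_eq_one
      huk.choose_spec) (hz.symm.pow_left _)) with e | e
    · rw [e, Nat.dvd_one] at hd; exact hs.ne_one hd
    · rw [e] at hd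
      exact hsp ((Nat.prime_dvd_prime_iff_eq hs hp).1 (hs.dvd_of_dvd_pow hd))
  exact mem_center_sub.1 (central_of_not_dvd hr ht htr (key r hr hrp) (key t ht htp)
    (v := ⟨v, hv⟩) (hvk.imp fun j hj => Subtype.ext hj))

theorem TwoSz.core {p a : ℕ} (hp : p.Prime) (h : TwoSz G m (p ^ a)) (h3 : ThreeP G) : Core p G := by
  have idx : ∀ u : G, u ∉ center G → ∃ i, (ℭ[u]).index = m * p ^ i := fun u hu => by
    rcases h.sz u hu with e | e
    · exact ⟨0, by rw [e, pow_zero, mul_one]⟩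
    · exact ⟨a, by rw [e, mul_comm]⟩
  refine ⟨le_of_primary ?_, ⟨m, fun u _ hu => idx u hu⟩, h3 p⟩
  intro r t hr ht hrp htp u v huk hvk hu' hc
  have hv : v ∈ ℭ[u] := mem_c1.2 hc.symm
  by_cases htr : t = r
  · subst htr
    obtain ⟨s, hs, hsp, hst, y, hy, hyk⟩ := h3 p t
    obtain ⟨i, hi⟩ := idx u hu'
    obtain ⟨j, hj⟩ := idx y hy
    obtain ⟨w, hwu, hw, hwk⟩ := exists_pe_c1 (u := u) (a := p ^ j) (b := p ^ i) hs hy hyk
      (by rw [hi, hj]; ring)
      (fun hd => hsp ((Nat.prime_dvd_prime_iff_eq hs hp).1 (hs.dvd_of_dvd_pow hd)))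
      (pow_ne_zero _ hp.ne_zero)
    have h1 : ℭ[u] ≤ ℭ[w] := by
      rcases h.sz u hu' with e | e
      · exact h.large_le hp hr hs hrp hsp hst e hu' huk hwk hwu
      · exact h.small e hu' (mem_c1.1 hwu).symm (cop_of_pe' huk (cop_of_pe hs hr hst hwk))
    refine h1.trans ?_
    rcases h.sz w hw with e | e
    · exact h.large_le hp hs hr hsp hrp hst.symm e hw hwk hvk (h1 hv)
    · exact h.small e hw (mem_c1.1 (h1 hv)).symm (cop_of_pe' hwk (cop_of_pe hr hs hst.symm hvk))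
  · rcases h.sz u hu' with e | e
    · exact h.large_le hp hr ht hrp htp htr e hu' huk hvk hv
    · exact h.small e hu' hc (cop_of_pe' huk (cop_of_pe ht hr htr hvk))

theorem index_ne_of_pcent {p : ℕ} (hp : p.Prime) {x : G}
    (hx : ∀ c ∈ ℭ[x], ∃ k, c ^ p ^ k ∈ center G) {u : G} (hu : (orderOf u).Coprime p)
    (hu' : u ∉ center G) : ¬ (ℭ[x]).index ∣ (ℭ[u]).index := by
  intro hd
  obtain ⟨r, hr, y, hyu, hy, hk⟩ := exists_primary hu'
  have hrp := ne_of_pe_of_cop hy hk (cop_of_mem_zpowers hu hyu)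
  have h1 := dvd_relIndex_of_pe (le_norm_center _) hr (zpowers_le.2 (self_mem_c1 u) hyu) hy hk
  have e1 := relIndex_mul_index (center_le_c1 u)
  have e2 := relIndex_mul_index (center_le_c1 x)
  obtain ⟨c, hc⟩ := hd
  have e3 : (center G).relIndex ℭ[x] = (center G).relIndex ℭ[u] * c := by
    refine Nat.eq_of_mul_eq_mul_right (Nat.pos_of_ne_zero (ℭ[x]).index_ne_zero_of_finite) ?_
    rw [e2, ← e1, hc]; ring
  obtain ⟨w, hwx, hw, hwk⟩ := exists_pe_of_dvd (le_norm_center ℭ[x]) hr (e3 ▸ h1.mul_right c)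
  obtain ⟨j, hj⟩ := hx w hwx
  exact hw (FGS.mem_of_pow_mem_of_coprime ((cop_of_pe hr hp hrp hwk).pow_right j) hj)

theorem L2Sz.exists_pcent_quot (h : L2Sz (G ⧸ center G)) :
    ∃ p : ℕ, p.Prime ∧ ∃ x : G, x ∉ center G ∧ ∀ c ∈ ℭ[x], ∃ k, c ^ p ^ k ∈ center G := by
  obtain ⟨p, hp, x, hx1, hx⟩ := h.exists_pcent
  obtain ⟨x, rfl⟩ := QuotientGroup.mk_surjective x
  refine ⟨p, hp, x, fun hz => hx1 ((QuotientGroup.eq_one_iff x).2 hz), fun c hc => ?_⟩
  obtain ⟨k, hk⟩ := hx c (mem_c1.2 ((mem_c1.1 hc).map (QuotientGroup.mk' _)))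
  exact ⟨k, (QuotientGroup.eq_one_iff _).1 hk⟩

theorem exists_twoSz {m n : ℕ} (h : ∀ x : G, x ∉ center G → (ℭ[x]).index = m ∨ (ℭ[x]).index = n)
    (hF : ¬ FGrp G) : ∃ m k, TwoSz G m k ∧ ∃ x y : G, (ℭ[x]).index = k * m ∧ (ℭ[y]).index = m ∧
      x ∉ center G ∧ y ∉ center G ∧ ℭ[x] ≤ ℭ[y] := by
  unfold FGrp at hF
  push Not at hF
  obtain ⟨x, y, hx, hy, hle, hn⟩ := hF
  have e := relIndex_mul_index hle
  have hne : (ℭ[x]).index ≠ (ℭ[y]).index := fun e' => hn (eq_of_le_of_index hle e').ge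
  refine ⟨(ℭ[y]).index, (ℭ[x]).relIndex ℭ[y], ⟨fun z hz => ?_, ?_,
    Nat.pos_of_ne_zero index_ne_zero_of_finite⟩, x, y, e.symm, rfl, hx, hy, hle⟩
  · rw [e]
    rcases h x hx with e1 | e1 <;> rcases h y hy with e2 | e2 <;> rcases h z hz with e3 | e3 <;>
      omega
  · have h0 : (ℭ[x]).relIndex ℭ[y] ≠ 0 := index_ne_zero_of_finite
    have h1 : (ℭ[x]).relIndex ℭ[y] ≠ 1 := fun e' => hn (relIndex_eq_one.1 e')
    omega

theorem solvable_of_two_sizes {m n : ℕ}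
    (h : ∀ x : G, x ∉ center G → (ℭ[x]).index = m ∨ (ℭ[x]).index = n) : Group.IsSolvable G := by
  by_cases h3 : ThreeP G
  swap
  · exact solvable_of_not_threeP h3
  by_cases hF : FGrp G
  · refine hF.solvable_or.elim id fun hL => ?_
    obtain ⟨p, hp, x, hx', hx⟩ := hL.exists_pcent_quot
    haveI := Fact.mk hp
    rcases h x hx' with e | e
    · exact solvable_of_reg_pow hp (core_of_const (m := n) hp (fun u hu hu' => (h u hu').resolve_left
        fun e' => index_ne_of_pcent hp hx hu hu' (e.trans e'.symm).dvd) (h3 p)).index_eq_pow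
    · exact solvable_of_reg_pow hp (core_of_const (m := m) hp (fun u hu hu' => (h u hu').resolve_right
        fun e' => index_ne_of_pcent hp hx hu hu' (e.trans e'.symm).dvd) (h3 p)).index_eq_pow
  · obtain ⟨m, k, hT, x, y, hx, hy, -, hy', hle⟩ := exists_twoSz h hF
    obtain ⟨p, a, hp, rfl⟩ := hT.exists_pow h3 hx hy hy' hle
    haveI := Fact.mk hp
    exact solvable_of_reg_pow hp (hT.core hp h3).index_eq_pow

end Cfsg.Agent.Part.Ito
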