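import Mathlib
import Cfsg.Agent.Part.ItoRank2
import Cfsg.Agent.S4127
import Cfsg.Agent.Solv.Coprime3
import Cfsg.Agent.Grp.CoprimeIndex

/-! A group with class sizes `1, m, m n` (`m`, `n` coprime) is an F-group. -/

set_option autoImplicit false
set_option linter.unusedSectionVars false

namespace Cfsg.Agent.Part.Ito

open Subgroup Cfsg Cfsg.Agent.PLocal Cfsg.Agent.PLocal.Amb

variable {G : Type*} [Group G] [Finite G]

theorem pe_mem {X N W : Subgroup G} {p : ℕ} (hp : p.Prime) (hXN : X ≤ N) {g : G} (hgW : g ∈ W)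
    (hgN : g ∈ 𝐍[N]) (hk : ∃ k, g ^ p ^ k = 1) (h : ¬ p ∣ X.relIndex W) : g ∈ N := by
  by_contra hn
  apply h
  have h1 := dvd_relIndex_of_pe (L := N) (N := 𝐍[N] ⊓ W) inf_le_left hp (mem_inf.2 ⟨hgN, hgW⟩) hn hk
  have h2 := relIndex_inf_mul_relIndex N 𝐍[N] W
  rw [inf_eq_left.2 le_normalizer] at h2
  exact (h1.trans (Dvd.intro _ h2)).trans (relIndex_dvd_of_le_left _ hXN)

theorem exists_pe_c1' {u v y : G} {r a b : ℕ} (hr : r.Prime) (hyv : y ∈ ℭ[v]) (hy : y ∉ center G)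
    (hk : ∃ k, y ^ r ^ k = 1) (h : (ℭ[u]).index * a = (ℭ[v]).index * b) (hb : ¬ r ∣ b) :
    ∃ x ∈ ℭ[u], x ∉ center G ∧ ∃ k, x ^ r ^ k = 1 := by
  refine exists_pe_of_dvd (le_norm_center _) hr ?_
  have h1 := dvd_relIndex_of_pe (le_norm_center _) hr hyv hy hk
  have e1 := relIndex_mul_index (center_le_c1 u)
  have e2 := relIndex_mul_index (center_le_c1 v)
  have e3 : (center G).relIndex ℭ[u] * b = (center G).relIndex ℭ[v] * a := by
    refine Nat.eq_of_mul_eq_mul_right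
      (Nat.pos_of_ne_zero (ℭ[v]).index_ne_zero_of_finite) ?_
    calc (center G).relIndex ℭ[u] * b * (ℭ[v]).index
        = (center G).relIndex ℭ[u] * ((ℭ[u]).index * a) := by rw [h]; ring
      _ = (center G).index * a := by rw [← e1]; ring
      _ = _ := by rw [← e2]; ring
  exact ((Nat.Prime.dvd_mul hr).1 (e3 ▸ h1.mul_right a)).resolve_right hb

theorem TwoSz.exists_pe_small {m k : ℕ} (h : TwoSz G m k) {x y : G} (hx : (ℭ[x]).index = k * m)
    {r : ℕ} (hr : r.Prime) (hyx : y ∈ ℭ[x]) (hy : y ∉ center G) (hk : ∃ k, y ^ r ^ k = 1) {u : G}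
    (hu : u ∉ center G) : ∃ w ∈ ℭ[u], w ∉ center G ∧ ∃ k, w ^ r ^ k = 1 := by
  have h1 : ¬ r ∣ 1 := by rw [Nat.dvd_one]; exact hr.ne_one
  rcases h.sz u hu with e | e
  · exact exists_pe_c1' (a := k) (b := 1) hr hyx hy hk (by rw [hx, e]; ring) h1
  · exact exists_pe_c1' (a := 1) (b := 1) hr hyx hy hk (by rw [hx, e]) h1

theorem not_dvd_pow_of_ne {p q : ℕ} (hp : p.Prime) (hq : q.Prime) (h : p ≠ q) (b : ℕ) :
    ¬ p ∣ q ^ b := fun hd => h ((Nat.prime_dvd_prime_iff_eq hp hq).1 (hp.dvd_of_dvd_pow hd))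

theorem TwoSz.not_dvd_relIndex {m k p : ℕ} (h : TwoSz G m k) (hp : p.Prime) (hk : ¬ p ∣ k)
    {u v : G} (hu : u ∉ center G) (hv : v ∉ center G) (hle : ℭ[u] ≤ ℭ[v]) :
    ¬ p ∣ (ℭ[u]).relIndex ℭ[v] := by
  have h1 : ¬ p ∣ 1 := by rw [Nat.dvd_one]; exact hp.ne_one
  rcases h.sz v hv with e | e
  · rcases h.sz u hu with e' | e'
    · rwa [eq_of_le_of_index hle (e'.trans e.symm), relIndex_self]
    · rwa [h.relIndex_eq hle e' e]
  · rcases h.sz u hu with e' | e'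
    · exact absurd (e ▸ e' ▸ index_dvd_of_le hle) h.not_dvd
    · rwa [eq_of_le_of_index hle (e'.trans e.symm), relIndex_self]

theorem TwoSz.comm_large {m k p : ℕ} (h : TwoSz G m k) (hp : p.Prime) (hk : ¬ p ∣ k) {y : G}
    (hy : (ℭ[y]).index = m) (hy' : y ∉ center G) (hyk : ∃ j, y ^ p ^ j = 1) {a b : G}
    (ha : a ∈ ℭ[y]) (hb : b ∈ ℭ[y]) (hak : ∃ j, a ^ p ^ j = 1) (hbp : (orderOf b).Coprime p) :
    Commute a b := by
  have := comm_of_not_dvd (G := ℭ[y]) hp (fun z hz hd => by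
    rcases h.sub hy hy' (z := z) (Nat.Coprime.coprime_dvd_left (orderOf_dvd_of_pow_eq_one
      hyk.choose_spec) (hz.symm.pow_left _)) with e | e
    · rw [e, Nat.dvd_one] at hd; exact hp.ne_one hd
    · exact hk (e ▸ hd)) (a := ⟨a, ha⟩) (b := ⟨b, hb⟩) (hak.imp fun j hj => Subtype.ext hj)
    (by rwa [← orderOf_coe])
  exact congrArg Subtype.val this.eq

/-- class sizes `p ^ a` and `q ^ b * p ^ a`, and `G / Z(G)` is a `{p, q}`-group -/
structure PQ (G : Type*) [Group G] (p q a b : ℕ) : Prop where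
  hp : p.Prime
  hq : q.Prime
  ne : p ≠ q
  two : TwoSz G (p ^ a) (q ^ b)
  ha : a ≠ 0
  cen : ∀ r : ℕ, r.Prime → r ≠ p → r ≠ q → ∀ y : G, (∃ k, y ^ r ^ k = 1) → y ∈ center G

variable {p q a b : ℕ}

theorem PQ.dvd (h : PQ G p q a b) {u : G} (hu : u ∉ center G) : p ^ a ∣ (ℭ[u]).index := by
  rcases h.two.sz u hu with e | e
  · exact e ▸ dvd_rfl
  · exact e ▸ Dvd.intro_left _ rfl

theorem PQ.dvd' (h : PQ G p q a b) {u : G} (hu : u ∉ center G) : p ∣ (ℭ[u]).index :=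
  (dvd_pow_self p h.ha).trans (h.dvd hu)

theorem PQ.not_dvd (h : PQ G p q a b) (u : G) : ¬ p ^ (a + 1) ∣ (ℭ[u]).index := by
  intro hd
  have key : ¬ p ^ (a + 1) ∣ q ^ b * p ^ a := fun hd => by
    rw [pow_succ'] at hd
    exact not_dvd_pow_of_ne h.hp h.hq h.ne b
      (Nat.dvd_of_mul_dvd_mul_right (pow_pos h.hp.pos a) hd)
  by_cases hu : u ∈ center G
  · rw [index_c1_eq_one.2 hu] at hd; exact key (hd.trans (one_dvd _))
  · rcases h.two.sz u hu with e | e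
    · exact key ((e ▸ hd).mul_left _)
    · exact key (e ▸ hd)

theorem PQ.b_ne (h : PQ G p q a b) : b ≠ 0 := by
  rintro rfl
  exact absurd h.two.one_lt (by simp)

theorem PQ.reg_central (h : PQ G p q a b) {u : G} (hp : (orderOf u).Coprime p)
    (hq : (orderOf u).Coprime q) : u ∈ center G :=
  FGS.mem_of_forall_primePow_part fun r hr y hy hk => by
    by_contra hz
    exact hz (h.cen r hr (ne_of_pe_of_cop hz hk (cop_of_mem_zpowers hp hy))
      (ne_of_pe_of_cop hz hk (cop_of_mem_zpowers hq hy)) y hk)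

theorem PQ.caseI (h : PQ G p q a b) {y₀ : G} (hy₀ : (ℭ[y₀]).index = p ^ a)
    (hk₀ : ∃ k, y₀ ^ p ^ k = 1) {x y : G} (hx : (ℭ[x]).index = q ^ b * p ^ a)
    (hy : (ℭ[y]).index = p ^ a) (hyk : (∃ k, y ^ p ^ k = 1) ∨ ∃ k, y ^ q ^ k = 1)
    (hle : ℭ[x] ≤ ℭ[y]) : False := by
  haveI := Fact.mk h.hp
  haveI := Fact.mk h.hq
  have hpq := not_dvd_pow_of_ne h.hp h.hq h.ne
  have hqp := not_dvd_pow_of_ne h.hq h.hp h.ne.symm
  have nc : ∀ {u : G}, (ℭ[u]).index = p ^ a → u ∉ center G := fun hu hz => by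
    rw [index_c1_eq_one.2 hz] at hu
    exact h.hp.one_lt.ne' ((Nat.pow_eq_one.1 hu.symm).resolve_right h.ha)
  have hN := S4127.result p a h.not_dvd ⟨y₀, by
    obtain ⟨k, hk⟩ := hk₀
    obtain ⟨j, -, hj⟩ := (Nat.dvd_prime_pow h.hp).1 (orderOf_dvd_of_pow_eq_one hk)
    exact ⟨j, hj⟩, hy₀⟩
  obtain ⟨Q⟩ : Nonempty (Sylow q G) := inferInstance
  have hQe : ∀ v ∈ (Q : Subgroup G), ∃ k, v ^ q ^ k = 1 := Amb.isPGroup_iff.1 Q.isPGroup'
  have hQK : (Q : Subgroup G) ≤ pResidual p G := fun v hv =>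
    Transfer.mem_pResidual_of_coprime (cop_of_pe h.hq h.hp h.ne.symm (hQe v hv))
  haveI hQn : (Q : Subgroup G).Normal := by
    rw [← normalizer_eq_top_iff, eq_top_iff, ← Sylow.normalizer_sup_eq_top' Q hQK]
    refine sup_le le_rfl (Solv.le_of_forall_sylow_le _ _ fun r hr => ?_)
    by_cases e : r = q
    · subst e
      refine ⟨Q.subtype hQK, ?_⟩
      rw [Sylow.coe_subtype, subgroupOf_map_subtype]
      exact inf_le_left.trans le_normalizer
    · obtain ⟨R⟩ : Nonempty (Sylow r (pResidual p G)) := inferInstance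
      refine ⟨R, ?_⟩
      rintro _ ⟨v, hv, rfl⟩
      refine (center_le_centralizer _).trans (centralizer_le_normalizer _) (h.reg_central
        ((Transfer.HasNormalPComplement.mem_pResidual_iff hN).1 v.2) (cop_of_pe hr.out h.hq e ?_))
      exact pe_map (pResidual p G).subtype (Amb.isPGroup_iff.1 R.isPGroup' v hv)
  haveI := Sylow.unique_of_normal Q hQn
  have hQall : ∀ v : G, (∃ k, v ^ q ^ k = 1) → v ∈ (Q : Subgroup G) := fun v hv => by
    obtain ⟨R, hR⟩ := FGS.exists_sylow_mem hv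
    rwa [Subsingleton.elim R Q] at hR
  have hQl : ∀ {u : G}, (ℭ[u]).index = p ^ a → (Q : Subgroup G) ≤ ℭ[u] := fun hu => by
    obtain ⟨R, hR⟩ := exists_sylow_le_c1 (r := q) (hu ▸ hqp a)
    rwa [Subsingleton.elim R Q] at hR
  have hD : ∀ {u : G}, (ℭ[u]).index = p ^ a → (∃ k, u ^ p ^ k = 1) → ∀ g ∈ ℭ[u],
      (∃ k, g ^ p ^ k = 1) → g ∈ 𝐂[(Q : Subgroup G)] := fun hu huk g hg hgk =>
    mem_centralizer_iff.2 fun v hv => (h.two.comm_large h.hp (hpq b) hu (nc hu) huk hg (hQl hu hv)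
      hgk (cop_of_pe h.hq h.hp h.ne.symm (hQe v hv))).symm
  have hDi : ¬ p ^ (a + 1) ∣ (𝐂[(Q : Subgroup G)]).index := fun hd => by
    have h1 : ¬ p ∣ (𝐂[(Q : Subgroup G)]).relIndex ℭ[y₀] := fun hd => by
      obtain ⟨g, hg, hg', hgk⟩ := exists_pe_of_dvd (fun g _ => mem_norm_of_normal _ g) h.hp hd
      exact hg' (hD hy₀ hk₀ g hg hgk)
    have h2 := relIndex_mul_index (inf_le_right : 𝐂[(Q : Subgroup G)] ⊓ ℭ[y₀] ≤ _)
    rw [inf_relIndex_right, hy₀] at h2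
    have h3 := hd.trans (index_dvd_of_le (inf_le_left : 𝐂[(Q : Subgroup G)] ⊓ ℭ[y₀] ≤ _))
    rw [← h2, pow_succ'] at h3
    exact h1 (Nat.dvd_of_mul_dvd_mul_right (pow_pos h.hp.pos a) h3)
  have hDv : ∀ v ∈ (Q : Subgroup G), 𝐂[(Q : Subgroup G)] ≤ ℭ[v] := fun v hv g hg =>
    mem_c1.2 (mem_centralizer_iff.1 hg v hv).symm
  have hv : ∀ v ∈ (Q : Subgroup G), v ∉ center G → ∀ g ∈ ℭ[v], (∃ k, g ^ p ^ k = 1) →
      g ∈ 𝐂[(Q : Subgroup G)] := fun v hv hv' g hg hgk =>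
    pe_mem h.hp le_rfl hg (mem_norm_of_normal _ g) hgk fun hd => hDi (by
      rw [← relIndex_mul_index (hDv v hv), pow_succ']
      exact Nat.mul_dvd_mul hd (h.dvd hv'))
  obtain ⟨v, hv', hvk⟩ := exists_pe_of_dvd_index (x := x) h.hq
    (hx ▸ (dvd_pow_self q h.b_ne).mul_right _)
  obtain ⟨g, -, hg, hgk⟩ := exists_pe_of_dvd (L := 𝐂[(Q : Subgroup G)]) (N := ⊤)
    (fun g _ => mem_norm_of_normal _ g) h.hp (by
      rw [relIndex_top_right]
      exact (h.dvd' hv').trans (index_dvd_of_le (hDv v (hQall v hvk))))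
  have hg' : g ∉ center G := fun hz => hg (center_le_centralizer _ hz)
  have hsm : ∀ w ∈ ℭ[x], (∃ k, w ^ q ^ k = 1) → w ∈ center G := fun w hw hwk => by
    by_contra hz
    obtain ⟨w', hw', hz', hk'⟩ := h.two.exists_pe_small hx h.hq hw hz hwk hg'
    exact hg (hv w' (hQall w' hk') hz' g (mem_c1.2 (mem_c1.1 hw').symm) hgk)
  have hyx : y ∈ ℭ[x] := mem_c1.2 (mem_c1.1 (hle (self_mem_c1 x))).symm
  have hyp := hyk.resolve_right fun hk => nc hy (hsm y hyx hk)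
  refine not_dvd_index_of_sylow_le Q (H := ℭ[x]) (fun v hvQ => ?_)
    (hx ▸ (dvd_pow_self q h.b_ne).mul_right _)
  refine mem_c1.2 (mem_c1.1 (FGS.mem_of_forall_primePow_part fun r hr w hw hk => ?_)).symm
  have hwx : w ∈ ℭ[x] := zpowers_le.2 (self_mem_c1 x) hw
  by_cases e : r = p
  · subst e
    exact hDv v hvQ (hD hy hyp w (hle hwx) hk)
  · by_cases e' : r = q
    · subst e'
      exact center_le_c1 v (hsm w hwx hk)
    · exact center_le_c1 v (h.cen r hr e e' w hk)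

theorem exists_central_mod {p : ℕ} [hp : Fact p.Prime] {P : Subgroup G} (hP : IsPGroup p P)
    (h : ¬ P ≤ center G) : ∃ w ∈ P, w ∉ center G ∧ w ^ p ∈ center G ∧
      ∀ g ∈ P, g * w * g⁻¹ * w⁻¹ ∈ center G := by
  let π := QuotientGroup.mk' (center G)
  have hπ : ∀ x, π x = 1 ↔ x ∈ center G := fun x => QuotientGroup.eq_one_iff x
  have h1 : P.map π ≠ ⊥ := fun e =>
    h (((Subgroup.map_eq_bot_iff _).1 e).trans (QuotientGroup.ker_mk' _).le)
  haveI := (hP.map π).isNilpotent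
  obtain ⟨_, ⟨w, hw, rfl⟩, hc, ho⟩ := Solv.NA.exists_central_of_dvd (p := p) this
    (Solv.NA.dvd_card_of_ne_bot (hP.map π) h1)
  refine ⟨w, hw, fun hz => ?_, ?_, fun g hg => ?_⟩
  · rw [(hπ w).2 hz, orderOf_one] at ho; exact hp.out.ne_one ho.symm
  · rw [← hπ, map_pow, ← ho, pow_orderOf_eq_one]
  · rw [← hπ]
    simp only [map_mul, map_inv]
    rw [mem_centralizer_iff.1 hc _ (mem_map_of_mem π hg)]; group

theorem PQ.a_eq_one (h : PQ G p q a b)
    (hs : ∀ u : G, u ∉ center G → (∃ k, u ^ p ^ k = 1) → (ℭ[u]).index = q ^ b * p ^ a)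
    (hq : ∀ u : G, u ∉ center G → ∃ w ∈ ℭ[u], w ∉ center G ∧ ∃ k, w ^ q ^ k = 1)
    {x : G} (hx : x ∉ center G) : a = 1 := by
  haveI := Fact.mk h.hp
  obtain ⟨P⟩ : Nonempty (Sylow p G) := inferInstance
  have hPe : ∀ v ∈ (P : Subgroup G), ∃ k, v ^ p ^ k = 1 := Amb.isPGroup_iff.1 P.isPGroup'
  obtain ⟨w, hwP, hw, hwp, hwc⟩ := exists_central_mod P.isPGroup' fun hle =>
    not_dvd_index_of_sylow_le P (hle.trans (center_le_c1 x)) (h.dvd' hx)
  have hwk := hPe w hwP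
  have hle : ∀ v ∈ ℭ[w], (orderOf v).Coprime p → ℭ[w] ≤ ℭ[v] := fun v hv hc =>
    h.two.small (hs w hw hwk) hw (mem_c1.1 hv).symm (cop_of_pe' hwk hc)
  let A : Subgroup G :=
    { carrier := {a | a ∈ ℭ[w] ∧ (orderOf a).Coprime p}
      one_mem' := ⟨one_mem _, by simp⟩
      mul_mem' := fun {a b} ha hb => ⟨mul_mem ha.1 hb.1, cop_mul ha.2 hb.2
        (mem_c1.1 (hle b hb.1 hb.2 ha.1))⟩
      inv_mem' := fun {a} ha => ⟨inv_mem ha.1, by rw [orderOf_inv]; exact ha.2⟩ }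
  have hCA : ∀ c ∈ ℭ[w], ∀ a ∈ A, Commute c a := fun c hc a ha => mem_c1.1 (hle a ha.1 ha.2 hc)
  have hPN : (P : Subgroup G) ≤ 𝐍[ℭ[w]] := fun g hg => norm_c1_of_eq (by
    rw [← c1_center_mul (hwc g hg) w]; congr 2; group)
  have hN : (P : Subgroup G) ≤ 𝐍[A] := le_normalizer_iff_cj.2 fun g hg =>
    cj_le_iff_forall.2 fun a ha => ⟨conj_mem_of_mem_normalizer (hPN hg) ha.1, by
      rw [orderOf_conj']; exact ha.2⟩
  let φ := Solv.Frob.conjHom A _ hN
  have hker : φ.ker = (ℭ[w]).subgroupOf P := by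
    ext g
    rw [MonoidHom.mem_ker, mem_subgroupOf]
    constructor
    · intro e
      obtain ⟨v, hvw, hv, hvk⟩ := hq w hw
      have hvp := cop_of_pe h.hq h.hp h.ne.symm hvk
      have := Solv.Frob.conjHom_apply hN g ⟨v, hvw, hvp⟩
      rw [show Solv.Frob.conjHom A _ hN g = 1 from e] at this
      exact pe_mem h.hp le_rfl (mem_c1.2 (mul_inv_eq_iff_eq_mul.1 this.symm)) (hPN g.2) (hPe g g.2)
        (h.two.not_dvd_relIndex h.hp (not_dvd_pow_of_ne h.hp h.hq h.ne b) hw hv (hle v hvw hvp))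
    · intro hg
      ext a
      rw [Solv.Frob.conjHom_apply, (hCA g hg a a.2).eq]; simp
  letI : CommGroup A := { mul_comm := fun a b => Subtype.ext (hCA a a.2.1 b b.2).eq }
  have hF : FixZ φ.range.subtype ((center G).subgroupOf A) := by
    constructor
    · rintro ⟨_, g, rfl⟩ he a ha
      by_contra hz
      apply he
      have e2 := Solv.Frob.conjHom_apply hN g a
      rw [show Solv.Frob.conjHom A _ hN g a = a from ha] at e2
      have : g ∈ φ.ker := by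
        rw [hker, mem_subgroupOf]
        exact pe_mem h.hp le_rfl (mem_c1.2 (mul_inv_eq_iff_eq_mul.1 e2.symm)) (hPN g.2) (hPe g g.2)
          (h.two.not_dvd_relIndex h.hp (not_dvd_pow_of_ne h.hp h.hq h.ne b) hw hz
            (hle a a.2.1 a.2.2))
      exact Subtype.ext this
    · rintro ⟨_, g, rfl⟩ a ha
      apply Subtype.ext
      change ((φ g a : A) : G) = a
      rw [Solv.Frob.conjHom_apply, (comm_of_center (z := (a : G)) ha g).eq]; simp
  have hcard : Nat.card φ.range = (ℭ[w]).relIndex P := by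
    rw [← index_ker, hker]; rfl
  -- the image is elementary abelian
  have hconj : ∀ g ∈ (P : Subgroup G), ∃ z ∈ center G, z ^ p = 1 ∧ g * w * g⁻¹ = z * w := by
    intro g hg
    refine ⟨_, hwc g hg, ?_, by group⟩
    have e : g * w * g⁻¹ = (g * w * g⁻¹ * w⁻¹) * w := by group
    have := congrArg (· ^ p) e
    simp only [conj_pow, (comm_of_center (hwc g hg) w).symm.mul_pow,
      (comm_of_center hwp g).eq, mul_inv_cancel_right] at this
    simpa using this.symm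
  have hpow : ∀ e : φ.range, e ^ p = 1 := by
    rintro ⟨_, g, rfl⟩
    apply Subtype.ext
    change φ g ^ p = 1
    rw [← map_pow, ← MonoidHom.mem_ker, hker, mem_subgroupOf]
    obtain ⟨z, hz, hzp, e⟩ := hconj g g.2
    have key : ∀ n : ℕ, (g : G) ^ n * w * ((g : G) ^ n)⁻¹ = z ^ n * w := by
      intro n
      induction n with
      | zero => simp
      | succ n ih =>
        calc (g : G) ^ (n + 1) * w * ((g : G) ^ (n + 1))⁻¹
            = g * ((g : G) ^ n * w * ((g : G) ^ n)⁻¹) * (g : G)⁻¹ := by group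
          _ = (g * z ^ n) * w * (g : G)⁻¹ := by rw [ih]; group
          _ = z ^ n * (g * w * (g : G)⁻¹) := by
            rw [(comm_of_center (pow_mem hz n) (g : G)).eq]; group
          _ = z ^ (n + 1) * w := by rw [e, pow_succ z, mul_assoc (z ^ n)]
    have := key p
    rw [hzp, one_mul] at this
    exact mem_c1.2 (mul_inv_eq_iff_eq_mul.1 this)
  have hcomm : ∀ e f : φ.range, e * f = f * e := by
    rintro ⟨_, g, rfl⟩ ⟨_, g', rfl⟩
    apply Subtype.ext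
    change φ g * φ g' = φ g' * φ g
    rw [← map_mul, ← map_mul, ← inv_mul_eq_one, ← map_inv, ← map_mul, ← MonoidHom.mem_ker, hker,
      mem_subgroupOf]
    obtain ⟨z, hz, -, e⟩ := hconj g g.2
    obtain ⟨z', hz', -, e'⟩ := hconj g' g'.2
    have key : ∀ {g g' z z' : G}, z ∈ center G → z' ∈ center G → g * w * g⁻¹ = z * w →
        g' * w * g'⁻¹ = z' * w → g * g' * w * (g * g')⁻¹ = z' * z * w := by
      intro g g' z z' _ hz' e e'
      calc g * g' * w * (g * g')⁻¹ = g * (g' * w * g'⁻¹) * g⁻¹ := by group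
        _ = (g * z') * w * g⁻¹ := by rw [e']; group
        _ = z' * (g * w * g⁻¹) := by rw [(comm_of_center hz' g).eq]; group
        _ = _ := by rw [e, mul_assoc]
    have e1 := key hz hz' e e'
    have e2 := key hz' hz e' e
    rw [(comm_of_center hz' z).eq, ← e1] at e2
    refine mem_c1.2 ?_
    change ((g : G) * g')⁻¹ * (g' * g) * w = w * (((g : G) * g')⁻¹ * (g' * g))
    calc ((g : G) * g')⁻¹ * (g' * g) * w
        = ((g : G) * g')⁻¹ * (g' * g * w * ((g' : G) * g)⁻¹) * (g' * g) := by group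
      _ = _ := by rw [e2]; group
  have hd : p ^ a ∣ Nat.card φ.range := by
    have h1 := relIndex_mul_index (inf_le_right : ℭ[w] ⊓ (P : Subgroup G) ≤ _)
    rw [inf_relIndex_right] at h1
    have h2 := (h.dvd hw).trans (index_dvd_of_le (inf_le_left : ℭ[w] ⊓ (P : Subgroup G) ≤ _))
    rw [← h1] at h2
    rw [hcard]
    exact (((Nat.Prime.coprime_iff_not_dvd h.hp).2 P.not_dvd_index).pow_left _).dvd_of_dvd_mul_right h2
  by_contra ha1
  obtain ⟨e, he⟩ := exists_prime_orderOf_dvd_card' p ((dvd_pow_self p h.ha).trans hd)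
  have he1 : zpowers e ≠ ⊥ := by
    rw [Ne, zpowers_eq_bot]
    rintro rfl
    rw [orderOf_one] at he; exact h.hp.ne_one he.symm
  have hne : zpowers e ≠ ⊤ := fun e' => by
    have h1 := congrArg (fun H : Subgroup φ.range => Nat.card H) e'
    simp only [Nat.card_zpowers, he, card_top] at h1
    rw [← h1] at hd
    have h2 := (Nat.pow_dvd_pow_iff_le_right h.hp.one_lt (k := a) (l := 1)).1 (by rwa [pow_one])
    have := h.ha
    omega
  obtain ⟨f, -, hf⟩ := SetLike.exists_of_lt hne.lt_top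
  obtain ⟨v, hvw, hv, hvk⟩ := hq w hw
  have hvp := cop_of_pe h.hq h.hp h.ne.symm hvk
  have := hF.pow_card_mem he1 hf
    (centralizer_le_normalizer _ (mem_centralizer_iff.2 fun y _ => hcomm y f)) h.hp
    (fun m _ => hpow _) ⟨v, hvw, hvp⟩
  rw [Nat.card_zpowers, he] at this
  exact hv (FGS.mem_of_pow_mem_of_coprime hvp this)

theorem PQ.caseII (h : PQ G p q a b)
    (hs : ∀ u : G, u ∉ center G → (∃ k, u ^ p ^ k = 1) → (ℭ[u]).index = q ^ b * p ^ a)
    {x y₀ : G} (hx : (ℭ[x]).index = q ^ b * p ^ a) (hy₀ : (ℭ[y₀]).index = p ^ a)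
    (hy₀' : y₀ ∉ center G) (hk₀ : ∃ k, y₀ ^ q ^ k = 1) (hle₀ : ℭ[x] ≤ ℭ[y₀]) : False := by
  haveI := Fact.mk h.hp
  haveI := Fact.mk h.hq
  have hpq := not_dvd_pow_of_ne h.hp h.hq h.ne
  have hqp := not_dvd_pow_of_ne h.hq h.hp h.ne.symm
  have hq : ∀ u : G, u ∉ center G → ∃ w ∈ ℭ[u], w ∉ center G ∧ ∃ k, w ^ q ^ k = 1 := fun u hu =>
    h.two.exists_pe_small hx h.hq (mem_c1.2 (mem_c1.1 (hle₀ (self_mem_c1 x))).symm) hy₀' hk₀ hu
  obtain rfl := h.a_eq_one hs hq hy₀'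
  rw [pow_one] at hy₀
  obtain ⟨u₀, hu₀, hu₀k⟩ := exists_pe_of_dvd_index h.hp (h.dvd' hy₀')
  have hp : ∀ u : G, u ∉ center G → ∃ w ∈ ℭ[u], w ∉ center G ∧ ∃ k, w ^ p ^ k = 1 := fun u hu =>
    h.two.exists_pe_small (hs u₀ hu₀ hu₀k) h.hp (self_mem_c1 u₀) hu₀ hu₀k hu
  have qp : ∀ {v : G}, (∃ k, v ^ q ^ k = 1) → (orderOf v).Coprime p :=
    cop_of_pe h.hq h.hp h.ne.symm
  have nc : ∀ {u : G}, (ℭ[u]).index = p → u ∉ center G := fun hu hz =>
    h.hp.ne_one (hu.symm.trans (index_c1_eq_one.2 hz))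
  have hle : ∀ u, u ∉ center G → (∃ k, u ^ p ^ k = 1) → ∀ v ∈ ℭ[u], (orderOf v).Coprime p →
      ℭ[u] ≤ ℭ[v] := fun u hu hk v hv hc =>
    h.two.small (hs u hu hk) hu (mem_c1.1 hv).symm (cop_of_pe' hk hc)
  -- every noncentral `p`-element centralizes a large `q`-element
  have h1 : ∀ u, u ∉ center G → (∃ k, u ^ p ^ k = 1) →
      ∃ y ∈ ℭ[u], (ℭ[y]).index = p ∧ ∃ k, y ^ q ^ k = 1 := by
    intro u hu hk
    obtain ⟨v, hvu, hv, hvk⟩ := hq u hu
    rcases h.two.sz v hv with e | e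
    · exact ⟨v, hvu, by rw [e, pow_one], hvk⟩
    · obtain ⟨Q, hQ⟩ := exists_sylow_le_c1 (r := q) (H := ℭ[y₀]) (by
        rw [hy₀]; simpa using hqp 1)
      obtain ⟨R, hR⟩ := FGS.exists_sylow_mem hvk
      obtain ⟨g, rfl⟩ := MulAction.exists_smul_eq G Q R
      rw [coe_smul_sylow] at hR
      have h2 := cj_mono g hQ hR
      rw [← centralizer_singleton_conj] at h2
      refine ⟨g * y₀ * g⁻¹, ?_, by rw [FGS.index_centralizer_conj, hy₀], pe_conj hk₀ g⟩
      rw [eq_of_le_of_index (hle u hu hk v hvu (qp hvk)) ((hs u hu hk).trans e.symm)]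
      exact mem_c1.2 (mem_c1.1 h2).symm
  have h2 : ∀ u, u ∉ center G → (∃ k, u ^ p ^ k = 1) → ∀ y ∈ ℭ[u], (ℭ[y]).index = p →
      (∃ k, y ^ q ^ k = 1) → ℭ[u] ≤ 𝐂[normalClosure {y}] := by
    intro u hu hk y hy hyi hyk
    obtain ⟨T, hT, huT⟩ := exists_isSyl_ge (Amb.isPGroup_zpowers hk) (zpowers_le.2 (self_mem_c1 u))
    obtain ⟨P, hP, hTP⟩ := exists_isSyl_ge hT.pgrp (le_top : T ≤ ⊤)
    have hTi : ¬ p ^ 2 ∣ T.index := fun hd => by
      rw [← relIndex_mul_index hT.le] at hd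
      exact h.not_dvd u ((((Nat.Prime.coprime_iff_not_dvd h.hp).2
        hT.not_dvd_relIndex).pow_left _).dvd_of_dvd_mul_left hd)
    have hlt : T < P := hTP.lt_of_ne fun e => by
      have := hP.not_dvd_relIndex
      rw [relIndex_top_right, ← e] at this
      exact this ((h.dvd' hu).trans (index_dvd_of_le hT.le))
    obtain ⟨g, hg, hg'⟩ := SetLike.exists_of_lt (Amb.lt_inf_normalizer hP.pgrp hlt)
    have hNi : ¬ p ∣ (𝐍[T]).index := fun hd => hTi (by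
      rw [← relIndex_mul_index (le_normalizer : T ≤ _), sq]
      exact Nat.mul_dvd_mul (dvd_relIndex_of_pe le_rfl h.hp (mem_inf.1 hg).2 hg'
        (Amb.isPGroup_iff.1 hP.pgrp g (mem_inf.1 hg).1)) hd)
    rw [le_centralizer_iff, normalClosure, closure_le]
    rintro _ hz
    obtain ⟨y', hy', hc⟩ := Group.mem_conjugatesOfSet_iff.1 hz
    rw [show y' = y from hy'] at hc
    obtain ⟨c, rfl⟩ := isConj_iff.1 hc
    obtain ⟨n, hn, c', hc', rfl⟩ := Grp.exists_mul_of_coprime_index (H := 𝐍[T]) (K := ℭ[y])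
      (by rw [hyi]; exact ((Nat.Prime.coprime_iff_not_dvd h.hp).2 hNi).symm) c
    have e : n * c' * y * (n * c')⁻¹ = n * y * n⁻¹ := by
      rw [mul_assoc n, (mem_c1.1 hc').eq]; group
    rw [e]
    refine mem_cc_iff.2 (hle u hu hk _ ?_ (qp (pe_conj hyk n)))
    have h3 : n⁻¹ * u * n ∈ ℭ[y] := hle u hu hk y hy (qp hyk)
      (hT.le (inv_conj_mem_of_mem_normalizer hn (huT (mem_zpowers u))))
    have h4 := (mem_c1.1 h3).map (MulAut.conj n).toMonoidHom
    refine mem_c1.2 ?_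
    simpa [mul_assoc] using h4.symm
  have hyY : ∀ y : G, y ∈ normalClosure ({y} : Set G) := fun y => subset_normalClosure rfl
  have hNv : ∀ (y : G), ∀ v ∈ normalClosure ({y} : Set G), 𝐂[normalClosure ({y} : Set G)] ≤ ℭ[v] :=
    fun y v hv g hg => mem_c1.2 (mem_centralizer_iff.1 hg v hv).symm
  have h3 : ∀ y : G, (ℭ[y]).index = p → (∃ k, y ^ q ^ k = 1) → ∀ v ∈ normalClosure ({y} : Set G),
      v ∉ center G → ∀ g ∈ ℭ[v], (∃ k, g ^ p ^ k = 1) → g ∈ 𝐂[normalClosure ({y} : Set G)] := by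
    intro y hy hyk v hv hv' g hg hgk
    obtain ⟨u, huy, hu, huk⟩ := hp y (nc hy)
    have h4 := h2 u hu huk y (mem_c1.2 (mem_c1.1 huy).symm) hy hyk
    exact pe_mem h.hp h4 hg (mem_norm_of_normal _ g) hgk
      (h.two.not_dvd_relIndex h.hp (hpq b) hu hv' (h4.trans (hNv y v hv)))
  obtain ⟨g, -, hg, hgk⟩ := exists_pe_of_dvd (L := 𝐂[normalClosure ({y₀} : Set G)]) (N := ⊤)
    (fun g _ => mem_norm_of_normal _ g) h.hp (by
      rw [relIndex_top_right]
      exact hy₀.symm.dvd.trans (index_dvd_of_le (hNv y₀ y₀ (hyY y₀))))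
  have hg' : g ∉ center G := fun hz => hg (center_le_centralizer _ hz)
  obtain ⟨y₁, hy₁g, hy₁, hk₁⟩ := h1 g hg' hgk
  have hgN := h2 g hg' hgk y₁ hy₁g hy₁ hk₁ (self_mem_c1 g)
  have hYY : ∀ v ∈ normalClosure ({y₀} : Set G), v ∈ normalClosure ({y₁} : Set G) → v ∈ center G :=
    fun v hv hv' => by
      by_contra hz
      exact hg (h3 y₀ hy₀ hk₀ v hv hz g (hNv y₁ v hv' hgN) hgk)
  have ht : y₀ * y₁ ∉ center G := fun hz => hy₀' (hYY y₀ (hyY y₀) (by
    by_contra _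
    refine hg (h3 y₀ hy₀ hk₀ y₀ (hyY y₀) hy₀' g ?_ hgk)
    have e : y₀ = (y₀ * y₁) * y₁⁻¹ := by group
    rw [e, c1_center_mul hz]
    exact mem_c1.2 (mem_c1.1 hy₁g).symm.inv_right))
  obtain ⟨c, hct, hc, hck⟩ := hp _ ht
  have hz : c * y₀ * c⁻¹ * y₀⁻¹ ∈ center G := by
    have e : y₀⁻¹ * (c * y₀ * c⁻¹) = y₁ * (c * y₁ * c⁻¹)⁻¹ := by
      calc y₀⁻¹ * (c * y₀ * c⁻¹) = y₀⁻¹ * (c * (y₀ * y₁) * c⁻¹) * (c * y₁ * c⁻¹)⁻¹ := by group
        _ = _ := by rw [(mem_c1.1 hct).eq]; group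
    have h4 := hYY _ (mul_mem (inv_mem (hyY y₀)) (normalClosure_normal.conj_mem _ (hyY y₀) c))
      (e ▸ mul_mem (hyY y₁) (inv_mem (normalClosure_normal.conj_mem _ (hyY y₁) c)))
    have := (inferInstance : (center G).Normal).conj_mem _ h4 y₀
    simpa [mul_assoc] using this
  have hc₀ := comm_of_conj_center hz (cop_of_pe' hck (qp hk₀))
  have hc₁ : Commute c y₁ := by
    have := hc₀.inv_right.mul_right (mem_c1.1 hct)
    rwa [inv_mul_cancel_left] at this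
  have h5 := h2 c hc hck y₀ (mem_c1.2 hc₀.symm) hy₀ hk₀
  have h6 := h2 c hc hck y₁ (mem_c1.2 hc₁.symm) hy₁ hk₁
  exact hg (pe_mem h.hp h5 (hNv y₁ y₁ (hyY y₁) hgN) (mem_norm_of_normal _ g) hgk
    (h.two.not_dvd_relIndex h.hp (hpq b) hc (nc hy₁) (h6.trans (hNv y₁ y₁ (hyY y₁)))))

theorem TwoSz.fGrp {m n : ℕ} (h : TwoSz G m n) (hm : 1 < m) (hcop : m.Coprime n) : FGrp G := by
  intro x y hx' hy' hle
  by_contra hn
  have hne : (ℭ[x]).index ≠ (ℭ[y]).index := fun e => hn (eq_of_le_of_index hle e).ge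
  have hy : (ℭ[y]).index = m := (h.sz y hy').resolve_right fun e => by
    rcases h.sz x hx' with e' | e'
    · exact h.not_dvd (e ▸ e' ▸ index_dvd_of_le hle)
    · exact hne (e'.trans e.symm)
  have hx : (ℭ[x]).index = n * m := (h.sz x hx').resolve_left fun e => hne (e.trans hy.symm)
  by_cases h3 : ThreeP G
  · obtain ⟨q, b, hq, rfl⟩ := h.exists_pow h3 hx hy hy' hle
    haveI := Fact.mk hq
    obtain ⟨r, hr, hrq, -, u, hu, huk⟩ := h3 q q
    obtain ⟨k, hk⟩ := (h.core hq h3).index_eq_pow u (cop_of_pe hr hq hrq huk)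
    have h1 : m ∣ q ^ k := by
      rcases h.sz u hu with e | e
      · exact e ▸ hk.dvd
      · exact (Dvd.intro_left _ e.symm).trans hk.dvd
    have hb : b ≠ 0 := by rintro rfl; exact absurd h.one_lt (by simp)
    exact hm.ne' (Nat.eq_one_of_dvd_coprimes
      (((Nat.coprime_pow_right_iff (Nat.pos_of_ne_zero hb) _ _).1 hcop).pow_right k) dvd_rfl h1)
  unfold ThreeP at h3
  push Not at h3
  obtain ⟨q₁, q₂, h3⟩ := h3
  have h4 : ∀ r : ℕ, r.Prime → r ∣ n * m → r = q₁ ∨ r = q₂ := fun r hr hd => by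
    obtain ⟨u, hu, k, hk⟩ := exists_pe_of_dvd_index hr (hx ▸ hd)
    by_contra hn
    push Not at hn
    exact h3 r hr hn.1 hn.2 u hu k hk
  obtain ⟨p, hp, hpm⟩ := Nat.exists_prime_and_dvd hm.ne'
  obtain ⟨q, hq, hqn⟩ := Nat.exists_prime_and_dvd h.one_lt.ne'
  have hne' : ∀ {r s : ℕ}, r.Prime → r ∣ m → s ∣ n → r ≠ s := fun hr h1 h2 e =>
    hr.ne_one (Nat.eq_one_of_dvd_coprimes hcop h1 (e ▸ h2))
  have h5 : ∀ r : ℕ, (r = q₁ ∨ r = q₂) → r = p ∨ r = q := fun r hr => by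
    have := h4 p hp (hpm.mul_left _)
    have := h4 q hq (hqn.mul_right _)
    have := hne' hp hpm hqn
    omega
  have hm' := Nat.eq_prime_pow_of_unique_prime_dvd (p := p) h.pos.ne' fun {r} hr hd =>
    (h5 r (h4 r hr (hd.mul_left _))).resolve_right (hne' hr hd hqn)
  have hn' := Nat.eq_prime_pow_of_unique_prime_dvd (n := n) (p := q) (by have := h.one_lt; omega)
    fun {r} hr hd => (h5 r (h4 r hr (hd.mul_right _))).resolve_left (hne' hp hpm hd).symm
  generalize m.primeFactorsList.length = a at hm'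
  generalize n.primeFactorsList.length = b at hn'
  subst hm' hn'
  have hPQ : PQ G p q a b := ⟨hp, hq, hne' hp hpm hqn, h, by rintro rfl; simp at hm,
    fun r hr h1 h2 y ⟨k, hk⟩ => by
      by_contra hz
      refine h3 r hr (fun e => ?_) (fun e => ?_) y hz k hk
      · exact (h5 r (Or.inl e)).elim h1 h2
      · exact (h5 r (Or.inr e)).elim h1 h2⟩
  obtain ⟨r, hr, y₁, hyy, hy₁, hk⟩ := exists_primary hy'
  have e₁ := h.large hy hy₁ (c1_le_of_mem_zpowers hyy)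
  rw [e₁] at hy hle
  have hyk : (∃ k, y₁ ^ p ^ k = 1) ∨ ∃ k, y₁ ^ q ^ k = 1 := by
    by_cases e : r = p
    · exact Or.inl (e ▸ hk)
    · by_cases e' : r = q
      · exact Or.inr (e' ▸ hk)
      · exact absurd (hPQ.cen r hr e e' y₁ hk) hy₁
  by_cases hI : ∃ y₀ : G, (ℭ[y₀]).index = p ^ a ∧ ∃ k, y₀ ^ p ^ k = 1
  · obtain ⟨y₀, h1, h2⟩ := hI
    exact hPQ.caseI h1 h2 hx hy hyk hle
  · exact hPQ.caseII (fun u hu huk => (h.sz u hu).resolve_left fun e => hI ⟨u, e, huk⟩) hx hy hy₁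
      (hyk.resolve_left fun hk => hI ⟨y₁, hy, hk⟩) hle

end Cfsg.Agent.Part.Ito
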