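import Mathlib
import Cfsg.Agent.Part.ItoCop
import Cfsg.Agent.FGS.SqfreeClass

/-! The structure of groups with class sizes `1, m, m n` (`m`, `n` coprime). -/

set_option autoImplicit false
set_option linter.unusedSectionVars false

namespace Cfsg.Agent.Part.Ito

open Subgroup Cfsg Cfsg.Agent.PLocal Cfsg.Agent.PLocal.Amb

variable {G : Type*} [Group G] [Finite G]

theorem hughes_normal (p : ℕ) : (closure {g : G | g ^ p ≠ 1}).Normal := by
  refine ⟨fun n hn g => ?_⟩
  have : cj(g, closure {g : G | g ^ p ≠ 1}) ≤ closure {g : G | g ^ p ≠ 1} := by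
    rw [cj_le_iff, closure_le]
    intro x hx
    refine mem_cj.2 (subset_closure ?_)
    intro e
    apply hx
    rw [inv_inv, conj_pow] at e
    simpa using e
  exact this (conj_mem_cj g hn)

theorem np_solvable_cases [Nontrivial G] {K : G → Subgroup G} (h : NP K)
    (hs : Group.IsSolvable G) : Nonempty (G ≃* Equiv.Perm (Fin 4)) ∨
      (∃ p : ℕ, p.Prime ∧ closure {g : G | g ^ p ≠ 1} ≠ ⊤) ∨
      ∃ H : Subgroup G, IsFrobeniusComplement H := by
  by_cases hH : NoHughes G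
  · by_cases hF : NoFrob G
    · exact Or.inl (h.sym4 hH hF (Grp.fitting_ne_bot G))
    · unfold NoFrob at hF
      push Not at hF
      exact Or.inr (Or.inr hF)
  · unfold NoHughes at hH
    push Not at hH
    exact Or.inr (Or.inl hH)

set_option maxRecDepth 100000 in
theorem perm4_cent : ∃ a b : Equiv.Perm (Fin 4), a ≠ 1 ∧ b ≠ 1 ∧ (∀ c, c * a = a * c → c ^ 3 = 1) ∧
    ∀ c, c * b = b * c → c ^ 4 = 1 :=
  ⟨Equiv.swap 0 1 * Equiv.swap 1 2, Equiv.swap 0 1 * Equiv.swap 1 2 * Equiv.swap 2 3,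
    by decide, by decide, by decide, by decide⟩

/-- a prime dividing the order of every `C(u) / Z(G)` -/
def ComP (G : Type*) [Group G] : Prop :=
  ∃ r : ℕ, r.Prime ∧ ∀ u : G, u ∉ center G → ∃ w ∈ ℭ[u], w ∉ center G ∧ ∃ k, w ^ r ^ k = 1

theorem ComP.quot (h : ComP G) : ∃ r : ℕ, r.Prime ∧ ∀ u : G ⧸ center G, u ≠ 1 →
    ∃ w ∈ ℭ[u], r ∣ orderOf w ∧ ∃ k, w ^ r ^ k = 1 := by
  obtain ⟨r, hr, h⟩ := h
  refine ⟨r, hr, fun u hu => ?_⟩
  obtain ⟨u, rfl⟩ := QuotientGroup.mk_surjective u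
  obtain ⟨w, hwu, hw, hk⟩ := h u fun hz => hu ((QuotientGroup.eq_one_iff u).2 hz)
  have hk' := pe_map (QuotientGroup.mk' (center G)) hk
  refine ⟨w, mem_c1.2 ((mem_c1.1 hwu).map (QuotientGroup.mk' _)), ?_, hk'⟩
  obtain ⟨k, hk'⟩ := hk'
  obtain ⟨j, -, hj⟩ := (Nat.dvd_prime_pow hr).1 (orderOf_dvd_of_pow_eq_one hk')
  rcases j with _ | j
  · exact absurd ((QuotientGroup.eq_one_iff w).1 (orderOf_eq_one_iff.1 hj)) hw
  · exact (dvd_pow_self r j.succ_ne_zero).trans hj.symm.dvd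

theorem ComP.exists_hughes (h : ComP G) (hF : FGrp G) (hs : Group.IsSolvable G)
    (hn : ∃ x : G, x ∉ center G) :
    ∃ p : ℕ, p.Prime ∧ closure {g : G ⧸ center G | g ^ p ≠ 1} ≠ ⊤ := by
  obtain ⟨x, hx⟩ := hn
  haveI : Nontrivial (G ⧸ center G) := ⟨⟨x, 1, fun e => hx ((QuotientGroup.eq_one_iff x).1 e)⟩⟩
  obtain ⟨K, hK, -, -⟩ := hF.np
  obtain ⟨r, hr, h⟩ := h.quot
  rcases np_solvable_cases hK inferInstance with ⟨⟨e⟩⟩ | h1 | ⟨H, hH⟩
  · exfalso
    obtain ⟨a, b, ha, hb, h3, h4⟩ := perm4_cent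
    obtain ⟨w, hw, hd, -⟩ := h (e.symm a) (by simpa using ha)
    obtain ⟨w', hw', hd', -⟩ := h (e.symm b) (by simpa using hb)
    have e1 := h3 (e w) (by simpa using ((mem_c1.1 hw).map e).eq)
    have e2 := h4 (e w') (by simpa using ((mem_c1.1 hw').map e).eq)
    rw [← orderOf_dvd_iff_pow_eq_one, MulEquiv.orderOf_eq] at e1 e2
    exact hr.ne_one (Nat.eq_one_of_dvd_coprimes (by norm_num : Nat.Coprime 3 4) (hd.trans e1)
      (hd'.trans e2))
  · exact h1
  · exfalso
    have hc := Solv.Frob.isComplement'_fitting hH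
    haveI := Grp.fitting_normal (G ⧸ center G)
    obtain ⟨⟨a, haH⟩, ha⟩ := ne_bot_iff_exists_ne_one.1 (Solv.Frob.isFrobeniusComplement_iff.1 hH).1
    obtain ⟨⟨b, hbF⟩, hb⟩ := ne_bot_iff_exists_ne_one.1 (Grp.fitting_ne_bot (G ⧸ center G))
    have ha1 : a ≠ 1 := fun e => ha (Subtype.ext e)
    have hb1 : b ≠ 1 := fun e => hb (Subtype.ext e)
    obtain ⟨w, hw, hd, -⟩ := h a ha1
    obtain ⟨w', hw', hd', -⟩ := h b hb1
    refine hr.ne_one (Nat.eq_one_of_dvd_coprimes (Solv.Frob.coprime_card_index hH)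
      (hd.trans (Subgroup.orderOf_dvd_natCard _ (Solv.Frob.centralizer_le hH haH ha1 hw))) ?_)
    rw [hc.index_eq_card]
    exact hd'.trans (Subgroup.orderOf_dvd_natCard _
      (Solv.Frob.centralizer_le_kernel hH hc hbF hb1 hw'))

theorem index_eq_pow_of_reg {p : ℕ} (hp : p.Prime) {H : Subgroup G}
    (h : ∀ u : G, (orderOf u).Coprime p → u ∈ H) : ∃ k, H.index = p ^ k := by
  refine ⟨_, Nat.eq_prime_pow_of_unique_prime_dvd H.index_ne_zero_of_finite fun {t} ht hd => ?_⟩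
  by_contra htp
  haveI := Fact.mk ht
  obtain ⟨T⟩ : Nonempty (Sylow t G) := inferInstance
  exact not_dvd_index_of_sylow_le T (fun v hv => h v
    (cop_of_pe ht hp htp (Amb.isPGroup_iff.1 T.isPGroup' v hv))) hd

theorem eq_of_mul_pow {p a b i j : ℕ} (hp : p.Prime) (ha : ¬ p ∣ a) (hb : ¬ p ∣ b)
    (h : a * p ^ i = b * p ^ j) : a = b := by
  have h1 : a.Coprime (p ^ j) := ((Nat.Prime.coprime_iff_not_dvd hp).2 ha).symm.pow_right _
  have h2 : b.Coprime (p ^ i) := ((Nat.Prime.coprime_iff_not_dvd hp).2 hb).symm.pow_right _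
  exact Nat.dvd_antisymm (h1.dvd_of_dvd_mul_right (h ▸ Dvd.intro _ rfl))
    (h2.dvd_of_dvd_mul_right (h ▸ Dvd.intro _ rfl))

theorem TwoSz.structure {m n : ℕ} (h : TwoSz G m n) (hm : 1 < m) (hcop : m.Coprime n) {x₀ : G}
    (hx₀ : (ℭ[x₀]).index = n * m) : m.Prime ∧ m ∣ n - 1 ∧
      (∃ M : Subgroup G, M.Normal ∧ (M : Set G) = {x : G | (ℭ[x]).index = 1 ∨ (ℭ[x]).index = m} ∧
        M.index = m ∧ IsMulCommutative M) ∧
      (∃ N : Subgroup G, N.Normal ∧ (Nat.card N).Coprime m ∧ ∃ a : ℕ, N.index = m ^ a) ∧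
      ∀ P : Sylow m G, Nat.card (commutator (P : Subgroup G)) = m := by
  have hn := h.one_lt
  have hnm : 1 < n * m := by nlinarith
  have hx₀' : x₀ ∉ center G := fun hz => hnm.ne' (hx₀.symm.trans (index_c1_eq_one.2 hz))
  have hmd : ∀ u, u ∉ center G → m ∣ (ℭ[u]).index := fun u hu => by
    rcases h.sz u hu with e | e
    · exact e.symm.dvd
    · exact e ▸ Dvd.intro_left _ rfl
  have hC : ComP G := by
    obtain ⟨r, hr, y, hyx, hy, hk⟩ := exists_primary hx₀'
    exact ⟨r, hr, fun u hu => h.exists_pe_small hx₀ hr (zpowers_le.2 (self_mem_c1 x₀) hyx) hy hk hu⟩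
  obtain ⟨p, hp, hH⟩ := hC.exists_hughes (h.fGrp hm hcop) (solvable_of_two_sizes h.sz) ⟨x₀, hx₀'⟩
  haveI := Fact.mk hp
  let π := QuotientGroup.mk' (center G)
  have hπ : ∀ x, π x = 1 ↔ x ∈ center G := fun x => QuotientGroup.eq_one_iff x
  obtain ⟨u₀, hu₀, hu₀p⟩ : ∃ u : G, u ∉ center G ∧ (orderOf u).Coprime p := by
    obtain ⟨r, hr, hrm⟩ := Nat.exists_prime_and_dvd hm.ne'
    obtain ⟨s, hs, hsn⟩ := Nat.exists_prime_and_dvd hn.ne'
    by_cases e : r = p
    · obtain ⟨u, hu, hk⟩ := exists_pe_of_dvd_index hs (hx₀ ▸ hsn.mul_right m)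
      exact ⟨u, hu, cop_of_pe hs hp (fun e' => hr.ne_one
        (Nat.eq_one_of_dvd_coprimes hcop hrm (e ▸ e' ▸ hsn))) hk⟩
    · obtain ⟨u, hu, hk⟩ := exists_pe_of_dvd_index hr (hx₀ ▸ hrm.mul_left n)
      exact ⟨u, hu, cop_of_pe hr hp e hk⟩
  obtain ⟨hnil, hidx⟩ := S4249.result p hp (fun hP => hu₀ ((hπ u₀).1
    (Transfer.eq_one_of_isPGroup_of_coprime hP (Transfer.coprime_orderOf_map π hu₀p)))) hH
  haveI := hughes_normal (G := G ⧸ center G) p
  set H := (closure {g : G ⧸ center G | g ^ p ≠ 1}).comap π with hHd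
  haveI hHn : H.Normal := inferInstance
  have hHi : H.index = p := by
    rw [hHd, index_comap_of_surjective _ (QuotientGroup.mk'_surjective _), hidx]
  have ha : ∀ x, x ∉ H → x ^ p ∈ center G := fun x hx => by
    by_contra hn
    exact hx (subset_closure fun e => hn ((hπ _).1 (by rw [map_pow]; exact e)))
  have hZ : center G ≤ H := fun z hz => by
    rw [hHd, mem_comap, (hπ z).2 hz]; exact one_mem _
  have hb : ∀ a ∈ H, ∀ b ∈ H, (orderOf a).Coprime (orderOf b) → Commute a b := by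
    intro a ha b hb hc
    refine comm_of_conj_center ((hπ _).1 ?_) hc
    have := Solv.NA.commute_of_mem hnil ha hb (Nat.Coprime.coprime_dvd_left (orderOf_map_dvd π a)
      (Nat.Coprime.coprime_dvd_right (orderOf_map_dvd π b) hc))
    simp only [map_mul, map_inv]
    rw [this.eq]; group
  have hc : ∀ u : G, (orderOf u).Coprime p → u ∈ H := fun u hu => by
    by_contra hn
    exact hn (hZ (FGS.mem_of_pow_mem_of_coprime hu (ha u hn)))
  have hd : ∀ u : G, (orderOf u).Coprime p → u ∉ center G → ℭ[u] ≤ H := fun u hu hu' c hcu => by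
    by_contra hn
    have h1 := ha (c * u) fun h1 => hn ((mul_mem_cancel_right (hc u hu)).1 h1)
    rw [(mem_c1.1 hcu).mul_pow] at h1
    exact hu' (FGS.mem_of_pow_mem_of_coprime hu ((mul_mem_cancel_left (ha c hn)).1 h1))
  have he : ∀ x, x ∉ H → ∀ c ∈ ℭ[x], (orderOf c).Coprime p → c ∈ center G := fun x hx c hcx hcp => by
    by_contra hz
    exact hx (hd c hcp hz (mem_c1.2 (mem_c1.1 hcx).symm))
  have he' : ∀ x, x ∉ H → ∀ u : G, (orderOf u).Coprime p → u ∉ center G →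
      ¬ (ℭ[x]).index ∣ (ℭ[u]).index := fun x hx u hu hu' =>
    index_ne_of_pcent hp (fun c hcx => by
      obtain ⟨k, hk⟩ := Transfer.exists_pow_coprime_orderOf (p := p) c
      exact ⟨k, he x hx _ (pow_mem hcx _) hk⟩) hu hu'
  have hsm : ∀ x, x ∉ H → (ℭ[x]).index = n * m := fun x hx =>
    (h.sz x fun hz => hx (hZ hz)).resolve_left fun e => he' x hx u₀ hu₀p hu₀ (e ▸ hmd u₀ hu₀)
  obtain ⟨x, -, hx, hxk⟩ := exists_pe_of_dvd (L := H) (N := ⊤) (fun g _ => mem_norm_of_normal _ g)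
    hp (by rw [relIndex_top_right, hHi])
  have hx' : x ∉ center G := fun hz => hx (hZ hz)
  have hlg : ∀ u : G, (orderOf u).Coprime p → u ∉ center G → (ℭ[u]).index = m := fun u hu hu' =>
    (h.sz u hu').resolve_right fun e => he' x hx u hu hu' ((hsm x hx).trans e.symm).dvd
  have hpm : p ∣ m := hlg u₀ hu₀p hu₀ ▸ hHi ▸ index_dvd_of_le (hd u₀ hu₀p hu₀)
  have hpn : ¬ p ∣ n := fun hd => hp.ne_one (Nat.eq_one_of_dvd_coprimes hcop hpm hd)
  have hpow : ∀ w : G, w ∉ center G → (∀ u : G, (orderOf u).Coprime p → u ∈ ℭ[w]) →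
      ∃ k, (ℭ[w]).index = m ∧ m = p ^ k := fun w hw hu => by
    obtain ⟨k, hk⟩ := index_eq_pow_of_reg hp hu
    have e := (h.sz w hw).resolve_right fun e => hn.ne' (Nat.eq_one_of_dvd_coprimes
      (((Nat.Prime.coprime_iff_not_dvd hp).2 hpn).symm.pow_right k) dvd_rfl
      ((Dvd.intro _ e.symm).trans hk.dvd))
    exact ⟨k, e, e.symm.trans hk⟩
  obtain rfl : m = p := by
    obtain ⟨v, hvH, hv, hvk⟩ := exists_pe_of_dvd (le_norm_center H) hp (by
      have h1 := dvd_relIndex_of_pe (le_norm_center _) hp (self_mem_c1 x) hx' hxk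
      have h2 := Nat.mul_dvd_mul h1 (hpm.trans (hmd x hx'))
      rw [relIndex_mul_index (center_le_c1 x), ← relIndex_mul_index hZ, hHi] at h2
      exact Nat.dvd_of_mul_dvd_mul_right hp.pos h2)
    obtain ⟨k, -, hk⟩ := hpow v hv fun u hu =>
      mem_c1.2 (hb v hvH u (hc u hu) (cop_of_pe' hvk hu)).symm
    have h1 := relIndex_mul_index (hd u₀ hu₀p hu₀)
    rw [hHi, hlg u₀ hu₀p hu₀] at h1
    have h2 : (ℭ[u₀]).relIndex H = 1 := by
      by_contra hne
      obtain ⟨r, hr, hrd⟩ := Nat.exists_prime_and_dvd hne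
      have hrp : r = p := (Nat.prime_dvd_prime_iff_eq hr hp).1
        (hr.dvd_of_dvd_pow (hk ▸ h1 ▸ hrd.mul_right p))
      subst hrp
      obtain ⟨T⟩ : Nonempty (Sylow r H) := inferInstance
      refine not_dvd_index_of_sylow_le T (H := (ℭ[u₀]).subgroupOf H) (fun t ht => ?_) hrd
      exact mem_c1.2 (hb t t.2 u₀ (hc u₀ hu₀p) (cop_of_pe'
        (pe_map H.subtype (Amb.isPGroup_iff.1 T.isPGroup' t ht)) hu₀p))
    rw [← h1, h2, one_mul]
  have hj : ∀ u : G, (orderOf u).Coprime m → H ≤ ℭ[u] := fun u hu => by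
    by_cases hz : u ∈ center G
    · exact le_top.trans (c1_eq_top_iff.2 hz).ge
    · exact (eq_of_le_of_index (hd u hu hz) ((hlg u hu hz).trans hHi.symm)).ge
  have hab : ∀ a ∈ H, H ≤ ℭ[a] := fun a ha c hcH => by
    refine mem_c1.2 (mem_c1.1 (FGS.mem_of_forall_primePow_part fun r hr v hv hk => ?_)).symm
    refine mem_c1.2 (mem_c1.1 ((?_ : H ≤ ℭ[v]) hcH)).symm
    by_cases e : r = m
    · subst e
      have hvH : v ∈ H := zpowers_le.2 ha hv
      have hcm := (hb v hvH u₀ (hc u₀ hu₀p) (cop_of_pe' hk hu₀p)).symm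
      have hco := (cop_of_pe' hk hu₀p).symm
      have e := c1_mul hcm hco
      obtain ⟨-, h1, -⟩ := hpow _ (mul_not_mem_center hcm hco hu₀) fun u hu => e.ge (mem_inf.2
        ⟨hj u₀ hu₀p (hc u hu), mem_c1.2 (hb v hvH u (hc u hu) (cop_of_pe' hk hu)).symm⟩)
      have e2 := eq_of_le_of_index (e.le.trans inf_le_left) (h1.trans (hlg u₀ hu₀p hu₀).symm)
      exact (hj u₀ hu₀p).trans (e2.ge.trans (e.le.trans inf_le_right))
    · exact hj v (cop_of_pe hr hp e hk)
  let K : Subgroup G :=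
    { carrier := {a | (orderOf a).Coprime m}
      one_mem' := by simp
      mul_mem' := fun {a b} ha hb => cop_mul ha hb (mem_c1.1 (hj b hb (hc a ha)))
      inv_mem' := fun {a} ha => by change (orderOf a⁻¹).Coprime _; rwa [orderOf_inv] }
  haveI hKn : K.Normal := ⟨fun a ha g => by change (orderOf _).Coprime _; rwa [orderOf_conj']⟩
  have hKc : (Nat.card K).Coprime m := Transfer.coprime_card_of_forall_orderOf fun x hx => hx
  obtain ⟨i, hKi⟩ := index_eq_pow_of_reg hp (H := K) fun u hu => hu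
  refine ⟨hp, ?_, ⟨H, hHn, ?_, hHi, ⟨⟨fun a b => Subtype.ext (mem_c1.1 (hab b b.2 a.2)).eq⟩⟩⟩,
    ⟨K, hKn, hKc, i, hKi⟩, fun P => ?_⟩
  · have h1 : (center G).relIndex K = n := by
      have e1 := relIndex_mul_index (inf_le_right : ℭ[x] ⊓ K ≤ K)
      have e2 := relIndex_mul_index (inf_le_left : ℭ[x] ⊓ K ≤ _)
      obtain ⟨j, -, hj⟩ := (Nat.dvd_prime_pow hp).1 (hKi ▸ relIndex_dvd_index_of_normal K ℭ[x])
      have e3 : ℭ[x] ⊓ K = center G ⊓ K := le_antisymm
        (fun c hc => mem_inf.2 ⟨he x hx c (mem_inf.1 hc).1 (mem_inf.1 hc).2, (mem_inf.1 hc).2⟩)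
        (inf_le_inf_right _ (center_le_c1 x))
      rw [inf_relIndex_left, hj, hsm x hx] at e2
      rw [← e2, e3, inf_relIndex_right, hKi] at e1
      refine eq_of_mul_pow (i := i) (j := j + 1) hp (fun hd => ?_) hpn (by rw [e1]; ring)
      exact hp.ne_one (Nat.eq_one_of_dvd_coprimes hKc (hd.trans (relIndex_dvd_card _ _)) dvd_rfl)
    have h2 := Solv.Frob.card_dvd_card_sub_one (A := zpowers (π x)) (K := K.map π)
      (fun g _ => by
        haveI := hKn.map π (QuotientGroup.mk'_surjective _)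
        exact mem_norm_of_normal _ g) (fun a haz ha1 => by
      obtain ⟨y, hy, rfl⟩ : a ∈ (zpowers x).map π := by rwa [MonoidHom.map_zpowers]
      have hyH : y ∉ H := fun hyH => hx (by
        have h1 : orderOf (π x) = m := orderOf_eq_prime
          (by rw [← map_pow, hπ]; exact ha x hx) fun e => hx' ((hπ x).1 e)
        have h2 : π x ∈ zpowers (π y) := by
          haveI : Fact (Nat.card (zpowers (π x))).Prime := by rw [Nat.card_zpowers, h1]; infer_instance
          obtain ⟨k, hk⟩ := mem_zpowers_of_prime_card (G := zpowers (π x)) rfl (g := ⟨π y, haz⟩)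
            (g' := ⟨π x, mem_zpowers _⟩) (fun e => ha1 (congrArg Subtype.val e))
          exact ⟨k, congrArg Subtype.val hk⟩
        exact zpowers_le.2 (show π y ∈ Subgroup.closure _ from hyH) h2)
      rw [eq_bot_iff]
      intro k hk
      obtain ⟨k, hkK, rfl⟩ := (mem_inf.1 hk).1
      have hyk : ∃ j, y ^ m ^ j = 1 := Amb.isPGroup_iff.1 (Amb.isPGroup_zpowers hxk) y hy
      refine (hπ k).2 (he y hyH k (mem_c1.2 (comm_of_conj_center ((hπ _).1 ?_)
        (cop_of_pe' hyk hkK).symm)) hkK)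
      simp only [map_mul, map_inv]
      rw [(mem_c1.1 (mem_inf.1 hk).2).eq]; group)
    rwa [Nat.card_zpowers, orderOf_eq_prime (by rw [← map_pow, hπ]; exact ha x hx)
      fun e => hx' ((hπ x).1 e), ← relIndex_ker, QuotientGroup.ker_mk', h1] at h2
  · ext y
    constructor
    · intro hy
      exact (Nat.dvd_prime hp).1 (hHi ▸ index_dvd_of_le (hab y hy))
    · intro hy
      by_contra hn'
      rw [Set.mem_setOf_eq, hsm y hn'] at hy
      rcases hy with e | e
      · omega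
      · exact h.not_dvd e.dvd
  · have hcompl := Transfer.isComplement'_sylow_of_index hKc hKi P
    let f : G →* P := (hcompl.symm.QuotientMulEquiv.toMonoidHom).comp (QuotientGroup.mk' K)
    have hf : Function.Surjective f :=
      hcompl.symm.QuotientMulEquiv.surjective.comp (QuotientGroup.mk'_surjective K)
    have h1 := FGS.Sqf.card_commutator_of_isPGroup P.isPGroup' fun y hd => by
      obtain ⟨g, rfl⟩ := hf y
      have h2 := hd.trans (FGS.index_centralizer_map_dvd f hf g)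
      have h3 : (ℭ[g]).index ∣ n * m := by
        by_cases hz : g ∈ center G
        · rw [index_c1_eq_one.2 hz]; exact one_dvd _
        · rcases h.sz g hz with e | e
          · exact e ▸ Dvd.intro_left _ rfl
          · exact e.dvd
      rw [sq] at h2
      exact hpn (Nat.dvd_of_mul_dvd_mul_right hp.pos (h2.trans h3))
    refine ((Nat.dvd_prime hp).1 h1).resolve_left fun e => ?_
    have h2 : commutator P = ⊥ := card_eq_one.1 e
    obtain ⟨y, hyP, hy⟩ := SetLike.not_le_iff_exists.1 fun hle =>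
      not_dvd_index_of_sylow_le P (hle.trans (center_le_c1 x)) (hmd x hx')
    refine not_dvd_index_of_sylow_le P (H := ℭ[y]) (fun c hc => ?_) (hmd y hy)
    have h3 := commutator_mem_commutator (mem_top (⟨c, hc⟩ : (P : Subgroup G))) (mem_top ⟨y, hyP⟩)
    rw [← commutator_def] at h3
    rw [h2, mem_bot, commutatorElement_eq_one_iff_mul_comm] at h3
    exact mem_c1.2 (congrArg Subtype.val h3)

end Cfsg.Agent.Part.Ito
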